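import Cfsg.Agent.E6Deg.Arith

/-!
The numbers just below the bound do not divide the order of `E₈(q)`.
-/

set_option autoImplicit false
set_option maxRecDepth 100000
set_option maxHeartbeats 4000000

namespace Cfsg.Agent.E8Deg

open Cfsg.Agent.E6Deg (strip)

theorem dvd_of_eq' {P a b : ℤ} (h : P ∣ a) (e : a = b) : P ∣ b := e ▸ h

/-- The bound, over the integers. -/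
def BQ8 (q : ℤ) : ℤ := q * (q ^ 12 + 1) * (q ^ 10 + 1) * (q ^ 6 + 1)

/-- The cyclotomic part of the order. -/
def MQ8 (q : ℤ) : ℤ :=
  (q ^ 2 - 1) * (q ^ 8 - 1) * (q ^ 12 - 1) * (q ^ 14 - 1) * (q ^ 18 - 1) * (q ^ 20 - 1) *
    (q ^ 24 - 1) * (q ^ 30 - 1)

theorem MQ8_eq (q : ℤ) : MQ8 q =
    (-1 + q) ^ 8 *
    (1 + q) ^ 8 *
    (1 + q + q ^ 2) ^ 4 *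
    (1 + q ^ 2) ^ 4 *
    (1 + q + q ^ 2 + q ^ 3 + q ^ 4) ^ 2 *
    (1 - q + q ^ 2) ^ 4 *
    (1 + q + q ^ 2 + q ^ 3 + q ^ 4 + q ^ 5 + q ^ 6) ^ 1 *
    (1 + q ^ 4) ^ 2 *
    (1 + q ^ 3 + q ^ 6) ^ 1 *
    (1 - q + q ^ 2 - q ^ 3 + q ^ 4) ^ 2 *
    (1 - q ^ 2 + q ^ 4) ^ 2 *
    (1 - q + q ^ 2 - q ^ 3 + q ^ 4 - q ^ 5 + q ^ 6) ^ 1 *
    (1 - q + q ^ 3 - q ^ 4 + q ^ 5 - q ^ 7 + q ^ 8) ^ 1 *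
    (1 - q ^ 3 + q ^ 6) ^ 1 *
    (1 - q ^ 2 + q ^ 4 - q ^ 6 + q ^ 8) ^ 1 *
    (1 - q ^ 4 + q ^ 8) ^ 1 *
    (1 + q - q ^ 3 - q ^ 4 - q ^ 5 + q ^ 7 + q ^ 8) ^ 1 := by
  have e2 : q ^ 2 - 1 = (-1 + q) * (1 + q) := by ring
  have e8 : q ^ 8 - 1 = (-1 + q) * (1 + q) * (1 + q ^ 2) * (1 + q ^ 4) := by ring
  have e12 : q ^ 12 - 1 = (-1 + q) * (1 + q) * (1 + q + q ^ 2) * (1 + q ^ 2) * (1 - q + q ^ 2) * (1 - q ^ 2 + q ^ 4) := by ring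
  have e14 : q ^ 14 - 1 = (-1 + q) * (1 + q) * (1 + q + q ^ 2 + q ^ 3 + q ^ 4 + q ^ 5 + q ^ 6) * (1 - q + q ^ 2 - q ^ 3 + q ^ 4 - q ^ 5 + q ^ 6) := by ring
  have e18 : q ^ 18 - 1 = (-1 + q) * (1 + q) * (1 + q + q ^ 2) * (1 - q + q ^ 2) * (1 + q ^ 3 + q ^ 6) * (1 - q ^ 3 + q ^ 6) := by ring
  have e20 : q ^ 20 - 1 = (-1 + q) * (1 + q) * (1 + q ^ 2) * (1 + q + q ^ 2 + q ^ 3 + q ^ 4) * (1 - q + q ^ 2 - q ^ 3 + q ^ 4) * (1 - q ^ 2 + q ^ 4 - q ^ 6 + q ^ 8) := by ring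
  have e24 : q ^ 24 - 1 = (-1 + q) * (1 + q) * (1 + q + q ^ 2) * (1 + q ^ 2) * (1 - q + q ^ 2) * (1 + q ^ 4) * (1 - q ^ 2 + q ^ 4) * (1 - q ^ 4 + q ^ 8) := by ring
  have e30 : q ^ 30 - 1 = (-1 + q) * (1 + q) * (1 + q + q ^ 2) * (1 + q + q ^ 2 + q ^ 3 + q ^ 4) * (1 - q + q ^ 2) * (1 - q + q ^ 2 - q ^ 3 + q ^ 4) * (1 - q + q ^ 3 - q ^ 4 + q ^ 5 - q ^ 7 + q ^ 8) * (1 + q - q ^ 3 - q ^ 4 - q ^ 5 + q ^ 7 + q ^ 8) := by ring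
  rw [MQ8, e30, e24, e20, e18, e14, e12, e8, e2]
  generalize (1 + q + q ^ 2 + q ^ 3 + q ^ 4 + q ^ 5 + q ^ 6) = A7
  generalize (1 - q + q ^ 2 - q ^ 3 + q ^ 4 - q ^ 5 + q ^ 6) = A14
  generalize (1 - q + q ^ 3 - q ^ 4 + q ^ 5 - q ^ 7 + q ^ 8) = A15
  generalize (1 + q - q ^ 3 - q ^ 4 - q ^ 5 + q ^ 7 + q ^ 8) = A30
  generalize (1 - q ^ 2 + q ^ 4 - q ^ 6 + q ^ 8) = A20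
  generalize (1 + q + q ^ 2 + q ^ 3 + q ^ 4) = A5
  generalize (1 - q + q ^ 2 - q ^ 3 + q ^ 4) = A10
  generalize (1 + q ^ 3 + q ^ 6) = A9
  generalize (1 - q ^ 2 + q ^ 4) = A12
  generalize (1 - q ^ 3 + q ^ 6) = A18
  generalize (1 - q ^ 4 + q ^ 8) = A24
  generalize (1 + q + q ^ 2) = A3
  generalize (1 - q + q ^ 2) = A6
  generalize (1 + q ^ 2) = A4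
  generalize (1 + q ^ 4) = A8
  generalize (-1 + q) = A1
  generalize (1 + q) = A2
  ring

theorem dvd_const1 {q : ℤ} (h : BQ8 q - 1 ∣ 1 * MQ8 q) :
    (-1 + q ^ 3 + q ^ 5 + q ^ 7 + q ^ 9 + q ^ 11 + q ^ 13 - q ^ 16 + q ^ 19 + q ^ 20 + q ^ 21) ∣ (247349343217114251388359 : ℤ) := by
  set P : ℤ := -1 + q ^ 3 + q ^ 5 + q ^ 7 + q ^ 9 + q ^ 11 + q ^ 13 - q ^ 16 + q ^ 19 + q ^ 20 + q ^ 21 with hP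
  have hdvd : P ∣ BQ8 q - 1 := ⟨(1 - q + q ^ 3 - q ^ 4 + q ^ 5 - q ^ 7 + q ^ 8), by rw [hP, BQ8]; ring⟩
  have h0 := hdvd.trans h
  rw [MQ8_eq] at h0
  have b1 : (7 : ℤ) = (1) * P + (-8 - 8 * q - 8 * q ^ 2 - 7 * q ^ 3 - 7 * q ^ 4 - 6 * q ^ 5 - 6 * q ^ 6 - 5 * q ^ 7 - 5 * q ^ 8 - 4 * q ^ 9 - 4 * q ^ 10 - 3 * q ^ 11 - 3 * q ^ 12 - 2 * q ^ 13 - 2 * q ^ 14 - 2 * q ^ 15 - 3 * q ^ 16 - 3 * q ^ 17 - 3 * q ^ 18 - 2 * q ^ 19 - q ^ 20) * (-1 + q) := by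
    rw [hP]; ring
  have b2 : (9 : ℤ) = (-1) * P + (8 - 8 * q + 8 * q ^ 2 - 7 * q ^ 3 + 7 * q ^ 4 - 6 * q ^ 5 + 6 * q ^ 6 - 5 * q ^ 7 + 5 * q ^ 8 - 4 * q ^ 9 + 4 * q ^ 10 - 3 * q ^ 11 + 3 * q ^ 12 - 2 * q ^ 13 + 2 * q ^ 14 - 2 * q ^ 15 + q ^ 16 - q ^ 17 + q ^ 18 + q ^ 20) * (1 + q) := by
    rw [hP]; ring
  have b3 : (1 : ℤ) = (q) * P + (1 - q ^ 2 + q ^ 3 - q ^ 4 - q ^ 8 + q ^ 9 - q ^ 10 - q ^ 14 + q ^ 15 - q ^ 20) * (1 + q + q ^ 2) := by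
    rw [hP]; ring
  have b4 : (1 : ℤ) = (-1) * P + (q ^ 3 + q ^ 7 + q ^ 11 - q ^ 16 + q ^ 18 + q ^ 19) * (1 + q ^ 2) := by
    rw [hP]; ring
  have b5 : (1 : ℤ) = (-1 - q ^ 3) * P + (q ^ 5 + q ^ 10 + q ^ 20) * (1 + q + q ^ 2 + q ^ 3 + q ^ 4) := by
    rw [hP]; ring
  have b6 : (3 : ℤ) = (-q) * P + (3 + 2 * q - q ^ 2 - 3 * q ^ 3 - q ^ 4 + 2 * q ^ 5 + 4 * q ^ 6 + 2 * q ^ 7 - q ^ 8 - 3 * q ^ 9 - q ^ 10 + 2 * q ^ 11 + 4 * q ^ 12 + 2 * q ^ 13 - q ^ 14 - 3 * q ^ 15 - 2 * q ^ 16 + 2 * q ^ 18 + 2 * q ^ 19 + q ^ 20) * (1 - q + q ^ 2) := by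
    rw [hP]; ring
  have b7 : (7 : ℤ) = (1 + 2 * q + 3 * q ^ 2 - 3 * q ^ 3 + 5 * q ^ 4 - q ^ 5) * P + (8 - 6 * q + q ^ 2 - 7 * q ^ 3 + 7 * q ^ 4 - 8 * q ^ 5 + 6 * q ^ 6 - 2 * q ^ 7 + 5 * q ^ 8 - 10 * q ^ 9 + 4 * q ^ 10 - 4 * q ^ 11 + 3 * q ^ 12 - 5 * q ^ 13 + 9 * q ^ 14 - 5 * q ^ 15 + 3 * q ^ 16 - 4 * q ^ 17 + 3 * q ^ 18 - 5 * q ^ 19 + q ^ 20) * (1 + q + q ^ 2 + q ^ 3 + q ^ 4 + q ^ 5 + q ^ 6) := by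
    rw [hP]; ring
  have b8 : (1 : ℤ) = (-3 + 2 * q - 2 * q ^ 3) * P + (-2 + 2 * q + q ^ 3 + q ^ 5 + 2 * q ^ 7 + 2 * q ^ 9 + q ^ 11 + q ^ 13 - q ^ 15 - q ^ 16 + q ^ 17 + 2 * q ^ 19 + 2 * q ^ 20) * (1 + q ^ 4) := by
    rw [hP]; ring
  have b9 : (19 : ℤ) = (-12 - 3 * q + 4 * q ^ 2 - 11 * q ^ 3 + 2 * q ^ 4 - 9 * q ^ 5) * P + (7 - 3 * q + 4 * q ^ 2 - 6 * q ^ 3 + 8 * q ^ 4 - 5 * q ^ 5 + 13 * q ^ 6 + q ^ 7 + 24 * q ^ 8 - q ^ 9 + 14 * q ^ 10 - 13 * q ^ 11 + 11 * q ^ 12 - 9 * q ^ 13 + 12 * q ^ 14 - 16 * q ^ 15 + 3 * q ^ 16 - 4 * q ^ 17 + 18 * q ^ 18 + 7 * q ^ 19 + 9 * q ^ 20) * (1 + q ^ 3 + q ^ 6) := by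
    rw [hP]; ring
  have b10 : (1 : ℤ) = (1 - 2 * q + 2 * q ^ 2 - q ^ 3) * P + (2 - 3 * q ^ 5 + 3 * q ^ 10 - 2 * q ^ 15 + q ^ 20) * (1 - q + q ^ 2 - q ^ 3 + q ^ 4) := by
    rw [hP]; ring
  have b12 : (1 : ℤ) = (-2 + q + 2 * q ^ 2 - 2 * q ^ 3) * P + (-1 + q + q ^ 2 + q ^ 3 + q ^ 4 + q ^ 6 - q ^ 7 + q ^ 8 - q ^ 9 + q ^ 10 + q ^ 12 + q ^ 13 + q ^ 14 - q ^ 15 - q ^ 17 + q ^ 18 + 2 * q ^ 20) * (1 - q ^ 2 + q ^ 4) := by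
    rw [hP]; ring
  have b14 : (1 : ℤ) = (-1 + q ^ 2 - q ^ 3 + q ^ 4 - q ^ 5) * P + (q ^ 2 + q ^ 3 + q ^ 4 + q ^ 8 + q ^ 12 + q ^ 13 + q ^ 14 - q ^ 15 - q ^ 16 + q ^ 18 + q ^ 19 + q ^ 20) * (1 - q + q ^ 2 - q ^ 3 + q ^ 4 - q ^ 5 + q ^ 6) := by
    rw [hP]; ring
  have b15 : (30841 : ℤ) = (-9496 + 1089 * q + 5904 * q ^ 2 - 7309 * q ^ 3 + 1476 * q ^ 4 - 1239 * q ^ 5 - 600 * q ^ 6 - 129 * q ^ 7) * P + (21345 + 22434 * q + 28338 * q ^ 2 + 9180 * q ^ 3 + 8478 * q ^ 4 - 16418 * q ^ 5 - 14074 * q ^ 6 - 18378 * q ^ 7 + 5886 * q ^ 8 + 3684 * q ^ 9 + 12836 * q ^ 10 + 4660 * q ^ 11 + 7932 * q ^ 12 - 2046 * q ^ 13 + 5730 * q ^ 14 + 7106 * q ^ 15 + 9403 * q ^ 16 + 3060 * q ^ 17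 + 2826 * q ^ 18 + 858 * q ^ 19 + 129 * q ^ 20) * (1 - q + q ^ 3 - q ^ 4 + q ^ 5 - q ^ 7 + q ^ 8) := by
    rw [hP]; ring
  have b18 : (3 : ℤ) = (-q + 2 * q ^ 2 - 3 * q ^ 3 + 2 * q ^ 4 - q ^ 5) * P + (3 - q + 2 * q ^ 2 + 2 * q ^ 4 - q ^ 5 + q ^ 6 - q ^ 7 + 2 * q ^ 8 - 3 * q ^ 9 + 2 * q ^ 10 - q ^ 11 + q ^ 12 - q ^ 13 + 2 * q ^ 14 + q ^ 16 + 2 * q ^ 18 - q ^ 19 + q ^ 20) * (1 - q ^ 3 + q ^ 6) := by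
    rw [hP]; ring
  have b20 : (1 : ℤ) = (q - q ^ 2 - q ^ 3 + 2 * q ^ 4 - q ^ 5 - q ^ 6 + q ^ 7) * P + (1 + q - q ^ 5 - q ^ 11 + q ^ 15 + q ^ 16 - q ^ 20) * (1 - q ^ 2 + q ^ 4 - q ^ 6 + q ^ 8) := by
    rw [hP]; ring
  have b24 : (1 : ℤ) = (q - q ^ 3 - q ^ 5 + q ^ 7) * P + (1 + q - q ^ 3 - q ^ 9 + q ^ 11 - q ^ 13 + q ^ 15 + q ^ 16 + q ^ 17 - q ^ 19 - q ^ 20) * (1 - q ^ 4 + q ^ 8) := by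
    rw [hP]; ring
  have b30 : (1 : ℤ) = (q - q ^ 3 - q ^ 5 + q ^ 7) * P + (1 + q ^ 16 - q ^ 20) * (1 + q - q ^ 3 - q ^ 4 - q ^ 5 + q ^ 7 + q ^ 8) := by
    rw [hP]; ring
  clear_value P
  generalize (1 + q + q ^ 2 + q ^ 3 + q ^ 4 + q ^ 5 + q ^ 6) = A7 at h0 b7
  generalize (1 - q + q ^ 2 - q ^ 3 + q ^ 4 - q ^ 5 + q ^ 6) = A14 at h0 b14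
  generalize (1 - q + q ^ 3 - q ^ 4 + q ^ 5 - q ^ 7 + q ^ 8) = A15 at h0 b15
  generalize (1 + q - q ^ 3 - q ^ 4 - q ^ 5 + q ^ 7 + q ^ 8) = A30 at h0 b30
  generalize (1 - q ^ 2 + q ^ 4 - q ^ 6 + q ^ 8) = A20 at h0 b20
  generalize (1 + q + q ^ 2 + q ^ 3 + q ^ 4) = A5 at h0 b5
  generalize (1 - q + q ^ 2 - q ^ 3 + q ^ 4) = A10 at h0 b10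
  generalize (1 + q ^ 3 + q ^ 6) = A9 at h0 b9
  generalize (1 - q ^ 2 + q ^ 4) = A12 at h0 b12
  generalize (1 - q ^ 3 + q ^ 6) = A18 at h0 b18
  generalize (1 - q ^ 4 + q ^ 8) = A24 at h0 b24
  generalize (1 + q + q ^ 2) = A3 at h0 b3
  generalize (1 - q + q ^ 2) = A6 at h0 b6
  generalize (1 + q ^ 2) = A4 at h0 b4
  generalize (1 + q ^ 4) = A8 at h0 b8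
  generalize (-1 + q) = A1 at h0 b1
  generalize (1 + q) = A2 at h0 b2
  replace h0 : P ∣ (1 : ℤ) * (7 : ℤ) ^ 8 * A2 ^ 8 * A3 ^ 4 * A4 ^ 4 * A5 ^ 2 * A6 ^ 4 * A7 ^ 1 * A8 ^ 2 * A9 ^ 1 * A10 ^ 2 * A12 ^ 2 * A14 ^ 1 * A15 ^ 1 * A18 ^ 1 * A20 ^ 1 * A24 ^ 1 * A30 ^ 1 := by
    have := strip b1 (X := (1 : ℤ) * A2 ^ 8 * A3 ^ 4 * A4 ^ 4 * A5 ^ 2 * A6 ^ 4 * A7 ^ 1 * A8 ^ 2 * A9 ^ 1 * A10 ^ 2 * A12 ^ 2 * A14 ^ 1 * A15 ^ 1 * A18 ^ 1 * A20 ^ 1 * A24 ^ 1 * A30 ^ 1) 8 (dvd_of_eq' h0 (by ring))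
    exact dvd_of_eq' this (by ring)
  replace h0 : P ∣ (1 : ℤ) * (7 : ℤ) ^ 8 * (9 : ℤ) ^ 8 * A3 ^ 4 * A4 ^ 4 * A5 ^ 2 * A6 ^ 4 * A7 ^ 1 * A8 ^ 2 * A9 ^ 1 * A10 ^ 2 * A12 ^ 2 * A14 ^ 1 * A15 ^ 1 * A18 ^ 1 * A20 ^ 1 * A24 ^ 1 * A30 ^ 1 := by
    have := strip b2 (X := (1 : ℤ) * (7 : ℤ) ^ 8 * A3 ^ 4 * A4 ^ 4 * A5 ^ 2 * A6 ^ 4 * A7 ^ 1 * A8 ^ 2 * A9 ^ 1 * A10 ^ 2 * A12 ^ 2 * A14 ^ 1 * A15 ^ 1 * A18 ^ 1 * A20 ^ 1 * A24 ^ 1 * A30 ^ 1) 8 (dvd_of_eq' h0 (by ring))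
    exact dvd_of_eq' this (by ring)
  replace h0 : P ∣ (1 : ℤ) * (7 : ℤ) ^ 8 * (9 : ℤ) ^ 8 * (1 : ℤ) ^ 4 * A4 ^ 4 * A5 ^ 2 * A6 ^ 4 * A7 ^ 1 * A8 ^ 2 * A9 ^ 1 * A10 ^ 2 * A12 ^ 2 * A14 ^ 1 * A15 ^ 1 * A18 ^ 1 * A20 ^ 1 * A24 ^ 1 * A30 ^ 1 := by
    have := strip b3 (X := (1 : ℤ) * (7 : ℤ) ^ 8 * (9 : ℤ) ^ 8 * A4 ^ 4 * A5 ^ 2 * A6 ^ 4 * A7 ^ 1 * A8 ^ 2 * A9 ^ 1 * A10 ^ 2 * A12 ^ 2 * A14 ^ 1 * A15 ^ 1 * A18 ^ 1 * A20 ^ 1 * A24 ^ 1 * A30 ^ 1) 4 (dvd_of_eq' h0 (by ring))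
    exact dvd_of_eq' this (by ring)
  replace h0 : P ∣ (1 : ℤ) * (7 : ℤ) ^ 8 * (9 : ℤ) ^ 8 * (1 : ℤ) ^ 4 * (1 : ℤ) ^ 4 * A5 ^ 2 * A6 ^ 4 * A7 ^ 1 * A8 ^ 2 * A9 ^ 1 * A10 ^ 2 * A12 ^ 2 * A14 ^ 1 * A15 ^ 1 * A18 ^ 1 * A20 ^ 1 * A24 ^ 1 * A30 ^ 1 := by
    have := strip b4 (X := (1 : ℤ) * (7 : ℤ) ^ 8 * (9 : ℤ) ^ 8 * (1 : ℤ) ^ 4 * A5 ^ 2 * A6 ^ 4 * A7 ^ 1 * A8 ^ 2 * A9 ^ 1 * A10 ^ 2 * A12 ^ 2 * A14 ^ 1 * A15 ^ 1 * A18 ^ 1 * A20 ^ 1 * A24 ^ 1 * A30 ^ 1) 4 (dvd_of_eq' h0 (by ring))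
    exact dvd_of_eq' this (by ring)
  replace h0 : P ∣ (1 : ℤ) * (7 : ℤ) ^ 8 * (9 : ℤ) ^ 8 * (1 : ℤ) ^ 4 * (1 : ℤ) ^ 4 * (1 : ℤ) ^ 2 * A6 ^ 4 * A7 ^ 1 * A8 ^ 2 * A9 ^ 1 * A10 ^ 2 * A12 ^ 2 * A14 ^ 1 * A15 ^ 1 * A18 ^ 1 * A20 ^ 1 * A24 ^ 1 * A30 ^ 1 := by
    have := strip b5 (X := (1 : ℤ) * (7 : ℤ) ^ 8 * (9 : ℤ) ^ 8 * (1 : ℤ) ^ 4 * (1 : ℤ) ^ 4 * A6 ^ 4 * A7 ^ 1 * A8 ^ 2 * A9 ^ 1 * A10 ^ 2 * A12 ^ 2 * A14 ^ 1 * A15 ^ 1 * A18 ^ 1 * A20 ^ 1 * A24 ^ 1 * A30 ^ 1) 2 (dvd_of_eq' h0 (by ring))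
    exact dvd_of_eq' this (by ring)
  replace h0 : P ∣ (1 : ℤ) * (7 : ℤ) ^ 8 * (9 : ℤ) ^ 8 * (1 : ℤ) ^ 4 * (1 : ℤ) ^ 4 * (1 : ℤ) ^ 2 * (3 : ℤ) ^ 4 * A7 ^ 1 * A8 ^ 2 * A9 ^ 1 * A10 ^ 2 * A12 ^ 2 * A14 ^ 1 * A15 ^ 1 * A18 ^ 1 * A20 ^ 1 * A24 ^ 1 * A30 ^ 1 := by
    have := strip b6 (X := (1 : ℤ) * (7 : ℤ) ^ 8 * (9 : ℤ) ^ 8 * (1 : ℤ) ^ 4 * (1 : ℤ) ^ 4 * (1 : ℤ) ^ 2 * A7 ^ 1 * A8 ^ 2 * A9 ^ 1 * A10 ^ 2 * A12 ^ 2 * A14 ^ 1 * A15 ^ 1 * A18 ^ 1 * A20 ^ 1 * A24 ^ 1 * A30 ^ 1) 4 (dvd_of_eq' h0 (by ring))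
    exact dvd_of_eq' this (by ring)
  replace h0 : P ∣ (1 : ℤ) * (7 : ℤ) ^ 8 * (9 : ℤ) ^ 8 * (1 : ℤ) ^ 4 * (1 : ℤ) ^ 4 * (1 : ℤ) ^ 2 * (3 : ℤ) ^ 4 * (7 : ℤ) ^ 1 * A8 ^ 2 * A9 ^ 1 * A10 ^ 2 * A12 ^ 2 * A14 ^ 1 * A15 ^ 1 * A18 ^ 1 * A20 ^ 1 * A24 ^ 1 * A30 ^ 1 := by
    have := strip b7 (X := (1 : ℤ) * (7 : ℤ) ^ 8 * (9 : ℤ) ^ 8 * (1 : ℤ) ^ 4 * (1 : ℤ) ^ 4 * (1 : ℤ) ^ 2 * (3 : ℤ) ^ 4 * A8 ^ 2 * A9 ^ 1 * A10 ^ 2 * A12 ^ 2 * A14 ^ 1 * A15 ^ 1 * A18 ^ 1 * A20 ^ 1 * A24 ^ 1 * A30 ^ 1) 1 (dvd_of_eq' h0 (by ring))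
    exact dvd_of_eq' this (by ring)
  replace h0 : P ∣ (1 : ℤ) * (7 : ℤ) ^ 8 * (9 : ℤ) ^ 8 * (1 : ℤ) ^ 4 * (1 : ℤ) ^ 4 * (1 : ℤ) ^ 2 * (3 : ℤ) ^ 4 * (7 : ℤ) ^ 1 * (1 : ℤ) ^ 2 * A9 ^ 1 * A10 ^ 2 * A12 ^ 2 * A14 ^ 1 * A15 ^ 1 * A18 ^ 1 * A20 ^ 1 * A24 ^ 1 * A30 ^ 1 := by
    have := strip b8 (X := (1 : ℤ) * (7 : ℤ) ^ 8 * (9 : ℤ) ^ 8 * (1 : ℤ) ^ 4 * (1 : ℤ) ^ 4 * (1 : ℤ) ^ 2 * (3 : ℤ) ^ 4 * (7 : ℤ) ^ 1 * A9 ^ 1 * A10 ^ 2 * A12 ^ 2 * A14 ^ 1 * A15 ^ 1 * A18 ^ 1 * A20 ^ 1 * A24 ^ 1 * A30 ^ 1) 2 (dvd_of_eq' h0 (by ring))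
    exact dvd_of_eq' this (by ring)
  replace h0 : P ∣ (1 : ℤ) * (7 : ℤ) ^ 8 * (9 : ℤ) ^ 8 * (1 : ℤ) ^ 4 * (1 : ℤ) ^ 4 * (1 : ℤ) ^ 2 * (3 : ℤ) ^ 4 * (7 : ℤ) ^ 1 * (1 : ℤ) ^ 2 * (19 : ℤ) ^ 1 * A10 ^ 2 * A12 ^ 2 * A14 ^ 1 * A15 ^ 1 * A18 ^ 1 * A20 ^ 1 * A24 ^ 1 * A30 ^ 1 := by
    have := strip b9 (X := (1 : ℤ) * (7 : ℤ) ^ 8 * (9 : ℤ) ^ 8 * (1 : ℤ) ^ 4 * (1 : ℤ) ^ 4 * (1 : ℤ) ^ 2 * (3 : ℤ) ^ 4 * (7 : ℤ) ^ 1 * (1 : ℤ) ^ 2 * A10 ^ 2 * A12 ^ 2 * A14 ^ 1 * A15 ^ 1 * A18 ^ 1 * A20 ^ 1 * A24 ^ 1 * A30 ^ 1) 1 (dvd_of_eq' h0 (by ring))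
    exact dvd_of_eq' this (by ring)
  replace h0 : P ∣ (1 : ℤ) * (7 : ℤ) ^ 8 * (9 : ℤ) ^ 8 * (1 : ℤ) ^ 4 * (1 : ℤ) ^ 4 * (1 : ℤ) ^ 2 * (3 : ℤ) ^ 4 * (7 : ℤ) ^ 1 * (1 : ℤ) ^ 2 * (19 : ℤ) ^ 1 * (1 : ℤ) ^ 2 * A12 ^ 2 * A14 ^ 1 * A15 ^ 1 * A18 ^ 1 * A20 ^ 1 * A24 ^ 1 * A30 ^ 1 := by
    have := strip b10 (X := (1 : ℤ) * (7 : ℤ) ^ 8 * (9 : ℤ) ^ 8 * (1 : ℤ) ^ 4 * (1 : ℤ) ^ 4 * (1 : ℤ) ^ 2 * (3 : ℤ) ^ 4 * (7 : ℤ) ^ 1 * (1 : ℤ) ^ 2 * (19 : ℤ) ^ 1 * A12 ^ 2 * A14 ^ 1 * A15 ^ 1 * A18 ^ 1 * A20 ^ 1 * A24 ^ 1 * A30 ^ 1) 2 (dvd_of_eq' h0 (by ring))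
    exact dvd_of_eq' this (by ring)
  replace h0 : P ∣ (1 : ℤ) * (7 : ℤ) ^ 8 * (9 : ℤ) ^ 8 * (1 : ℤ) ^ 4 * (1 : ℤ) ^ 4 * (1 : ℤ) ^ 2 * (3 : ℤ) ^ 4 * (7 : ℤ) ^ 1 * (1 : ℤ) ^ 2 * (19 : ℤ) ^ 1 * (1 : ℤ) ^ 2 * (1 : ℤ) ^ 2 * A14 ^ 1 * A15 ^ 1 * A18 ^ 1 * A20 ^ 1 * A24 ^ 1 * A30 ^ 1 := by
    have := strip b12 (X := (1 : ℤ) * (7 : ℤ) ^ 8 * (9 : ℤ) ^ 8 * (1 : ℤ) ^ 4 * (1 : ℤ) ^ 4 * (1 : ℤ) ^ 2 * (3 : ℤ) ^ 4 * (7 : ℤ) ^ 1 * (1 : ℤ) ^ 2 * (19 : ℤ) ^ 1 * (1 : ℤ) ^ 2 * A14 ^ 1 * A15 ^ 1 * A18 ^ 1 * A20 ^ 1 * A24 ^ 1 * A30 ^ 1) 2 (dvd_of_eq' h0 (by ring))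
    exact dvd_of_eq' this (by ring)
  replace h0 : P ∣ (1 : ℤ) * (7 : ℤ) ^ 8 * (9 : ℤ) ^ 8 * (1 : ℤ) ^ 4 * (1 : ℤ) ^ 4 * (1 : ℤ) ^ 2 * (3 : ℤ) ^ 4 * (7 : ℤ) ^ 1 * (1 : ℤ) ^ 2 * (19 : ℤ) ^ 1 * (1 : ℤ) ^ 2 * (1 : ℤ) ^ 2 * (1 : ℤ) ^ 1 * A15 ^ 1 * A18 ^ 1 * A20 ^ 1 * A24 ^ 1 * A30 ^ 1 := by
    have := strip b14 (X := (1 : ℤ) * (7 : ℤ) ^ 8 * (9 : ℤ) ^ 8 * (1 : ℤ) ^ 4 * (1 : ℤ) ^ 4 * (1 : ℤ) ^ 2 * (3 : ℤ) ^ 4 * (7 : ℤ) ^ 1 * (1 : ℤ) ^ 2 * (19 : ℤ) ^ 1 * (1 : ℤ) ^ 2 * (1 : ℤ) ^ 2 * A15 ^ 1 * A18 ^ 1 * A20 ^ 1 * A24 ^ 1 * A30 ^ 1) 1 (dvd_of_eq' h0 (by ring))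
    exact dvd_of_eq' this (by ring)
  replace h0 : P ∣ (1 : ℤ) * (7 : ℤ) ^ 8 * (9 : ℤ) ^ 8 * (1 : ℤ) ^ 4 * (1 : ℤ) ^ 4 * (1 : ℤ) ^ 2 * (3 : ℤ) ^ 4 * (7 : ℤ) ^ 1 * (1 : ℤ) ^ 2 * (19 : ℤ) ^ 1 * (1 : ℤ) ^ 2 * (1 : ℤ) ^ 2 * (1 : ℤ) ^ 1 * (30841 : ℤ) ^ 1 * A18 ^ 1 * A20 ^ 1 * A24 ^ 1 * A30 ^ 1 := by
    have := strip b15 (X := (1 : ℤ) * (7 : ℤ) ^ 8 * (9 : ℤ) ^ 8 * (1 : ℤ) ^ 4 * (1 : ℤ) ^ 4 * (1 : ℤ) ^ 2 * (3 : ℤ) ^ 4 * (7 : ℤ) ^ 1 * (1 : ℤ) ^ 2 * (19 : ℤ) ^ 1 * (1 : ℤ) ^ 2 * (1 : ℤ) ^ 2 * (1 : ℤ) ^ 1 * A18 ^ 1 * A20 ^ 1 * A24 ^ 1 * A30 ^ 1) 1 (dvd_of_eq' h0 (by ring))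
    exact dvd_of_eq' this (by ring)
  replace h0 : P ∣ (1 : ℤ) * (7 : ℤ) ^ 8 * (9 : ℤ) ^ 8 * (1 : ℤ) ^ 4 * (1 : ℤ) ^ 4 * (1 : ℤ) ^ 2 * (3 : ℤ) ^ 4 * (7 : ℤ) ^ 1 * (1 : ℤ) ^ 2 * (19 : ℤ) ^ 1 * (1 : ℤ) ^ 2 * (1 : ℤ) ^ 2 * (1 : ℤ) ^ 1 * (30841 : ℤ) ^ 1 * (3 : ℤ) ^ 1 * A20 ^ 1 * A24 ^ 1 * A30 ^ 1 := by
    have := strip b18 (X := (1 : ℤ) * (7 : ℤ) ^ 8 * (9 : ℤ) ^ 8 * (1 : ℤ) ^ 4 * (1 : ℤ) ^ 4 * (1 : ℤ) ^ 2 * (3 : ℤ) ^ 4 * (7 : ℤ) ^ 1 * (1 : ℤ) ^ 2 * (19 : ℤ) ^ 1 * (1 : ℤ) ^ 2 * (1 : ℤ) ^ 2 * (1 : ℤ) ^ 1 * (30841 : ℤ) ^ 1 * A20 ^ 1 * A24 ^ 1 * A30 ^ 1) 1 (dvd_of_eq' h0 (by ring))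
    exact dvd_of_eq' this (by ring)
  replace h0 : P ∣ (1 : ℤ) * (7 : ℤ) ^ 8 * (9 : ℤ) ^ 8 * (1 : ℤ) ^ 4 * (1 : ℤ) ^ 4 * (1 : ℤ) ^ 2 * (3 : ℤ) ^ 4 * (7 : ℤ) ^ 1 * (1 : ℤ) ^ 2 * (19 : ℤ) ^ 1 * (1 : ℤ) ^ 2 * (1 : ℤ) ^ 2 * (1 : ℤ) ^ 1 * (30841 : ℤ) ^ 1 * (3 : ℤ) ^ 1 * (1 : ℤ) ^ 1 * A24 ^ 1 * A30 ^ 1 := by
    have := strip b20 (X := (1 : ℤ) * (7 : ℤ) ^ 8 * (9 : ℤ) ^ 8 * (1 : ℤ) ^ 4 * (1 : ℤ) ^ 4 * (1 : ℤ) ^ 2 * (3 : ℤ) ^ 4 * (7 : ℤ) ^ 1 * (1 : ℤ) ^ 2 * (19 : ℤ) ^ 1 * (1 : ℤ) ^ 2 * (1 : ℤ) ^ 2 * (1 : ℤ) ^ 1 * (30841 : ℤ) ^ 1 * (3 : ℤ) ^ 1 * A24 ^ 1 * A30 ^ 1) 1 (dvd_of_eq' h0 (by ring))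
    exact dvd_of_eq' this (by ring)
  replace h0 : P ∣ (1 : ℤ) * (7 : ℤ) ^ 8 * (9 : ℤ) ^ 8 * (1 : ℤ) ^ 4 * (1 : ℤ) ^ 4 * (1 : ℤ) ^ 2 * (3 : ℤ) ^ 4 * (7 : ℤ) ^ 1 * (1 : ℤ) ^ 2 * (19 : ℤ) ^ 1 * (1 : ℤ) ^ 2 * (1 : ℤ) ^ 2 * (1 : ℤ) ^ 1 * (30841 : ℤ) ^ 1 * (3 : ℤ) ^ 1 * (1 : ℤ) ^ 1 * (1 : ℤ) ^ 1 * A30 ^ 1 := by
    have := strip b24 (X := (1 : ℤ) * (7 : ℤ) ^ 8 * (9 : ℤ) ^ 8 * (1 : ℤ) ^ 4 * (1 : ℤ) ^ 4 * (1 : ℤ) ^ 2 * (3 : ℤ) ^ 4 * (7 : ℤ) ^ 1 * (1 : ℤ) ^ 2 * (19 : ℤ) ^ 1 * (1 : ℤ) ^ 2 * (1 : ℤ) ^ 2 * (1 : ℤ) ^ 1 * (30841 : ℤ) ^ 1 * (3 : ℤ) ^ 1 * (1 : ℤ) ^ 1 * A30 ^ 1) 1 (dvd_of_eq' h0 (by ring))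
    exact dvd_of_eq' this (by ring)
  replace h0 : P ∣ (1 : ℤ) * (7 : ℤ) ^ 8 * (9 : ℤ) ^ 8 * (1 : ℤ) ^ 4 * (1 : ℤ) ^ 4 * (1 : ℤ) ^ 2 * (3 : ℤ) ^ 4 * (7 : ℤ) ^ 1 * (1 : ℤ) ^ 2 * (19 : ℤ) ^ 1 * (1 : ℤ) ^ 2 * (1 : ℤ) ^ 2 * (1 : ℤ) ^ 1 * (30841 : ℤ) ^ 1 * (3 : ℤ) ^ 1 * (1 : ℤ) ^ 1 * (1 : ℤ) ^ 1 * (1 : ℤ) ^ 1 := by
    have := strip b30 (X := (1 : ℤ) * (7 : ℤ) ^ 8 * (9 : ℤ) ^ 8 * (1 : ℤ) ^ 4 * (1 : ℤ) ^ 4 * (1 : ℤ) ^ 2 * (3 : ℤ) ^ 4 * (7 : ℤ) ^ 1 * (1 : ℤ) ^ 2 * (19 : ℤ) ^ 1 * (1 : ℤ) ^ 2 * (1 : ℤ) ^ 2 * (1 : ℤ) ^ 1 * (30841 : ℤ) ^ 1 * (3 : ℤ) ^ 1 * (1 : ℤ) ^ 1 * (1 : ℤ) ^ 1) 1 (dvd_of_eq' h0 (by ring))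
    exact dvd_of_eq' this (by ring)
  convert h0 using 1
  norm_num

theorem small1 : ∀ q : Fin 15, 3 ≤ q.1 →
    ¬ (q.1 * (q.1 ^ 12 + 1) * (q.1 ^ 10 + 1) * (q.1 ^ 6 + 1) - 1) ∣
      q.1 ^ 120 * (([2, 8, 12, 14, 18, 20, 24, 30] : List ℕ).map fun d => q.1 ^ d - 1).prod := by
  decide +kernel

theorem large1 {q : ℤ} (hq : 15 ≤ q) (h : BQ8 q - 1 ∣ 1 * MQ8 q) : False := by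
  have hle := Int.le_of_dvd (by norm_num) (dvd_const1 h)
  obtain ⟨r, hr, rfl⟩ : ∃ r, 0 ≤ r ∧ q = r + 15 := ⟨q - 15, by omega, by ring⟩
  have h2 : (15 : ℤ) ^ 20 ≤ (r + 15) ^ 20 := pow_le_pow_left₀ (by norm_num) (by omega) _
  have h3 : 0 ≤ (-1 + (r + 15) ^ 3 + (r + 15) ^ 5 + (r + 15) ^ 7 + (r + 15) ^ 9 + (r + 15) ^ 11 + (r + 15) ^ 13 - (r + 15) ^ 16 + (r + 15) ^ 19 + (r + 15) ^ 20 + (r + 15) ^ 21) - (r + 15) ^ 20 := by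
    ring_nf
    positivity
  norm_num at h2
  linarith

theorem dvd_const2 {q : ℤ} (h : BQ8 q - 2 ∣ 2 * MQ8 q) :
    (-2 - q + q ^ 2 + 2 * q ^ 5 + q ^ 6 + q ^ 8 - 2 * q ^ 10 + q ^ 12 + q ^ 14 + 2 * q ^ 15 + q ^ 18 - q ^ 20 + q ^ 24 + q ^ 25) ∣ (1247381779954503988707065856 : ℤ) := by
  set P : ℤ := -2 - q + q ^ 2 + 2 * q ^ 5 + q ^ 6 + q ^ 8 - 2 * q ^ 10 + q ^ 12 + q ^ 14 + 2 * q ^ 15 + q ^ 18 - q ^ 20 + q ^ 24 + q ^ 25 with hP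
  have hdvd : P ∣ BQ8 q - 2 := ⟨(1 - q + q ^ 2 - q ^ 3 + q ^ 4), by rw [hP, BQ8]; ring⟩
  have h0 := hdvd.trans h
  rw [MQ8_eq] at h0
  have b1 : (6 : ℤ) = (1) * P + (-8 - 9 * q - 8 * q ^ 2 - 8 * q ^ 3 - 8 * q ^ 4 - 6 * q ^ 5 - 5 * q ^ 6 - 5 * q ^ 7 - 4 * q ^ 8 - 4 * q ^ 9 - 6 * q ^ 10 - 6 * q ^ 11 - 5 * q ^ 12 - 5 * q ^ 13 - 4 * q ^ 14 - 2 * q ^ 15 - 2 * q ^ 16 - 2 * q ^ 17 - q ^ 18 - q ^ 19 - 2 * q ^ 20 - 2 * q ^ 21 - 2 * q ^ 22 - 2 * q ^ 23 - q ^ 24) * (-1 + q) := by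
    rw [hP]; ring
  have b2 : (2 : ℤ) = (-1) * P + (-q + 2 * q ^ 2 - 2 * q ^ 3 + 2 * q ^ 4 + q ^ 6 - q ^ 7 + 2 * q ^ 8 - 2 * q ^ 9 + q ^ 12 - q ^ 13 + 2 * q ^ 14 + q ^ 18 - q ^ 19 + q ^ 24) * (1 + q) := by
    rw [hP]; ring
  have b3 : (6 : ℤ) = (1 + q) * P + (8 - 5 * q - 3 * q ^ 2 + 7 * q ^ 3 - 4 * q ^ 4 - 5 * q ^ 5 + 6 * q ^ 6 - 2 * q ^ 7 - 5 * q ^ 8 + 6 * q ^ 9 + q ^ 10 - 5 * q ^ 11 + 3 * q ^ 12 + q ^ 13 - 5 * q ^ 14 + q ^ 15 + 2 * q ^ 16 - 3 * q ^ 17 + 2 * q ^ 19 - q ^ 20 + q ^ 22 - q ^ 23 - q ^ 24) * (1 + q + q ^ 2) := by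
    rw [hP]; ring
  have b4 : (2 : ℤ) = (-1) * P + (-q + q ^ 2 + q ^ 3 - q ^ 4 + q ^ 5 + 2 * q ^ 6 - q ^ 7 - q ^ 8 + q ^ 9 - q ^ 10 - q ^ 11 + 2 * q ^ 12 + q ^ 13 - q ^ 14 + q ^ 15 + q ^ 16 - q ^ 17 + q ^ 19 - q ^ 20 - q ^ 21 + q ^ 22 + q ^ 23) * (1 + q ^ 2) := by
    rw [hP]; ring
  have b5 : (2 : ℤ) = (q + q ^ 3) * P + (2 - q ^ 2 - q ^ 6 - q ^ 8 + 2 * q ^ 10 - q ^ 12 - q ^ 14 - q ^ 18 + q ^ 20 - q ^ 24) * (1 + q + q ^ 2 + q ^ 3 + q ^ 4) := by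
    rw [hP]; ring
  have b6 : (2 : ℤ) = (1 - q) * P + (4 + 3 * q - 3 * q ^ 2 - 5 * q ^ 3 - 2 * q ^ 4 + q ^ 5 + 4 * q ^ 6 + 4 * q ^ 7 - q ^ 8 - 4 * q ^ 9 - q ^ 10 + q ^ 11 + q ^ 12 + q ^ 13 - q ^ 14 - 3 * q ^ 15 + 3 * q ^ 17 + 2 * q ^ 18 - q ^ 20 - 2 * q ^ 21 - q ^ 22 + q ^ 23 + q ^ 24) * (1 - q + q ^ 2) := by
    rw [hP]; ring
  have b7 : (127 : ℤ) = (-58 + 40 * q - 38 * q ^ 2 + 50 * q ^ 3 - 33 * q ^ 4 - 11 * q ^ 5) * P + (11 + 11 * q - 11 * q ^ 5 - 11 * q ^ 6 + 58 * q ^ 7 - 40 * q ^ 8 - 20 * q ^ 9 + q ^ 10 + 64 * q ^ 11 - 37 * q ^ 12 + 45 * q ^ 13 + 17 * q ^ 14 - 66 * q ^ 15 - 33 * q ^ 16 + 47 * q ^ 17 + 18 * q ^ 18 + 9 * q ^ 19 + 10 * q ^ 20 + 5 * q ^ 21 - 61 *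 q ^ 22 + 33 * q ^ 23 + 11 * q ^ 24) * (1 + q + q ^ 2 + q ^ 3 + q ^ 4 + q ^ 5 + q ^ 6) := by
    rw [hP]; ring
  have b8 : (2 : ℤ) = (q - q ^ 2 + q ^ 3) * P + (2 + 2 * q - q ^ 2 - 3 * q ^ 5 - q ^ 6 + q ^ 7 - q ^ 8 + q ^ 9 + 2 * q ^ 10 - q ^ 12 - q ^ 14 - 2 * q ^ 15 + q ^ 17 - q ^ 18 + q ^ 19 + q ^ 20 - q ^ 21 - q ^ 24) * (1 + q ^ 4) := by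
    rw [hP]; ring
  have b9 : (57 : ℤ) = (-17 + 18 * q - 28 * q ^ 2 + 35 * q ^ 3 - 27 * q ^ 4 + 4 * q ^ 5) * P + (23 + 19 * q - 21 * q ^ 2 + q ^ 3 - 10 * q ^ 4 + q ^ 5 - 12 * q ^ 6 + 25 * q ^ 7 - 5 * q ^ 8 + 12 * q ^ 9 - 2 * q ^ 10 + q ^ 11 - 12 * q ^ 12 + 25 * q ^ 13 - 5 * q ^ 14 - 11 * q ^ 15 - 4 * q ^ 16 + 21 * q ^ 17 - 3 * q ^ 18 + 11 * q ^ 19 - 13 * q ^ 20 - 3 * q ^ 21 - 8 * q ^ 22 + 23 * q ^ 23 - 4 * q ^ 24) * (1 + q ^ 3 + q ^ 6) := by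
    rw [hP]; ring
  have b10 : (12 : ℤ) = (-1) * P + (10 + 9 * q + q ^ 3 - 8 * q ^ 5 - 6 * q ^ 6 + q ^ 7 + q ^ 9 + 6 * q ^ 10 + 4 * q ^ 11 + q ^ 13 - 3 * q ^ 15 - 2 * q ^ 16 + q ^ 19 + 2 * q ^ 20 + q ^ 21) * (1 - q + q ^ 2 - q ^ 3 + q ^ 4) := by
    rw [hP]; ring
  have b12 : (2 : ℤ) = (q - 2 * q ^ 2 + q ^ 3) * P + (2 + 2 * q - q ^ 2 + q ^ 3 - 2 * q ^ 5 - q ^ 6 - q ^ 8 + 2 * q ^ 10 + q ^ 11 - q ^ 12 + 2 * q ^ 13 - q ^ 14 - q ^ 15 - q ^ 18 + q ^ 20 + q ^ 23 - q ^ 24) * (1 - q ^ 2 + q ^ 4) := by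
    rw [hP]; ring
  have b14 : (43 : ℤ) = (-16 + 8 * q - 12 * q ^ 2 + 10 * q ^ 3 - 11 * q ^ 4 - 11 * q ^ 5) * P + (11 + 11 * q - 11 * q ^ 5 - 11 * q ^ 6 + 16 * q ^ 7 + 24 * q ^ 8 + 12 * q ^ 9 + 17 * q ^ 10 + 30 * q ^ 11 + 31 * q ^ 12 + 37 * q ^ 13 + 13 * q ^ 14 - 26 * q ^ 15 - 13 * q ^ 16 + 15 * q ^ 17 + 2 * q ^ 18 + q ^ 19 + 6 * q ^ 20 + 3 * q ^ 21 + 23 * q ^ 22 + 33 * q ^ 23 + 11 * q ^ 24) * (1 - q + q ^ 2 - q ^ 3 + q ^ 4 - q ^ 5 + q ^ 6) := by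
    rw [hP]; ring
  have b15 : (1 : ℤ) = (-1 + q - q ^ 2 + q ^ 3 - q ^ 4) * P + (-1 + q ^ 3 + q ^ 5 + q ^ 7 + q ^ 9 + q ^ 11 + q ^ 13 - q ^ 16 + q ^ 19 + q ^ 20 + q ^ 21) * (1 - q + q ^ 3 - q ^ 4 + q ^ 5 - q ^ 7 + q ^ 8) := by
    rw [hP]; ring
  have b18 : (127 : ℤ) = (-59 + 20 * q - 24 * q ^ 2 + 37 * q ^ 3 - 19 * q ^ 4 - 28 * q ^ 5) * P + (9 - 19 * q + 31 * q ^ 2 + 39 * q ^ 3 + 4 * q ^ 4 + 37 * q ^ 5 + 40 * q ^ 6 + 79 * q ^ 7 + 15 * q ^ 8 - 18 * q ^ 9 + 56 * q ^ 10 + 9 * q ^ 11 - 28 * q ^ 12 + 59 * q ^ 13 + 39 * q ^ 14 - 5 * q ^ 15 + 6 * q ^ 16 + 69 * q ^ 17 + 27 * q ^ 18 - 7 * q ^ 19 + 51 * q ^ 20 + 15 * q ^ 21 - 18 * q ^ 22 + 47 * q ^ 23 + 28 * q ^ 24) * (1 -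 q ^ 3 + q ^ 6) := by
    rw [hP]; ring
  have b20 : (2 : ℤ) = (-1 + q - q ^ 2 + q ^ 3 - q ^ 4) * P + (q + q ^ 3 + q ^ 7 + q ^ 9 + q ^ 13 + q ^ 15 + q ^ 19 + q ^ 21) * (1 - q ^ 2 + q ^ 4 - q ^ 6 + q ^ 8) := by
    rw [hP]; ring
  have b24 : (2 : ℤ) = (-1 + q - q ^ 2 + q ^ 3 - q ^ 4) * P + (q + q ^ 5 + q ^ 7 + 2 * q ^ 11 + q ^ 15 + q ^ 17 + q ^ 21) * (1 - q ^ 4 + q ^ 8) := by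
    rw [hP]; ring
  have b30 : (3 : ℤ) = (-1 + q - q ^ 2 + q ^ 3 - q ^ 4) * P + (1 + q ^ 3 + q ^ 5 + q ^ 7 + q ^ 9 + q ^ 11 + q ^ 13 + q ^ 16 + q ^ 19 - q ^ 20 + q ^ 21) * (1 + q - q ^ 3 - q ^ 4 - q ^ 5 + q ^ 7 + q ^ 8) := by
    rw [hP]; ring
  clear_value P
  generalize (1 + q + q ^ 2 + q ^ 3 + q ^ 4 + q ^ 5 + q ^ 6) = A7 at h0 b7
  generalize (1 - q + q ^ 2 - q ^ 3 + q ^ 4 - q ^ 5 + q ^ 6) = A14 at h0 b14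
  generalize (1 - q + q ^ 3 - q ^ 4 + q ^ 5 - q ^ 7 + q ^ 8) = A15 at h0 b15
  generalize (1 + q - q ^ 3 - q ^ 4 - q ^ 5 + q ^ 7 + q ^ 8) = A30 at h0 b30
  generalize (1 - q ^ 2 + q ^ 4 - q ^ 6 + q ^ 8) = A20 at h0 b20
  generalize (1 + q + q ^ 2 + q ^ 3 + q ^ 4) = A5 at h0 b5
  generalize (1 - q + q ^ 2 - q ^ 3 + q ^ 4) = A10 at h0 b10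
  generalize (1 + q ^ 3 + q ^ 6) = A9 at h0 b9
  generalize (1 - q ^ 2 + q ^ 4) = A12 at h0 b12
  generalize (1 - q ^ 3 + q ^ 6) = A18 at h0 b18
  generalize (1 - q ^ 4 + q ^ 8) = A24 at h0 b24
  generalize (1 + q + q ^ 2) = A3 at h0 b3
  generalize (1 - q + q ^ 2) = A6 at h0 b6
  generalize (1 + q ^ 2) = A4 at h0 b4
  generalize (1 + q ^ 4) = A8 at h0 b8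
  generalize (-1 + q) = A1 at h0 b1
  generalize (1 + q) = A2 at h0 b2
  replace h0 : P ∣ (2 : ℤ) * (6 : ℤ) ^ 8 * A2 ^ 8 * A3 ^ 4 * A4 ^ 4 * A5 ^ 2 * A6 ^ 4 * A7 ^ 1 * A8 ^ 2 * A9 ^ 1 * A10 ^ 2 * A12 ^ 2 * A14 ^ 1 * A15 ^ 1 * A18 ^ 1 * A20 ^ 1 * A24 ^ 1 * A30 ^ 1 := by
    have := strip b1 (X := (2 : ℤ) * A2 ^ 8 * A3 ^ 4 * A4 ^ 4 * A5 ^ 2 * A6 ^ 4 * A7 ^ 1 * A8 ^ 2 * A9 ^ 1 * A10 ^ 2 * A12 ^ 2 * A14 ^ 1 * A15 ^ 1 * A18 ^ 1 * A20 ^ 1 * A24 ^ 1 * A30 ^ 1) 8 (dvd_of_eq' h0 (by ring))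
    exact dvd_of_eq' this (by ring)
  replace h0 : P ∣ (2 : ℤ) * (6 : ℤ) ^ 8 * (2 : ℤ) ^ 8 * A3 ^ 4 * A4 ^ 4 * A5 ^ 2 * A6 ^ 4 * A7 ^ 1 * A8 ^ 2 * A9 ^ 1 * A10 ^ 2 * A12 ^ 2 * A14 ^ 1 * A15 ^ 1 * A18 ^ 1 * A20 ^ 1 * A24 ^ 1 * A30 ^ 1 := by
    have := strip b2 (X := (2 : ℤ) * (6 : ℤ) ^ 8 * A3 ^ 4 * A4 ^ 4 * A5 ^ 2 * A6 ^ 4 * A7 ^ 1 * A8 ^ 2 * A9 ^ 1 * A10 ^ 2 * A12 ^ 2 * A14 ^ 1 * A15 ^ 1 * A18 ^ 1 * A20 ^ 1 * A24 ^ 1 * A30 ^ 1) 8 (dvd_of_eq' h0 (by ring))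
    exact dvd_of_eq' this (by ring)
  replace h0 : P ∣ (2 : ℤ) * (6 : ℤ) ^ 8 * (2 : ℤ) ^ 8 * (6 : ℤ) ^ 4 * A4 ^ 4 * A5 ^ 2 * A6 ^ 4 * A7 ^ 1 * A8 ^ 2 * A9 ^ 1 * A10 ^ 2 * A12 ^ 2 * A14 ^ 1 * A15 ^ 1 * A18 ^ 1 * A20 ^ 1 * A24 ^ 1 * A30 ^ 1 := by
    have := strip b3 (X := (2 : ℤ) * (6 : ℤ) ^ 8 * (2 : ℤ) ^ 8 * A4 ^ 4 * A5 ^ 2 * A6 ^ 4 * A7 ^ 1 * A8 ^ 2 * A9 ^ 1 * A10 ^ 2 * A12 ^ 2 * A14 ^ 1 * A15 ^ 1 * A18 ^ 1 * A20 ^ 1 * A24 ^ 1 * A30 ^ 1) 4 (dvd_of_eq' h0 (by ring))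
    exact dvd_of_eq' this (by ring)
  replace h0 : P ∣ (2 : ℤ) * (6 : ℤ) ^ 8 * (2 : ℤ) ^ 8 * (6 : ℤ) ^ 4 * (2 : ℤ) ^ 4 * A5 ^ 2 * A6 ^ 4 * A7 ^ 1 * A8 ^ 2 * A9 ^ 1 * A10 ^ 2 * A12 ^ 2 * A14 ^ 1 * A15 ^ 1 * A18 ^ 1 * A20 ^ 1 * A24 ^ 1 * A30 ^ 1 := by
    have := strip b4 (X := (2 : ℤ) * (6 : ℤ) ^ 8 * (2 : ℤ) ^ 8 * (6 : ℤ) ^ 4 * A5 ^ 2 * A6 ^ 4 * A7 ^ 1 * A8 ^ 2 * A9 ^ 1 * A10 ^ 2 * A12 ^ 2 * A14 ^ 1 * A15 ^ 1 * A18 ^ 1 * A20 ^ 1 * A24 ^ 1 * A30 ^ 1) 4 (dvd_of_eq' h0 (by ring))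
    exact dvd_of_eq' this (by ring)
  replace h0 : P ∣ (2 : ℤ) * (6 : ℤ) ^ 8 * (2 : ℤ) ^ 8 * (6 : ℤ) ^ 4 * (2 : ℤ) ^ 4 * (2 : ℤ) ^ 2 * A6 ^ 4 * A7 ^ 1 * A8 ^ 2 * A9 ^ 1 * A10 ^ 2 * A12 ^ 2 * A14 ^ 1 * A15 ^ 1 * A18 ^ 1 * A20 ^ 1 * A24 ^ 1 * A30 ^ 1 := by
    have := strip b5 (X := (2 : ℤ) * (6 : ℤ) ^ 8 * (2 : ℤ) ^ 8 * (6 : ℤ) ^ 4 * (2 : ℤ) ^ 4 * A6 ^ 4 * A7 ^ 1 * A8 ^ 2 * A9 ^ 1 * A10 ^ 2 * A12 ^ 2 * A14 ^ 1 * A15 ^ 1 * A18 ^ 1 * A20 ^ 1 * A24 ^ 1 * A30 ^ 1) 2 (dvd_of_eq' h0 (by ring))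
    exact dvd_of_eq' this (by ring)
  replace h0 : P ∣ (2 : ℤ) * (6 : ℤ) ^ 8 * (2 : ℤ) ^ 8 * (6 : ℤ) ^ 4 * (2 : ℤ) ^ 4 * (2 : ℤ) ^ 2 * (2 : ℤ) ^ 4 * A7 ^ 1 * A8 ^ 2 * A9 ^ 1 * A10 ^ 2 * A12 ^ 2 * A14 ^ 1 * A15 ^ 1 * A18 ^ 1 * A20 ^ 1 * A24 ^ 1 * A30 ^ 1 := by
    have := strip b6 (X := (2 : ℤ) * (6 : ℤ) ^ 8 * (2 : ℤ) ^ 8 * (6 : ℤ) ^ 4 * (2 : ℤ) ^ 4 * (2 : ℤ) ^ 2 * A7 ^ 1 * A8 ^ 2 * A9 ^ 1 * A10 ^ 2 * A12 ^ 2 * A14 ^ 1 * A15 ^ 1 * A18 ^ 1 * A20 ^ 1 * A24 ^ 1 * A30 ^ 1) 4 (dvd_of_eq' h0 (by ring))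
    exact dvd_of_eq' this (by ring)
  replace h0 : P ∣ (2 : ℤ) * (6 : ℤ) ^ 8 * (2 : ℤ) ^ 8 * (6 : ℤ) ^ 4 * (2 : ℤ) ^ 4 * (2 : ℤ) ^ 2 * (2 : ℤ) ^ 4 * (127 : ℤ) ^ 1 * A8 ^ 2 * A9 ^ 1 * A10 ^ 2 * A12 ^ 2 * A14 ^ 1 * A15 ^ 1 * A18 ^ 1 * A20 ^ 1 * A24 ^ 1 * A30 ^ 1 := by
    have := strip b7 (X := (2 : ℤ) * (6 : ℤ) ^ 8 * (2 : ℤ) ^ 8 * (6 : ℤ) ^ 4 * (2 : ℤ) ^ 4 * (2 : ℤ) ^ 2 * (2 : ℤ) ^ 4 * A8 ^ 2 * A9 ^ 1 * A10 ^ 2 * A12 ^ 2 * A14 ^ 1 * A15 ^ 1 * A18 ^ 1 * A20 ^ 1 * A24 ^ 1 * A30 ^ 1) 1 (dvd_of_eq' h0 (by ring))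
    exact dvd_of_eq' this (by ring)
  replace h0 : P ∣ (2 : ℤ) * (6 : ℤ) ^ 8 * (2 : ℤ) ^ 8 * (6 : ℤ) ^ 4 * (2 : ℤ) ^ 4 * (2 : ℤ) ^ 2 * (2 : ℤ) ^ 4 * (127 : ℤ) ^ 1 * (2 : ℤ) ^ 2 * A9 ^ 1 * A10 ^ 2 * A12 ^ 2 * A14 ^ 1 * A15 ^ 1 * A18 ^ 1 * A20 ^ 1 * A24 ^ 1 * A30 ^ 1 := by
    have := strip b8 (X := (2 : ℤ) * (6 : ℤ) ^ 8 * (2 : ℤ) ^ 8 * (6 : ℤ) ^ 4 * (2 : ℤ) ^ 4 * (2 : ℤ) ^ 2 * (2 : ℤ) ^ 4 * (127 : ℤ) ^ 1 * A9 ^ 1 * A10 ^ 2 * A12 ^ 2 * A14 ^ 1 * A15 ^ 1 * A18 ^ 1 * A20 ^ 1 * A24 ^ 1 * A30 ^ 1) 2 (dvd_of_eq' h0 (by ring))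
    exact dvd_of_eq' this (by ring)
  replace h0 : P ∣ (2 : ℤ) * (6 : ℤ) ^ 8 * (2 : ℤ) ^ 8 * (6 : ℤ) ^ 4 * (2 : ℤ) ^ 4 * (2 : ℤ) ^ 2 * (2 : ℤ) ^ 4 * (127 : ℤ) ^ 1 * (2 : ℤ) ^ 2 * (57 : ℤ) ^ 1 * A10 ^ 2 * A12 ^ 2 * A14 ^ 1 * A15 ^ 1 * A18 ^ 1 * A20 ^ 1 * A24 ^ 1 * A30 ^ 1 := by
    have := strip b9 (X := (2 : ℤ) * (6 : ℤ) ^ 8 * (2 : ℤ) ^ 8 * (6 : ℤ) ^ 4 * (2 : ℤ) ^ 4 * (2 : ℤ) ^ 2 * (2 : ℤ) ^ 4 * (127 : ℤ) ^ 1 * (2 : ℤ) ^ 2 * A10 ^ 2 * A12 ^ 2 * A14 ^ 1 * A15 ^ 1 * A18 ^ 1 * A20 ^ 1 * A24 ^ 1 * A30 ^ 1) 1 (dvd_of_eq' h0 (by ring))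
    exact dvd_of_eq' this (by ring)
  replace h0 : P ∣ (2 : ℤ) * (6 : ℤ) ^ 8 * (2 : ℤ) ^ 8 * (6 : ℤ) ^ 4 * (2 : ℤ) ^ 4 * (2 : ℤ) ^ 2 * (2 : ℤ) ^ 4 * (127 : ℤ) ^ 1 * (2 : ℤ) ^ 2 * (57 : ℤ) ^ 1 * (12 : ℤ) ^ 2 * A12 ^ 2 * A14 ^ 1 * A15 ^ 1 * A18 ^ 1 * A20 ^ 1 * A24 ^ 1 * A30 ^ 1 := by
    have := strip b10 (X := (2 : ℤ) * (6 : ℤ) ^ 8 * (2 : ℤ) ^ 8 * (6 : ℤ) ^ 4 * (2 : ℤ) ^ 4 * (2 : ℤ) ^ 2 * (2 : ℤ) ^ 4 * (127 : ℤ) ^ 1 * (2 : ℤ) ^ 2 * (57 : ℤ) ^ 1 * A12 ^ 2 * A14 ^ 1 * A15 ^ 1 * A18 ^ 1 * A20 ^ 1 * A24 ^ 1 * A30 ^ 1) 2 (dvd_of_eq' h0 (by ring))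
    exact dvd_of_eq' this (by ring)
  replace h0 : P ∣ (2 : ℤ) * (6 : ℤ) ^ 8 * (2 : ℤ) ^ 8 * (6 : ℤ) ^ 4 * (2 : ℤ) ^ 4 * (2 : ℤ) ^ 2 * (2 : ℤ) ^ 4 * (127 : ℤ) ^ 1 * (2 : ℤ) ^ 2 * (57 : ℤ) ^ 1 * (12 : ℤ) ^ 2 * (2 : ℤ) ^ 2 * A14 ^ 1 * A15 ^ 1 * A18 ^ 1 * A20 ^ 1 * A24 ^ 1 * A30 ^ 1 := by
    have := strip b12 (X := (2 : ℤ) * (6 : ℤ) ^ 8 * (2 : ℤ) ^ 8 * (6 : ℤ) ^ 4 * (2 : ℤ) ^ 4 * (2 : ℤ) ^ 2 * (2 : ℤ) ^ 4 * (127 : ℤ) ^ 1 * (2 : ℤ) ^ 2 * (57 : ℤ) ^ 1 * (12 : ℤ) ^ 2 * A14 ^ 1 * A15 ^ 1 * A18 ^ 1 * A20 ^ 1 * A24 ^ 1 * A30 ^ 1) 2 (dvd_of_eq' h0 (by ring))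
    exact dvd_of_eq' this (by ring)
  replace h0 : P ∣ (2 : ℤ) * (6 : ℤ) ^ 8 * (2 : ℤ) ^ 8 * (6 : ℤ) ^ 4 * (2 : ℤ) ^ 4 * (2 : ℤ) ^ 2 * (2 : ℤ) ^ 4 * (127 : ℤ) ^ 1 * (2 : ℤ) ^ 2 * (57 : ℤ) ^ 1 * (12 : ℤ) ^ 2 * (2 : ℤ) ^ 2 * (43 : ℤ) ^ 1 * A15 ^ 1 * A18 ^ 1 * A20 ^ 1 * A24 ^ 1 * A30 ^ 1 := by
    have := strip b14 (X := (2 : ℤ) * (6 : ℤ) ^ 8 * (2 : ℤ) ^ 8 * (6 : ℤ) ^ 4 * (2 : ℤ) ^ 4 * (2 : ℤ) ^ 2 * (2 : ℤ) ^ 4 * (127 : ℤ) ^ 1 * (2 : ℤ) ^ 2 * (57 : ℤ) ^ 1 * (12 : ℤ) ^ 2 * (2 : ℤ) ^ 2 * A15 ^ 1 * A18 ^ 1 * A20 ^ 1 * A24 ^ 1 * A30 ^ 1) 1 (dvd_of_eq' h0 (by ring))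
    exact dvd_of_eq' this (by ring)
  replace h0 : P ∣ (2 : ℤ) * (6 : ℤ) ^ 8 * (2 : ℤ) ^ 8 * (6 : ℤ) ^ 4 * (2 : ℤ) ^ 4 * (2 : ℤ) ^ 2 * (2 : ℤ) ^ 4 * (127 : ℤ) ^ 1 * (2 : ℤ) ^ 2 * (57 : ℤ) ^ 1 * (12 : ℤ) ^ 2 * (2 : ℤ) ^ 2 * (43 : ℤ) ^ 1 * (1 : ℤ) ^ 1 * A18 ^ 1 * A20 ^ 1 * A24 ^ 1 * A30 ^ 1 := by
    have := strip b15 (X := (2 : ℤ) * (6 : ℤ) ^ 8 * (2 : ℤ) ^ 8 * (6 : ℤ) ^ 4 * (2 : ℤ) ^ 4 * (2 : ℤ) ^ 2 * (2 : ℤ) ^ 4 * (127 : ℤ) ^ 1 * (2 : ℤ) ^ 2 * (57 : ℤ) ^ 1 * (12 : ℤ) ^ 2 * (2 : ℤ) ^ 2 * (43 : ℤ) ^ 1 * A18 ^ 1 * A20 ^ 1 * A24 ^ 1 * A30 ^ 1) 1 (dvd_of_eq' h0 (by ring))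
    exact dvd_of_eq' this (by ring)
  replace h0 : P ∣ (2 : ℤ) * (6 : ℤ) ^ 8 * (2 : ℤ) ^ 8 * (6 : ℤ) ^ 4 * (2 : ℤ) ^ 4 * (2 : ℤ) ^ 2 * (2 : ℤ) ^ 4 * (127 : ℤ) ^ 1 * (2 : ℤ) ^ 2 * (57 : ℤ) ^ 1 * (12 : ℤ) ^ 2 * (2 : ℤ) ^ 2 * (43 : ℤ) ^ 1 * (1 : ℤ) ^ 1 * (127 : ℤ) ^ 1 * A20 ^ 1 * A24 ^ 1 * A30 ^ 1 := by
    have := strip b18 (X := (2 : ℤ) * (6 : ℤ) ^ 8 * (2 : ℤ) ^ 8 * (6 : ℤ) ^ 4 * (2 : ℤ) ^ 4 * (2 : ℤ) ^ 2 * (2 : ℤ) ^ 4 * (127 : ℤ) ^ 1 * (2 : ℤ) ^ 2 * (57 : ℤ) ^ 1 * (12 : ℤ) ^ 2 * (2 : ℤ) ^ 2 * (43 : ℤ) ^ 1 * (1 : ℤ) ^ 1 * A20 ^ 1 * A24 ^ 1 * A30 ^ 1) 1 (dvd_of_eq' h0 (by ring))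
    exact dvd_of_eq' this (by ring)
  replace h0 : P ∣ (2 : ℤ) * (6 : ℤ) ^ 8 * (2 : ℤ) ^ 8 * (6 : ℤ) ^ 4 * (2 : ℤ) ^ 4 * (2 : ℤ) ^ 2 * (2 : ℤ) ^ 4 * (127 : ℤ) ^ 1 * (2 : ℤ) ^ 2 * (57 : ℤ) ^ 1 * (12 : ℤ) ^ 2 * (2 : ℤ) ^ 2 * (43 : ℤ) ^ 1 * (1 : ℤ) ^ 1 * (127 : ℤ) ^ 1 * (2 : ℤ) ^ 1 * A24 ^ 1 * A30 ^ 1 := by
    have := strip b20 (X := (2 : ℤ) * (6 : ℤ) ^ 8 * (2 : ℤ) ^ 8 * (6 : ℤ) ^ 4 * (2 : ℤ) ^ 4 * (2 : ℤ) ^ 2 * (2 : ℤ) ^ 4 * (127 : ℤ) ^ 1 * (2 : ℤ) ^ 2 * (57 : ℤ) ^ 1 * (12 : ℤ) ^ 2 * (2 : ℤ) ^ 2 * (43 : ℤ) ^ 1 * (1 : ℤ) ^ 1 * (127 : ℤ) ^ 1 * A24 ^ 1 * A30 ^ 1) 1 (dvd_of_eq' h0 (by ring))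
    exact dvd_of_eq' this (by ring)
  replace h0 : P ∣ (2 : ℤ) * (6 : ℤ) ^ 8 * (2 : ℤ) ^ 8 * (6 : ℤ) ^ 4 * (2 : ℤ) ^ 4 * (2 : ℤ) ^ 2 * (2 : ℤ) ^ 4 * (127 : ℤ) ^ 1 * (2 : ℤ) ^ 2 * (57 : ℤ) ^ 1 * (12 : ℤ) ^ 2 * (2 : ℤ) ^ 2 * (43 : ℤ) ^ 1 * (1 : ℤ) ^ 1 * (127 : ℤ) ^ 1 * (2 : ℤ) ^ 1 * (2 : ℤ) ^ 1 * A30 ^ 1 := by
    have := strip b24 (X := (2 : ℤ) * (6 : ℤ) ^ 8 * (2 : ℤ) ^ 8 * (6 : ℤ) ^ 4 * (2 : ℤ) ^ 4 * (2 : ℤ) ^ 2 * (2 : ℤ) ^ 4 * (127 : ℤ) ^ 1 * (2 : ℤ) ^ 2 * (57 : ℤ) ^ 1 * (12 : ℤ) ^ 2 * (2 : ℤ) ^ 2 * (43 : ℤ) ^ 1 * (1 : ℤ) ^ 1 * (127 : ℤ) ^ 1 * (2 : ℤ) ^ 1 * A30 ^ 1) 1 (dvd_of_eq' h0 (by ring))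
    exact dvd_of_eq' this (by ring)
  replace h0 : P ∣ (2 : ℤ) * (6 : ℤ) ^ 8 * (2 : ℤ) ^ 8 * (6 : ℤ) ^ 4 * (2 : ℤ) ^ 4 * (2 : ℤ) ^ 2 * (2 : ℤ) ^ 4 * (127 : ℤ) ^ 1 * (2 : ℤ) ^ 2 * (57 : ℤ) ^ 1 * (12 : ℤ) ^ 2 * (2 : ℤ) ^ 2 * (43 : ℤ) ^ 1 * (1 : ℤ) ^ 1 * (127 : ℤ) ^ 1 * (2 : ℤ) ^ 1 * (2 : ℤ) ^ 1 * (3 : ℤ) ^ 1 := by
    have := strip b30 (X := (2 : ℤ) * (6 : ℤ) ^ 8 * (2 : ℤ) ^ 8 * (6 : ℤ) ^ 4 * (2 : ℤ) ^ 4 * (2 : ℤ) ^ 2 * (2 : ℤ) ^ 4 * (127 : ℤ) ^ 1 * (2 : ℤ) ^ 2 * (57 : ℤ) ^ 1 * (12 : ℤ) ^ 2 * (2 : ℤ) ^ 2 * (43 : ℤ) ^ 1 * (1 : ℤ) ^ 1 * (127 : ℤ) ^ 1 * (2 : ℤ) ^ 1 * (2 : ℤ) ^ 1) 1 (dvd_of_eq' h0 (by ring))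
    exact dvd_of_eq' this (by ring)
  convert h0 using 1
  norm_num

theorem small2 : ∀ q : Fin 14, 3 ≤ q.1 →
    ¬ (q.1 * (q.1 ^ 12 + 1) * (q.1 ^ 10 + 1) * (q.1 ^ 6 + 1) - 2) ∣
      q.1 ^ 120 * (([2, 8, 12, 14, 18, 20, 24, 30] : List ℕ).map fun d => q.1 ^ d - 1).prod := by
  decide +kernel

theorem large2 {q : ℤ} (hq : 14 ≤ q) (h : BQ8 q - 2 ∣ 2 * MQ8 q) : False := by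
  have hle := Int.le_of_dvd (by norm_num) (dvd_const2 h)
  obtain ⟨r, hr, rfl⟩ : ∃ r, 0 ≤ r ∧ q = r + 14 := ⟨q - 14, by omega, by ring⟩
  have h2 : (14 : ℤ) ^ 24 ≤ (r + 14) ^ 24 := pow_le_pow_left₀ (by norm_num) (by omega) _
  have h3 : 0 ≤ (-2 - (r + 14) + (r + 14) ^ 2 + 2 * (r + 14) ^ 5 + (r + 14) ^ 6 + (r + 14) ^ 8 - 2 * (r + 14) ^ 10 + (r + 14) ^ 12 + (r + 14) ^ 14 + 2 * (r + 14) ^ 15 + (r + 14) ^ 18 - (r + 14) ^ 20 + (r + 14) ^ 24 + (r + 14) ^ 25) - (r + 14) ^ 24 := by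
    ring_nf
    positivity
  norm_num at h2
  linarith

theorem dvd_const3 {q : ℤ} (h : BQ8 q - 3 ∣ 3 * MQ8 q) :
    (-3 + q + q ^ 7 + q ^ 11 + q ^ 13 + q ^ 17 + q ^ 19 + q ^ 23 + q ^ 29) ∣ (4714024002223600272116090074921875000 : ℤ) := by
  set P : ℤ := -3 + q + q ^ 7 + q ^ 11 + q ^ 13 + q ^ 17 + q ^ 19 + q ^ 23 + q ^ 29 with hP
  have hdvd : P ∣ BQ8 q - 3 := ⟨1, by rw [hP, BQ8]; ring⟩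
  have h0 := hdvd.trans h
  rw [MQ8_eq] at h0
  have b1 : (5 : ℤ) = (1) * P + (-8 - 7 * q - 7 * q ^ 2 - 7 * q ^ 3 - 7 * q ^ 4 - 7 * q ^ 5 - 7 * q ^ 6 - 6 * q ^ 7 - 6 * q ^ 8 - 6 * q ^ 9 - 6 * q ^ 10 - 5 * q ^ 11 - 5 * q ^ 12 - 4 * q ^ 13 - 4 * q ^ 14 - 4 * q ^ 15 - 4 * q ^ 16 - 3 * q ^ 17 - 3 * q ^ 18 - 2 * q ^ 19 - 2 * q ^ 20 - 2 * q ^ 21 - 2 * q ^ 22 - q ^ 23 - q ^ 24 - q ^ 25 - q ^ 26 - q ^ 27 - q ^ 28) * (-1 + q) := by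
    rw [hP]; ring
  have b2 : (11 : ℤ) = (-1) * P + (8 - 7 * q + 7 * q ^ 2 - 7 * q ^ 3 + 7 * q ^ 4 - 7 * q ^ 5 + 7 * q ^ 6 - 6 * q ^ 7 + 6 * q ^ 8 - 6 * q ^ 9 + 6 * q ^ 10 - 5 * q ^ 11 + 5 * q ^ 12 - 4 * q ^ 13 + 4 * q ^ 14 - 4 * q ^ 15 + 4 * q ^ 16 - 3 * q ^ 17 + 3 * q ^ 18 - 2 * q ^ 19 + 2 * q ^ 20 - 2 * q ^ 21 + 2 * q ^ 22 - q ^ 23 + q ^ 24 - q ^ 25 + q ^ 26 - q ^ 27 + q ^ 28) * (1 + q) := by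
    rw [hP]; ring
  have b3 : (7 : ℤ) = (-1) * P + (4 - 3 * q - q ^ 2 + 4 * q ^ 3 - 3 * q ^ 4 - q ^ 5 + 4 * q ^ 6 - 2 * q ^ 7 - 2 * q ^ 8 + 4 * q ^ 9 - 2 * q ^ 10 - q ^ 11 + 3 * q ^ 12 - q ^ 13 - 2 * q ^ 14 + 3 * q ^ 15 - q ^ 16 - q ^ 17 + 2 * q ^ 18 - 2 * q ^ 20 + 2 * q ^ 21 - q ^ 23 + q ^ 24 - q ^ 26 + q ^ 27) * (1 + q + q ^ 2) := by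
    rw [hP]; ring
  have b4 : (3 : ℤ) = (-1) * P + (q - q ^ 3 + q ^ 5 + q ^ 11 + q ^ 17 + q ^ 23 - q ^ 25 + q ^ 27) * (1 + q ^ 2) := by
    rw [hP]; ring
  have b5 : (5 : ℤ) = (-1) * P + (2 - q - q ^ 2 + 2 * q ^ 5 - q ^ 6 - q ^ 8 + 2 * q ^ 10 - q ^ 12 - q ^ 14 + 2 * q ^ 15 - q ^ 18 + q ^ 20 - q ^ 24 + q ^ 25) * (1 + q + q ^ 2 + q ^ 3 + q ^ 4) := by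
    rw [hP]; ring
  have b6 : (1 : ℤ) = (1) * P + (4 + 3 * q - q ^ 2 - 4 * q ^ 3 - 3 * q ^ 4 + q ^ 5 + 4 * q ^ 6 + 2 * q ^ 7 - 2 * q ^ 8 - 4 * q ^ 9 - 2 * q ^ 10 + q ^ 11 + 3 * q ^ 12 + q ^ 13 - 2 * q ^ 14 - 3 * q ^ 15 - q ^ 16 + q ^ 17 + 2 * q ^ 18 - 2 * q ^ 20 - 2 * q ^ 21 + q ^ 23 + q ^ 24 - q ^ 26 - q ^ 27) * (1 - q + q ^ 2) := by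
    rw [hP]; ring
  have b7 : (1093 : ℤ) = (-364 - 121 * q - 40 * q ^ 2 - 13 * q ^ 3 - 4 * q ^ 4 - q ^ 5) * P + (1 + 364 * q ^ 7 - 243 * q ^ 8 - 81 * q ^ 9 - 27 * q ^ 10 + 355 * q ^ 11 - 246 * q ^ 12 + 282 * q ^ 13 + 94 * q ^ 14 - 333 * q ^ 15 - 111 * q ^ 16 + 327 * q ^ 17 + 109 * q ^ 18 + 36 * q ^ 19 + 12 * q ^ 20 + 4 * q ^ 21 - 363 * q ^ 22 + 243 * q ^ 23 + 81 * q ^ 24 + 27 * q ^ 25 + 9 * q ^ 26 + 3 * q ^ 27 + q ^ 28) * (1 + q + q ^ 2 + q ^ 3 + q ^ 4 + q ^ 5 + q ^ 6) := by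
    rw [hP]; ring
  have b8 : (3 : ℤ) = (-1) * P + (q - q ^ 5 + q ^ 7 + q ^ 9 + q ^ 17 + q ^ 19 - q ^ 21 + q ^ 25) * (1 + q ^ 4) := by
    rw [hP]; ring
  have b9 : (1117 : ℤ) = (-342 - 102 * q - 148 * q ^ 2 - 53 * q ^ 3 - 55 * q ^ 4 - 36 * q ^ 5) * P + (91 + 36 * q - 342 * q ^ 2 - 102 * q ^ 3 - 148 * q ^ 4 + 289 * q ^ 5 + 47 * q ^ 6 + 454 * q ^ 7 + 155 * q ^ 8 + 203 * q ^ 9 - 253 * q ^ 10 - 47 * q ^ 11 - 112 * q ^ 12 + 289 * q ^ 13 + 47 * q ^ 14 + 112 * q ^ 15 + 53 * q ^ 16 + 397 * q ^ 17 + 138 * q ^ 18 + 148 * q ^ 19 - 289 * q ^ 20 - 47 * q ^ 21 - 112 * q ^ 22 + 289 * q ^ 23 + 47 * q ^ 24 + 112 * q ^ 25 + 53 * q ^ 26 + 55 * q ^ 27 + 36 * q ^ 28) * (1 + q ^ 3 + q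 ^ 6) := by
    rw [hP]; ring
  have b10 : (1 : ℤ) = (-1) * P + (-2 - q + q ^ 2 + 2 * q ^ 5 + q ^ 6 + q ^ 8 - 2 * q ^ 10 + q ^ 12 + q ^ 14 + 2 * q ^ 15 + q ^ 18 - q ^ 20 + q ^ 24 + q ^ 25) * (1 - q + q ^ 2 - q ^ 3 + q ^ 4) := by
    rw [hP]; ring
  have b12 : (3 : ℤ) = (-1) * P + (q + q ^ 3 + q ^ 11 + 2 * q ^ 13 + q ^ 15 + q ^ 23 + q ^ 25) * (1 - q ^ 2 + q ^ 4) := by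
    rw [hP]; ring
  have b14 : (547 : ℤ) = (-182 - 61 * q - 20 * q ^ 2 - 7 * q ^ 3 - 2 * q ^ 4 - q ^ 5) * P + (1 + 182 * q ^ 7 + 243 * q ^ 8 + 81 * q ^ 9 + 27 * q ^ 10 + 191 * q ^ 11 + 246 * q ^ 12 + 264 * q ^ 13 + 88 * q ^ 14 - 153 * q ^ 15 - 51 * q ^ 16 + 165 * q ^ 17 + 55 * q ^ 18 + 18 * q ^ 19 + 6 * q ^ 20 + 2 * q ^ 21 + 183 * q ^ 22 + 243 * q ^ 23 + 81 * q ^ 24 + 27 * q ^ 25 + 9 * q ^ 26 + 3 * q ^ 27 + q ^ 28) * (1 - q + q ^ 2 - q ^ 3 + q ^ 4 - q ^ 5 + q ^ 6) := by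
    rw [hP]; ring
  have b15 : (2 : ℤ) = (-1) * P + (-1 + q ^ 3 + q ^ 5 + q ^ 7 + q ^ 9 + q ^ 11 + q ^ 13 - q ^ 16 + q ^ 19 + q ^ 20 + q ^ 21) * (1 - q + q ^ 3 - q ^ 4 + q ^ 5 - q ^ 7 + q ^ 8) := by
    rw [hP]; ring
  have b18 : (991 : ℤ) = (-324 - 114 * q + 70 * q ^ 2 + 55 * q ^ 3 + q ^ 4 - 18 * q ^ 5) * P + (19 - 18 * q + 324 * q ^ 2 + 114 * q ^ 3 - 70 * q ^ 4 + 269 * q ^ 5 + 113 * q ^ 6 + 272 * q ^ 7 + 59 * q ^ 8 - 71 * q ^ 9 + 287 * q ^ 10 + 113 * q ^ 11 - 52 * q ^ 12 + 269 * q ^ 13 + 113 * q ^ 14 - 52 * q ^ 15 - 55 * q ^ 16 + 323 * q ^ 17 + 132 * q ^ 18 - 70 * q ^ 19 + 269 * q ^ 20 + 113 * q ^ 21 - 52 * q ^ 22 + 269 * q ^ 23 + 113 * q ^ 24 - 52 * q ^ 25 - 55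 * q ^ 26 - q ^ 27 + 18 * q ^ 28) * (1 - q ^ 3 + q ^ 6) := by
    rw [hP]; ring
  have b20 : (3 : ℤ) = (-1) * P + (q + q ^ 3 + q ^ 7 + q ^ 9 + q ^ 13 + q ^ 15 + q ^ 19 + q ^ 21) * (1 - q ^ 2 + q ^ 4 - q ^ 6 + q ^ 8) := by
    rw [hP]; ring
  have b24 : (3 : ℤ) = (-1) * P + (q + q ^ 5 + q ^ 7 + 2 * q ^ 11 + q ^ 15 + q ^ 17 + q ^ 21) * (1 - q ^ 4 + q ^ 8) := by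
    rw [hP]; ring
  have b30 : (4 : ℤ) = (-1) * P + (1 + q ^ 3 + q ^ 5 + q ^ 7 + q ^ 9 + q ^ 11 + q ^ 13 + q ^ 16 + q ^ 19 - q ^ 20 + q ^ 21) * (1 + q - q ^ 3 - q ^ 4 - q ^ 5 + q ^ 7 + q ^ 8) := by
    rw [hP]; ring
  clear_value P
  generalize (1 + q + q ^ 2 + q ^ 3 + q ^ 4 + q ^ 5 + q ^ 6) = A7 at h0 b7
  generalize (1 - q + q ^ 2 - q ^ 3 + q ^ 4 - q ^ 5 + q ^ 6) = A14 at h0 b14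
  generalize (1 - q + q ^ 3 - q ^ 4 + q ^ 5 - q ^ 7 + q ^ 8) = A15 at h0 b15
  generalize (1 + q - q ^ 3 - q ^ 4 - q ^ 5 + q ^ 7 + q ^ 8) = A30 at h0 b30
  generalize (1 - q ^ 2 + q ^ 4 - q ^ 6 + q ^ 8) = A20 at h0 b20
  generalize (1 + q + q ^ 2 + q ^ 3 + q ^ 4) = A5 at h0 b5
  generalize (1 - q + q ^ 2 - q ^ 3 + q ^ 4) = A10 at h0 b10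
  generalize (1 + q ^ 3 + q ^ 6) = A9 at h0 b9
  generalize (1 - q ^ 2 + q ^ 4) = A12 at h0 b12
  generalize (1 - q ^ 3 + q ^ 6) = A18 at h0 b18
  generalize (1 - q ^ 4 + q ^ 8) = A24 at h0 b24
  generalize (1 + q + q ^ 2) = A3 at h0 b3
  generalize (1 - q + q ^ 2) = A6 at h0 b6
  generalize (1 + q ^ 2) = A4 at h0 b4
  generalize (1 + q ^ 4) = A8 at h0 b8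
  generalize (-1 + q) = A1 at h0 b1
  generalize (1 + q) = A2 at h0 b2
  replace h0 : P ∣ (3 : ℤ) * (5 : ℤ) ^ 8 * A2 ^ 8 * A3 ^ 4 * A4 ^ 4 * A5 ^ 2 * A6 ^ 4 * A7 ^ 1 * A8 ^ 2 * A9 ^ 1 * A10 ^ 2 * A12 ^ 2 * A14 ^ 1 * A15 ^ 1 * A18 ^ 1 * A20 ^ 1 * A24 ^ 1 * A30 ^ 1 := by
    have := strip b1 (X := (3 : ℤ) * A2 ^ 8 * A3 ^ 4 * A4 ^ 4 * A5 ^ 2 * A6 ^ 4 * A7 ^ 1 * A8 ^ 2 * A9 ^ 1 * A10 ^ 2 * A12 ^ 2 * A14 ^ 1 * A15 ^ 1 * A18 ^ 1 * A20 ^ 1 * A24 ^ 1 * A30 ^ 1) 8 (dvd_of_eq' h0 (by ring))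
    exact dvd_of_eq' this (by ring)
  replace h0 : P ∣ (3 : ℤ) * (5 : ℤ) ^ 8 * (11 : ℤ) ^ 8 * A3 ^ 4 * A4 ^ 4 * A5 ^ 2 * A6 ^ 4 * A7 ^ 1 * A8 ^ 2 * A9 ^ 1 * A10 ^ 2 * A12 ^ 2 * A14 ^ 1 * A15 ^ 1 * A18 ^ 1 * A20 ^ 1 * A24 ^ 1 * A30 ^ 1 := by
    have := strip b2 (X := (3 : ℤ) * (5 : ℤ) ^ 8 * A3 ^ 4 * A4 ^ 4 * A5 ^ 2 * A6 ^ 4 * A7 ^ 1 * A8 ^ 2 * A9 ^ 1 * A10 ^ 2 * A12 ^ 2 * A14 ^ 1 * A15 ^ 1 * A18 ^ 1 * A20 ^ 1 * A24 ^ 1 * A30 ^ 1) 8 (dvd_of_eq' h0 (by ring))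
    exact dvd_of_eq' this (by ring)
  replace h0 : P ∣ (3 : ℤ) * (5 : ℤ) ^ 8 * (11 : ℤ) ^ 8 * (7 : ℤ) ^ 4 * A4 ^ 4 * A5 ^ 2 * A6 ^ 4 * A7 ^ 1 * A8 ^ 2 * A9 ^ 1 * A10 ^ 2 * A12 ^ 2 * A14 ^ 1 * A15 ^ 1 * A18 ^ 1 * A20 ^ 1 * A24 ^ 1 * A30 ^ 1 := by
    have := strip b3 (X := (3 : ℤ) * (5 : ℤ) ^ 8 * (11 : ℤ) ^ 8 * A4 ^ 4 * A5 ^ 2 * A6 ^ 4 * A7 ^ 1 * A8 ^ 2 * A9 ^ 1 * A10 ^ 2 * A12 ^ 2 * A14 ^ 1 * A15 ^ 1 * A18 ^ 1 * A20 ^ 1 * A24 ^ 1 * A30 ^ 1) 4 (dvd_of_eq' h0 (by ring))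
    exact dvd_of_eq' this (by ring)
  replace h0 : P ∣ (3 : ℤ) * (5 : ℤ) ^ 8 * (11 : ℤ) ^ 8 * (7 : ℤ) ^ 4 * (3 : ℤ) ^ 4 * A5 ^ 2 * A6 ^ 4 * A7 ^ 1 * A8 ^ 2 * A9 ^ 1 * A10 ^ 2 * A12 ^ 2 * A14 ^ 1 * A15 ^ 1 * A18 ^ 1 * A20 ^ 1 * A24 ^ 1 * A30 ^ 1 := by
    have := strip b4 (X := (3 : ℤ) * (5 : ℤ) ^ 8 * (11 : ℤ) ^ 8 * (7 : ℤ) ^ 4 * A5 ^ 2 * A6 ^ 4 * A7 ^ 1 * A8 ^ 2 * A9 ^ 1 * A10 ^ 2 * A12 ^ 2 * A14 ^ 1 * A15 ^ 1 * A18 ^ 1 * A20 ^ 1 * A24 ^ 1 * A30 ^ 1) 4 (dvd_of_eq' h0 (by ring))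
    exact dvd_of_eq' this (by ring)
  replace h0 : P ∣ (3 : ℤ) * (5 : ℤ) ^ 8 * (11 : ℤ) ^ 8 * (7 : ℤ) ^ 4 * (3 : ℤ) ^ 4 * (5 : ℤ) ^ 2 * A6 ^ 4 * A7 ^ 1 * A8 ^ 2 * A9 ^ 1 * A10 ^ 2 * A12 ^ 2 * A14 ^ 1 * A15 ^ 1 * A18 ^ 1 * A20 ^ 1 * A24 ^ 1 * A30 ^ 1 := by
    have := strip b5 (X := (3 : ℤ) * (5 : ℤ) ^ 8 * (11 : ℤ) ^ 8 * (7 : ℤ) ^ 4 * (3 : ℤ) ^ 4 * A6 ^ 4 * A7 ^ 1 * A8 ^ 2 * A9 ^ 1 * A10 ^ 2 * A12 ^ 2 * A14 ^ 1 * A15 ^ 1 * A18 ^ 1 * A20 ^ 1 * A24 ^ 1 * A30 ^ 1) 2 (dvd_of_eq' h0 (by ring))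
    exact dvd_of_eq' this (by ring)
  replace h0 : P ∣ (3 : ℤ) * (5 : ℤ) ^ 8 * (11 : ℤ) ^ 8 * (7 : ℤ) ^ 4 * (3 : ℤ) ^ 4 * (5 : ℤ) ^ 2 * (1 : ℤ) ^ 4 * A7 ^ 1 * A8 ^ 2 * A9 ^ 1 * A10 ^ 2 * A12 ^ 2 * A14 ^ 1 * A15 ^ 1 * A18 ^ 1 * A20 ^ 1 * A24 ^ 1 * A30 ^ 1 := by
    have := strip b6 (X := (3 : ℤ) * (5 : ℤ) ^ 8 * (11 : ℤ) ^ 8 * (7 : ℤ) ^ 4 * (3 : ℤ) ^ 4 * (5 : ℤ) ^ 2 * A7 ^ 1 * A8 ^ 2 * A9 ^ 1 * A10 ^ 2 * A12 ^ 2 * A14 ^ 1 * A15 ^ 1 * A18 ^ 1 * A20 ^ 1 * A24 ^ 1 * A30 ^ 1) 4 (dvd_of_eq' h0 (by ring))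
    exact dvd_of_eq' this (by ring)
  replace h0 : P ∣ (3 : ℤ) * (5 : ℤ) ^ 8 * (11 : ℤ) ^ 8 * (7 : ℤ) ^ 4 * (3 : ℤ) ^ 4 * (5 : ℤ) ^ 2 * (1 : ℤ) ^ 4 * (1093 : ℤ) ^ 1 * A8 ^ 2 * A9 ^ 1 * A10 ^ 2 * A12 ^ 2 * A14 ^ 1 * A15 ^ 1 * A18 ^ 1 * A20 ^ 1 * A24 ^ 1 * A30 ^ 1 := by
    have := strip b7 (X := (3 : ℤ) * (5 : ℤ) ^ 8 * (11 : ℤ) ^ 8 * (7 : ℤ) ^ 4 * (3 : ℤ) ^ 4 * (5 : ℤ) ^ 2 * (1 : ℤ) ^ 4 * A8 ^ 2 * A9 ^ 1 * A10 ^ 2 * A12 ^ 2 * A14 ^ 1 * A15 ^ 1 * A18 ^ 1 * A20 ^ 1 * A24 ^ 1 * A30 ^ 1) 1 (dvd_of_eq' h0 (by ring))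
    exact dvd_of_eq' this (by ring)
  replace h0 : P ∣ (3 : ℤ) * (5 : ℤ) ^ 8 * (11 : ℤ) ^ 8 * (7 : ℤ) ^ 4 * (3 : ℤ) ^ 4 * (5 : ℤ) ^ 2 * (1 : ℤ) ^ 4 * (1093 : ℤ) ^ 1 * (3 : ℤ) ^ 2 * A9 ^ 1 * A10 ^ 2 * A12 ^ 2 * A14 ^ 1 * A15 ^ 1 * A18 ^ 1 * A20 ^ 1 * A24 ^ 1 * A30 ^ 1 := by
    have := strip b8 (X := (3 : ℤ) * (5 : ℤ) ^ 8 * (11 : ℤ) ^ 8 * (7 : ℤ) ^ 4 * (3 : ℤ) ^ 4 * (5 : ℤ) ^ 2 * (1 : ℤ) ^ 4 * (1093 : ℤ) ^ 1 * A9 ^ 1 * A10 ^ 2 * A12 ^ 2 * A14 ^ 1 * A15 ^ 1 * A18 ^ 1 * A20 ^ 1 * A24 ^ 1 * A30 ^ 1) 2 (dvd_of_eq' h0 (by ring))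
    exact dvd_of_eq' this (by ring)
  replace h0 : P ∣ (3 : ℤ) * (5 : ℤ) ^ 8 * (11 : ℤ) ^ 8 * (7 : ℤ) ^ 4 * (3 : ℤ) ^ 4 * (5 : ℤ) ^ 2 * (1 : ℤ) ^ 4 * (1093 : ℤ) ^ 1 * (3 : ℤ) ^ 2 * (1117 : ℤ) ^ 1 * A10 ^ 2 * A12 ^ 2 * A14 ^ 1 * A15 ^ 1 * A18 ^ 1 * A20 ^ 1 * A24 ^ 1 * A30 ^ 1 := by
    have := strip b9 (X := (3 : ℤ) * (5 : ℤ) ^ 8 * (11 : ℤ) ^ 8 * (7 : ℤ) ^ 4 * (3 : ℤ) ^ 4 * (5 : ℤ) ^ 2 * (1 : ℤ) ^ 4 * (1093 : ℤ) ^ 1 * (3 : ℤ) ^ 2 * A10 ^ 2 * A12 ^ 2 * A14 ^ 1 * A15 ^ 1 * A18 ^ 1 * A20 ^ 1 * A24 ^ 1 * A30 ^ 1) 1 (dvd_of_eq' h0 (by ring))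
    exact dvd_of_eq' this (by ring)
  replace h0 : P ∣ (3 : ℤ) * (5 : ℤ) ^ 8 * (11 : ℤ) ^ 8 * (7 : ℤ) ^ 4 * (3 : ℤ) ^ 4 * (5 : ℤ) ^ 2 * (1 : ℤ) ^ 4 * (1093 : ℤ) ^ 1 * (3 : ℤ) ^ 2 * (1117 : ℤ) ^ 1 * (1 : ℤ) ^ 2 * A12 ^ 2 * A14 ^ 1 * A15 ^ 1 * A18 ^ 1 * A20 ^ 1 * A24 ^ 1 * A30 ^ 1 := by
    have := strip b10 (X := (3 : ℤ) * (5 : ℤ) ^ 8 * (11 : ℤ) ^ 8 * (7 : ℤ) ^ 4 * (3 : ℤ) ^ 4 * (5 : ℤ) ^ 2 * (1 : ℤ) ^ 4 * (1093 : ℤ) ^ 1 * (3 : ℤ) ^ 2 * (1117 : ℤ) ^ 1 * A12 ^ 2 * A14 ^ 1 * A15 ^ 1 * A18 ^ 1 * A20 ^ 1 * A24 ^ 1 * A30 ^ 1) 2 (dvd_of_eq' h0 (by ring))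
    exact dvd_of_eq' this (by ring)
  replace h0 : P ∣ (3 : ℤ) * (5 : ℤ) ^ 8 * (11 : ℤ) ^ 8 * (7 : ℤ) ^ 4 * (3 : ℤ) ^ 4 * (5 : ℤ) ^ 2 * (1 : ℤ) ^ 4 * (1093 : ℤ) ^ 1 * (3 : ℤ) ^ 2 * (1117 : ℤ) ^ 1 * (1 : ℤ) ^ 2 * (3 : ℤ) ^ 2 * A14 ^ 1 * A15 ^ 1 * A18 ^ 1 * A20 ^ 1 * A24 ^ 1 * A30 ^ 1 := by
    have := strip b12 (X := (3 : ℤ) * (5 : ℤ) ^ 8 * (11 : ℤ) ^ 8 * (7 : ℤ) ^ 4 * (3 : ℤ) ^ 4 * (5 : ℤ) ^ 2 * (1 : ℤ) ^ 4 * (1093 : ℤ) ^ 1 * (3 : ℤ) ^ 2 * (1117 : ℤ) ^ 1 * (1 : ℤ) ^ 2 * A14 ^ 1 * A15 ^ 1 * A18 ^ 1 * A20 ^ 1 * A24 ^ 1 * A30 ^ 1) 2 (dvd_of_eq' h0 (by ring))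
    exact dvd_of_eq' this (by ring)
  replace h0 : P ∣ (3 : ℤ) * (5 : ℤ) ^ 8 * (11 : ℤ) ^ 8 * (7 : ℤ) ^ 4 * (3 : ℤ) ^ 4 * (5 : ℤ) ^ 2 * (1 : ℤ) ^ 4 * (1093 : ℤ) ^ 1 * (3 : ℤ) ^ 2 * (1117 : ℤ) ^ 1 * (1 : ℤ) ^ 2 * (3 : ℤ) ^ 2 * (547 : ℤ) ^ 1 * A15 ^ 1 * A18 ^ 1 * A20 ^ 1 * A24 ^ 1 * A30 ^ 1 := by
    have := strip b14 (X := (3 : ℤ) * (5 : ℤ) ^ 8 * (11 : ℤ) ^ 8 * (7 : ℤ) ^ 4 * (3 : ℤ) ^ 4 * (5 : ℤ) ^ 2 * (1 : ℤ) ^ 4 * (1093 : ℤ) ^ 1 * (3 : ℤ) ^ 2 * (1117 : ℤ) ^ 1 * (1 : ℤ) ^ 2 * (3 : ℤ) ^ 2 * A15 ^ 1 * A18 ^ 1 * A20 ^ 1 * A24 ^ 1 * A30 ^ 1) 1 (dvd_of_eq' h0 (by ring))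
    exact dvd_of_eq' this (by ring)
  replace h0 : P ∣ (3 : ℤ) * (5 : ℤ) ^ 8 * (11 : ℤ) ^ 8 * (7 : ℤ) ^ 4 * (3 : ℤ) ^ 4 * (5 : ℤ) ^ 2 * (1 : ℤ) ^ 4 * (1093 : ℤ) ^ 1 * (3 : ℤ) ^ 2 * (1117 : ℤ) ^ 1 * (1 : ℤ) ^ 2 * (3 : ℤ) ^ 2 * (547 : ℤ) ^ 1 * (2 : ℤ) ^ 1 * A18 ^ 1 * A20 ^ 1 * A24 ^ 1 * A30 ^ 1 := by
    have := strip b15 (X := (3 : ℤ) * (5 : ℤ) ^ 8 * (11 : ℤ) ^ 8 * (7 : ℤ) ^ 4 * (3 : ℤ) ^ 4 * (5 : ℤ) ^ 2 * (1 : ℤ) ^ 4 * (1093 : ℤ) ^ 1 * (3 : ℤ) ^ 2 * (1117 : ℤ) ^ 1 * (1 : ℤ) ^ 2 * (3 : ℤ) ^ 2 * (547 : ℤ) ^ 1 * A18 ^ 1 * A20 ^ 1 * A24 ^ 1 * A30 ^ 1) 1 (dvd_of_eq' h0 (by ring))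
    exact dvd_of_eq' this (by ring)
  replace h0 : P ∣ (3 : ℤ) * (5 : ℤ) ^ 8 * (11 : ℤ) ^ 8 * (7 : ℤ) ^ 4 * (3 : ℤ) ^ 4 * (5 : ℤ) ^ 2 * (1 : ℤ) ^ 4 * (1093 : ℤ) ^ 1 * (3 : ℤ) ^ 2 * (1117 : ℤ) ^ 1 * (1 : ℤ) ^ 2 * (3 : ℤ) ^ 2 * (547 : ℤ) ^ 1 * (2 : ℤ) ^ 1 * (991 : ℤ) ^ 1 * A20 ^ 1 * A24 ^ 1 * A30 ^ 1 := by
    have := strip b18 (X := (3 : ℤ) * (5 : ℤ) ^ 8 * (11 : ℤ) ^ 8 * (7 : ℤ) ^ 4 * (3 : ℤ) ^ 4 * (5 : ℤ) ^ 2 * (1 : ℤ) ^ 4 * (1093 : ℤ) ^ 1 * (3 : ℤ) ^ 2 * (1117 : ℤ) ^ 1 * (1 : ℤ) ^ 2 * (3 : ℤ) ^ 2 * (547 : ℤ) ^ 1 * (2 : ℤ) ^ 1 * A20 ^ 1 * A24 ^ 1 * A30 ^ 1) 1 (dvd_of_eq' h0 (by ring))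
    exact dvd_of_eq' this (by ring)
  replace h0 : P ∣ (3 : ℤ) * (5 : ℤ) ^ 8 * (11 : ℤ) ^ 8 * (7 : ℤ) ^ 4 * (3 : ℤ) ^ 4 * (5 : ℤ) ^ 2 * (1 : ℤ) ^ 4 * (1093 : ℤ) ^ 1 * (3 : ℤ) ^ 2 * (1117 : ℤ) ^ 1 * (1 : ℤ) ^ 2 * (3 : ℤ) ^ 2 * (547 : ℤ) ^ 1 * (2 : ℤ) ^ 1 * (991 : ℤ) ^ 1 * (3 : ℤ) ^ 1 * A24 ^ 1 * A30 ^ 1 := by
    have := strip b20 (X := (3 : ℤ) * (5 : ℤ) ^ 8 * (11 : ℤ) ^ 8 * (7 : ℤ) ^ 4 * (3 : ℤ) ^ 4 * (5 : ℤ) ^ 2 * (1 : ℤ) ^ 4 * (1093 : ℤ) ^ 1 * (3 : ℤ) ^ 2 * (1117 : ℤ) ^ 1 * (1 : ℤ) ^ 2 * (3 : ℤ) ^ 2 * (547 : ℤ) ^ 1 * (2 : ℤ) ^ 1 * (991 : ℤ) ^ 1 * A24 ^ 1 * A30 ^ 1) 1 (dvd_of_eq' h0 (by ring))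
    exact dvd_of_eq' this (by ring)
  replace h0 : P ∣ (3 : ℤ) * (5 : ℤ) ^ 8 * (11 : ℤ) ^ 8 * (7 : ℤ) ^ 4 * (3 : ℤ) ^ 4 * (5 : ℤ) ^ 2 * (1 : ℤ) ^ 4 * (1093 : ℤ) ^ 1 * (3 : ℤ) ^ 2 * (1117 : ℤ) ^ 1 * (1 : ℤ) ^ 2 * (3 : ℤ) ^ 2 * (547 : ℤ) ^ 1 * (2 : ℤ) ^ 1 * (991 : ℤ) ^ 1 * (3 : ℤ) ^ 1 * (3 : ℤ) ^ 1 * A30 ^ 1 := by
    have := strip b24 (X := (3 : ℤ) * (5 : ℤ) ^ 8 * (11 : ℤ) ^ 8 * (7 : ℤ) ^ 4 * (3 : ℤ) ^ 4 * (5 : ℤ) ^ 2 * (1 : ℤ) ^ 4 * (1093 : ℤ) ^ 1 * (3 : ℤ) ^ 2 * (1117 : ℤ) ^ 1 * (1 : ℤ) ^ 2 * (3 : ℤ) ^ 2 * (547 : ℤ) ^ 1 * (2 : ℤ) ^ 1 * (991 : ℤ) ^ 1 * (3 : ℤ) ^ 1 * A30 ^ 1) 1 (dvd_of_eq' h0 (by ring))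
    exact dvd_of_eq' this (by ring)
  replace h0 : P ∣ (3 : ℤ) * (5 : ℤ) ^ 8 * (11 : ℤ) ^ 8 * (7 : ℤ) ^ 4 * (3 : ℤ) ^ 4 * (5 : ℤ) ^ 2 * (1 : ℤ) ^ 4 * (1093 : ℤ) ^ 1 * (3 : ℤ) ^ 2 * (1117 : ℤ) ^ 1 * (1 : ℤ) ^ 2 * (3 : ℤ) ^ 2 * (547 : ℤ) ^ 1 * (2 : ℤ) ^ 1 * (991 : ℤ) ^ 1 * (3 : ℤ) ^ 1 * (3 : ℤ) ^ 1 * (4 : ℤ) ^ 1 := by
    have := strip b30 (X := (3 : ℤ) * (5 : ℤ) ^ 8 * (11 : ℤ) ^ 8 * (7 : ℤ) ^ 4 * (3 : ℤ) ^ 4 * (5 : ℤ) ^ 2 * (1 : ℤ) ^ 4 * (1093 : ℤ) ^ 1 * (3 : ℤ) ^ 2 * (1117 : ℤ) ^ 1 * (1 : ℤ) ^ 2 * (3 : ℤ) ^ 2 * (547 : ℤ) ^ 1 * (2 : ℤ) ^ 1 * (991 : ℤ) ^ 1 * (3 : ℤ) ^ 1 * (3 : ℤ) ^ 1) 1 (dvd_of_eq' h0 (by ring))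
    exact dvd_of_eq' this (by ring)
  convert h0 using 1
  norm_num

theorem small3 : ∀ q : Fin 21, 3 ≤ q.1 →
    ¬ (q.1 * (q.1 ^ 12 + 1) * (q.1 ^ 10 + 1) * (q.1 ^ 6 + 1) - 3) ∣
      q.1 ^ 120 * (([2, 8, 12, 14, 18, 20, 24, 30] : List ℕ).map fun d => q.1 ^ d - 1).prod := by
  decide +kernel

theorem large3 {q : ℤ} (hq : 21 ≤ q) (h : BQ8 q - 3 ∣ 3 * MQ8 q) : False := by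
  have hle := Int.le_of_dvd (by norm_num) (dvd_const3 h)
  obtain ⟨r, hr, rfl⟩ : ∃ r, 0 ≤ r ∧ q = r + 21 := ⟨q - 21, by omega, by ring⟩
  have h2 : (21 : ℤ) ^ 28 ≤ (r + 21) ^ 28 := pow_le_pow_left₀ (by norm_num) (by omega) _
  have h3 : 0 ≤ (-3 + (r + 21) + (r + 21) ^ 7 + (r + 21) ^ 11 + (r + 21) ^ 13 + (r + 21) ^ 17 + (r + 21) ^ 19 + (r + 21) ^ 23 + (r + 21) ^ 29) - (r + 21) ^ 28 := by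
    ring_nf
    positivity
  norm_num at h2
  linarith

theorem dvd_const4 {q : ℤ} (h : BQ8 q - 4 ∣ 4 * MQ8 q) :
    (-4 - 3 * q + q ^ 2 + 4 * q ^ 3 + 3 * q ^ 4 - q ^ 5 - 4 * q ^ 6 - 2 * q ^ 7 + 2 * q ^ 8 + 4 * q ^ 9 + 2 * q ^ 10 - q ^ 11 - 3 * q ^ 12 - q ^ 13 + 2 * q ^ 14 + 3 * q ^ 15 + q ^ 16 - q ^ 17 - 2 * q ^ 18 + 2 * q ^ 20 + 2 * q ^ 21 - q ^ 23 - q ^ 24 + q ^ 26 + q ^ 27) ∣ (1271224406770736867601768138652463923200000 : ℤ) := by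
  set P : ℤ := -4 - 3 * q + q ^ 2 + 4 * q ^ 3 + 3 * q ^ 4 - q ^ 5 - 4 * q ^ 6 - 2 * q ^ 7 + 2 * q ^ 8 + 4 * q ^ 9 + 2 * q ^ 10 - q ^ 11 - 3 * q ^ 12 - q ^ 13 + 2 * q ^ 14 + 3 * q ^ 15 + q ^ 16 - q ^ 17 - 2 * q ^ 18 + 2 * q ^ 20 + 2 * q ^ 21 - q ^ 23 - q ^ 24 + q ^ 26 + q ^ 27 with hP
  have hdvd : P ∣ BQ8 q - 4 := ⟨(1 - q + q ^ 2), by rw [hP, BQ8]; ring⟩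
  have h0 := hdvd.trans h
  rw [MQ8_eq] at h0
  have b1 : (4 : ℤ) = (1) * P + (-8 - 11 * q - 10 * q ^ 2 - 6 * q ^ 3 - 3 * q ^ 4 - 4 * q ^ 5 - 8 * q ^ 6 - 10 * q ^ 7 - 8 * q ^ 8 - 4 * q ^ 9 - 2 * q ^ 10 - 3 * q ^ 11 - 6 * q ^ 12 - 7 * q ^ 13 - 5 * q ^ 14 - 2 * q ^ 15 - q ^ 16 - 2 * q ^ 17 - 4 * q ^ 18 - 4 * q ^ 19 - 2 * q ^ 20 - q ^ 23 - 2 * q ^ 24 - 2 * q ^ 25 - q ^ 26) * (-1 + q) := by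
    rw [hP]; ring
  have b2 : (4 : ℤ) = (-1) * P + (-3 * q + 4 * q ^ 2 + 3 * q ^ 4 - 4 * q ^ 5 - 2 * q ^ 7 + 4 * q ^ 8 + 2 * q ^ 10 - 3 * q ^ 11 - q ^ 13 + 3 * q ^ 14 + q ^ 16 - 2 * q ^ 17 + 2 * q ^ 20 - q ^ 23 + q ^ 26) * (1 + q) := by
    rw [hP]; ring
  have b3 : (4 : ℤ) = (q) * P + (4 - q ^ 2 - 3 * q ^ 4 + 4 * q ^ 6 - 2 * q ^ 8 - 2 * q ^ 10 + 3 * q ^ 12 - 2 * q ^ 14 - q ^ 16 + 2 * q ^ 18 - 2 * q ^ 20 + q ^ 24 - q ^ 26) * (1 + q + q ^ 2) := by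
    rw [hP]; ring
  have b4 : (4 : ℤ) = (q) * P + (4 + 4 * q - q ^ 2 - 5 * q ^ 3 - 3 * q ^ 4 + 2 * q ^ 5 + 4 * q ^ 6 + 2 * q ^ 7 - 2 * q ^ 8 - 4 * q ^ 9 - 2 * q ^ 10 + 2 * q ^ 11 + 3 * q ^ 12 + q ^ 13 - 2 * q ^ 14 - 3 * q ^ 15 - q ^ 16 + 2 * q ^ 17 + 2 * q ^ 18 - 2 * q ^ 20 - 2 * q ^ 21 + 2 * q ^ 23 + q ^ 24 - q ^ 25 - q ^ 26) * (1 + q ^ 2) := by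
    rw [hP]; ring
  have b5 : (6 : ℤ) = (-1 + q - q ^ 2) * P + (2 - q - q ^ 2 + 2 * q ^ 5 - q ^ 6 - q ^ 8 + 2 * q ^ 10 - q ^ 12 - q ^ 14 + 2 * q ^ 15 - q ^ 18 + q ^ 20 - q ^ 24 + q ^ 25) * (1 + q + q ^ 2 + q ^ 3 + q ^ 4) := by
    rw [hP]; ring
  have b6 : (40 : ℤ) = (-1) * P + (36 + 33 * q - 2 * q ^ 2 - 31 * q ^ 3 - 26 * q ^ 4 + 4 * q ^ 5 + 26 * q ^ 6 + 20 * q ^ 7 - 4 * q ^ 8 - 20 * q ^ 9 - 14 * q ^ 10 + 5 * q ^ 11 + 16 * q ^ 12 + 10 * q ^ 13 - 4 * q ^ 14 - 11 * q ^ 15 - 6 * q ^ 16 + 4 * q ^ 17 + 8 * q ^ 18 + 4 * q ^ 19 - 2 * q ^ 20 - 4 * q ^ 21 - 2 * q ^ 22 + q ^ 23 + 2 * q ^ 24 + q ^ 25) * (1 - q + q ^ 2) := by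
    rw [hP]; ring
  have b7 : (5461 : ℤ) = (-1362 + 1028 * q - 1105 * q ^ 2 - 273 * q ^ 3 - 65 * q ^ 4 - 13 * q ^ 5) * P + (13 + 13 * q - 13 * q ^ 3 - 13 * q ^ 4 + 13 * q ^ 6 + 1375 * q ^ 7 - 1028 * q ^ 8 - 270 * q ^ 9 - 74 * q ^ 10 + 1350 * q ^ 11 - 1018 * q ^ 12 + 1114 * q ^ 13 + 272 * q ^ 14 - 1307 * q ^ 15 - 330 * q ^ 16 + 1286 * q ^ 17 + 328 * q ^ 18 + 82 * q ^ 19 + 14 * q ^ 20 - 3 * q ^ 21 - 1366 * q ^ 22 + 1027 * q ^ 23 + 260 * q ^ 24 + 65 * q ^ 25 + 13 * q ^ 26) * (1 + q + q ^ 2 + q ^ 3 + q ^ 4 + q ^ 5 + q ^ 6) := by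
    rw [hP]; ring
  have b8 : (4 : ℤ) = (-1 + q - q ^ 2) * P + (q - q ^ 5 + q ^ 7 + q ^ 9 + q ^ 17 + q ^ 19 - q ^ 21 + q ^ 25) * (1 + q ^ 4) := by
    rw [hP]; ring
  have b9 : (5149 : ℤ) = (-1191 + 1008 * q - 1333 * q ^ 2 + 15 * q ^ 3 - 311 * q ^ 4 - 74 * q ^ 5) * P + (385 + 459 * q - 1117 * q ^ 2 - 568 * q ^ 3 - 784 * q ^ 4 + 990 * q ^ 5 + 455 * q ^ 6 + 1915 * q ^ 7 + 437 * q ^ 8 + 166 * q ^ 9 - 1403 * q ^ 10 - 250 * q ^ 11 - 106 * q ^ 12 + 1350 * q ^ 13 + 137 * q ^ 14 + 46 * q ^ 15 - 106 * q ^ 16 + 1350 * q ^ 17 + 522 * q ^ 18 + 505 * q ^ 19 - 1223 * q ^ 20 - 409 * q ^ 21 - 445 * q ^ 22 + 1170 * q ^ 23 + 296 * q ^ 24 + 385 * q ^ 25 + 74 * q ^ 26) * (1 + q ^ 3 +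 q ^ 6) := by
    rw [hP]; ring
  have b10 : (2 : ℤ) = (-1 + q - q ^ 2) * P + (-2 - q + q ^ 2 + 2 * q ^ 5 + q ^ 6 + q ^ 8 - 2 * q ^ 10 + q ^ 12 + q ^ 14 + 2 * q ^ 15 + q ^ 18 - q ^ 20 + q ^ 24 + q ^ 25) * (1 - q + q ^ 2 - q ^ 3 + q ^ 4) := by
    rw [hP]; ring
  have b12 : (4 : ℤ) = (-1 + q - q ^ 2) * P + (q + q ^ 3 + q ^ 11 + 2 * q ^ 13 + q ^ 15 + q ^ 23 + q ^ 25) * (1 - q ^ 2 + q ^ 4) := by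
    rw [hP]; ring
  have b14 : (3277 : ℤ) = (-816 + 612 * q - 663 * q ^ 2 - 169 * q ^ 3 - 39 * q ^ 4 - 13 * q ^ 5) * P + (13 + 13 * q - 13 * q ^ 3 - 13 * q ^ 4 + 13 * q ^ 6 + 829 * q ^ 7 + 1020 * q ^ 8 + 242 * q ^ 9 + 54 * q ^ 10 + 836 * q ^ 11 + 1038 * q ^ 12 + 1082 * q ^ 13 + 264 * q ^ 14 - 763 * q ^ 15 - 194 * q ^ 16 + 774 * q ^ 17 + 200 * q ^ 18 + 50 * q ^ 19 + 6 * q ^ 20 - 5 * q ^ 21 + 818 * q ^ 22 + 1027 * q ^ 23 + 260 * q ^ 24 + 65 * q ^ 25 + 13 * q ^ 26) * (1 - q + q ^ 2 - q ^ 3 + q ^ 4 - q ^ 5 + q ^ 6) := by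
    rw [hP]; ring
  have b15 : (3 : ℤ) = (-1 + q - q ^ 2) * P + (-1 + q ^ 3 + q ^ 5 + q ^ 7 + q ^ 9 + q ^ 11 + q ^ 13 - q ^ 16 + q ^ 19 + q ^ 20 + q ^ 21) * (1 - q + q ^ 3 - q ^ 4 + q ^ 5 - q ^ 7 + q ^ 8) := by
    rw [hP]; ring
  have b18 : (541 : ℤ) = (-137 + 104 * q - 75 * q ^ 2 - 43 * q ^ 3 + 5 * q ^ 4 + 12 * q ^ 5) * P + (-7 + 5 * q + 149 * q ^ 2 + 40 * q ^ 3 - 34 * q ^ 4 + 106 * q ^ 5 + 31 * q ^ 6 + 125 * q ^ 7 + 33 * q ^ 8 - 22 * q ^ 9 + 113 * q ^ 10 + 26 * q ^ 11 - 24 * q ^ 12 + 130 * q ^ 13 + 45 * q ^ 14 - 22 * q ^ 15 - 24 * q ^ 16 + 130 * q ^ 17 + 38 * q ^ 18 - 17 * q ^ 19 + 125 * q ^ 20 + 33 * q ^ 21 - 29 * q ^ 22 + 118 * q ^ 23 + 38 * q ^ 24 - 17 * q ^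 25 - 12 * q ^ 26) * (1 - q ^ 3 + q ^ 6) := by
    rw [hP]; ring
  have b20 : (4 : ℤ) = (-1 + q - q ^ 2) * P + (q + q ^ 3 + q ^ 7 + q ^ 9 + q ^ 13 + q ^ 15 + q ^ 19 + q ^ 21) * (1 - q ^ 2 + q ^ 4 - q ^ 6 + q ^ 8) := by
    rw [hP]; ring
  have b24 : (4 : ℤ) = (-1 + q - q ^ 2) * P + (q + q ^ 5 + q ^ 7 + 2 * q ^ 11 + q ^ 15 + q ^ 17 + q ^ 21) * (1 - q ^ 4 + q ^ 8) := by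
    rw [hP]; ring
  have b30 : (5 : ℤ) = (-1 + q - q ^ 2) * P + (1 + q ^ 3 + q ^ 5 + q ^ 7 + q ^ 9 + q ^ 11 + q ^ 13 + q ^ 16 + q ^ 19 - q ^ 20 + q ^ 21) * (1 + q - q ^ 3 - q ^ 4 - q ^ 5 + q ^ 7 + q ^ 8) := by
    rw [hP]; ring
  clear_value P
  generalize (1 + q + q ^ 2 + q ^ 3 + q ^ 4 + q ^ 5 + q ^ 6) = A7 at h0 b7
  generalize (1 - q + q ^ 2 - q ^ 3 + q ^ 4 - q ^ 5 + q ^ 6) = A14 at h0 b14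
  generalize (1 - q + q ^ 3 - q ^ 4 + q ^ 5 - q ^ 7 + q ^ 8) = A15 at h0 b15
  generalize (1 + q - q ^ 3 - q ^ 4 - q ^ 5 + q ^ 7 + q ^ 8) = A30 at h0 b30
  generalize (1 - q ^ 2 + q ^ 4 - q ^ 6 + q ^ 8) = A20 at h0 b20
  generalize (1 + q + q ^ 2 + q ^ 3 + q ^ 4) = A5 at h0 b5
  generalize (1 - q + q ^ 2 - q ^ 3 + q ^ 4) = A10 at h0 b10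
  generalize (1 + q ^ 3 + q ^ 6) = A9 at h0 b9
  generalize (1 - q ^ 2 + q ^ 4) = A12 at h0 b12
  generalize (1 - q ^ 3 + q ^ 6) = A18 at h0 b18
  generalize (1 - q ^ 4 + q ^ 8) = A24 at h0 b24
  generalize (1 + q + q ^ 2) = A3 at h0 b3
  generalize (1 - q + q ^ 2) = A6 at h0 b6
  generalize (1 + q ^ 2) = A4 at h0 b4
  generalize (1 + q ^ 4) = A8 at h0 b8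
  generalize (-1 + q) = A1 at h0 b1
  generalize (1 + q) = A2 at h0 b2
  replace h0 : P ∣ (4 : ℤ) * (4 : ℤ) ^ 8 * A2 ^ 8 * A3 ^ 4 * A4 ^ 4 * A5 ^ 2 * A6 ^ 4 * A7 ^ 1 * A8 ^ 2 * A9 ^ 1 * A10 ^ 2 * A12 ^ 2 * A14 ^ 1 * A15 ^ 1 * A18 ^ 1 * A20 ^ 1 * A24 ^ 1 * A30 ^ 1 := by
    have := strip b1 (X := (4 : ℤ) * A2 ^ 8 * A3 ^ 4 * A4 ^ 4 * A5 ^ 2 * A6 ^ 4 * A7 ^ 1 * A8 ^ 2 * A9 ^ 1 * A10 ^ 2 * A12 ^ 2 * A14 ^ 1 * A15 ^ 1 * A18 ^ 1 * A20 ^ 1 * A24 ^ 1 * A30 ^ 1) 8 (dvd_of_eq' h0 (by ring))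
    exact dvd_of_eq' this (by ring)
  replace h0 : P ∣ (4 : ℤ) * (4 : ℤ) ^ 8 * (4 : ℤ) ^ 8 * A3 ^ 4 * A4 ^ 4 * A5 ^ 2 * A6 ^ 4 * A7 ^ 1 * A8 ^ 2 * A9 ^ 1 * A10 ^ 2 * A12 ^ 2 * A14 ^ 1 * A15 ^ 1 * A18 ^ 1 * A20 ^ 1 * A24 ^ 1 * A30 ^ 1 := by
    have := strip b2 (X := (4 : ℤ) * (4 : ℤ) ^ 8 * A3 ^ 4 * A4 ^ 4 * A5 ^ 2 * A6 ^ 4 * A7 ^ 1 * A8 ^ 2 * A9 ^ 1 * A10 ^ 2 * A12 ^ 2 * A14 ^ 1 * A15 ^ 1 * A18 ^ 1 * A20 ^ 1 * A24 ^ 1 * A30 ^ 1) 8 (dvd_of_eq' h0 (by ring))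
    exact dvd_of_eq' this (by ring)
  replace h0 : P ∣ (4 : ℤ) * (4 : ℤ) ^ 8 * (4 : ℤ) ^ 8 * (4 : ℤ) ^ 4 * A4 ^ 4 * A5 ^ 2 * A6 ^ 4 * A7 ^ 1 * A8 ^ 2 * A9 ^ 1 * A10 ^ 2 * A12 ^ 2 * A14 ^ 1 * A15 ^ 1 * A18 ^ 1 * A20 ^ 1 * A24 ^ 1 * A30 ^ 1 := by
    have := strip b3 (X := (4 : ℤ) * (4 : ℤ) ^ 8 * (4 : ℤ) ^ 8 * A4 ^ 4 * A5 ^ 2 * A6 ^ 4 * A7 ^ 1 * A8 ^ 2 * A9 ^ 1 * A10 ^ 2 * A12 ^ 2 * A14 ^ 1 * A15 ^ 1 * A18 ^ 1 * A20 ^ 1 * A24 ^ 1 * A30 ^ 1) 4 (dvd_of_eq' h0 (by ring))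
    exact dvd_of_eq' this (by ring)
  replace h0 : P ∣ (4 : ℤ) * (4 : ℤ) ^ 8 * (4 : ℤ) ^ 8 * (4 : ℤ) ^ 4 * (4 : ℤ) ^ 4 * A5 ^ 2 * A6 ^ 4 * A7 ^ 1 * A8 ^ 2 * A9 ^ 1 * A10 ^ 2 * A12 ^ 2 * A14 ^ 1 * A15 ^ 1 * A18 ^ 1 * A20 ^ 1 * A24 ^ 1 * A30 ^ 1 := by
    have := strip b4 (X := (4 : ℤ) * (4 : ℤ) ^ 8 * (4 : ℤ) ^ 8 * (4 : ℤ) ^ 4 * A5 ^ 2 * A6 ^ 4 * A7 ^ 1 * A8 ^ 2 * A9 ^ 1 * A10 ^ 2 * A12 ^ 2 * A14 ^ 1 * A15 ^ 1 * A18 ^ 1 * A20 ^ 1 * A24 ^ 1 * A30 ^ 1) 4 (dvd_of_eq' h0 (by ring))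
    exact dvd_of_eq' this (by ring)
  replace h0 : P ∣ (4 : ℤ) * (4 : ℤ) ^ 8 * (4 : ℤ) ^ 8 * (4 : ℤ) ^ 4 * (4 : ℤ) ^ 4 * (6 : ℤ) ^ 2 * A6 ^ 4 * A7 ^ 1 * A8 ^ 2 * A9 ^ 1 * A10 ^ 2 * A12 ^ 2 * A14 ^ 1 * A15 ^ 1 * A18 ^ 1 * A20 ^ 1 * A24 ^ 1 * A30 ^ 1 := by
    have := strip b5 (X := (4 : ℤ) * (4 : ℤ) ^ 8 * (4 : ℤ) ^ 8 * (4 : ℤ) ^ 4 * (4 : ℤ) ^ 4 * A6 ^ 4 * A7 ^ 1 * A8 ^ 2 * A9 ^ 1 * A10 ^ 2 * A12 ^ 2 * A14 ^ 1 * A15 ^ 1 * A18 ^ 1 * A20 ^ 1 * A24 ^ 1 * A30 ^ 1) 2 (dvd_of_eq' h0 (by ring))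
    exact dvd_of_eq' this (by ring)
  replace h0 : P ∣ (4 : ℤ) * (4 : ℤ) ^ 8 * (4 : ℤ) ^ 8 * (4 : ℤ) ^ 4 * (4 : ℤ) ^ 4 * (6 : ℤ) ^ 2 * (40 : ℤ) ^ 4 * A7 ^ 1 * A8 ^ 2 * A9 ^ 1 * A10 ^ 2 * A12 ^ 2 * A14 ^ 1 * A15 ^ 1 * A18 ^ 1 * A20 ^ 1 * A24 ^ 1 * A30 ^ 1 := by
    have := strip b6 (X := (4 : ℤ) * (4 : ℤ) ^ 8 * (4 : ℤ) ^ 8 * (4 : ℤ) ^ 4 * (4 : ℤ) ^ 4 * (6 : ℤ) ^ 2 * A7 ^ 1 * A8 ^ 2 * A9 ^ 1 * A10 ^ 2 * A12 ^ 2 * A14 ^ 1 * A15 ^ 1 * A18 ^ 1 * A20 ^ 1 * A24 ^ 1 * A30 ^ 1) 4 (dvd_of_eq' h0 (by ring))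
    exact dvd_of_eq' this (by ring)
  replace h0 : P ∣ (4 : ℤ) * (4 : ℤ) ^ 8 * (4 : ℤ) ^ 8 * (4 : ℤ) ^ 4 * (4 : ℤ) ^ 4 * (6 : ℤ) ^ 2 * (40 : ℤ) ^ 4 * (5461 : ℤ) ^ 1 * A8 ^ 2 * A9 ^ 1 * A10 ^ 2 * A12 ^ 2 * A14 ^ 1 * A15 ^ 1 * A18 ^ 1 * A20 ^ 1 * A24 ^ 1 * A30 ^ 1 := by
    have := strip b7 (X := (4 : ℤ) * (4 : ℤ) ^ 8 * (4 : ℤ) ^ 8 * (4 : ℤ) ^ 4 * (4 : ℤ) ^ 4 * (6 : ℤ) ^ 2 * (40 : ℤ) ^ 4 * A8 ^ 2 * A9 ^ 1 * A10 ^ 2 * A12 ^ 2 * A14 ^ 1 * A15 ^ 1 * A18 ^ 1 * A20 ^ 1 * A24 ^ 1 * A30 ^ 1) 1 (dvd_of_eq' h0 (by ring))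
    exact dvd_of_eq' this (by ring)
  replace h0 : P ∣ (4 : ℤ) * (4 : ℤ) ^ 8 * (4 : ℤ) ^ 8 * (4 : ℤ) ^ 4 * (4 : ℤ) ^ 4 * (6 : ℤ) ^ 2 * (40 : ℤ) ^ 4 * (5461 : ℤ) ^ 1 * (4 : ℤ) ^ 2 * A9 ^ 1 * A10 ^ 2 * A12 ^ 2 * A14 ^ 1 * A15 ^ 1 * A18 ^ 1 * A20 ^ 1 * A24 ^ 1 * A30 ^ 1 := by
    have := strip b8 (X := (4 : ℤ) * (4 : ℤ) ^ 8 * (4 : ℤ) ^ 8 * (4 : ℤ) ^ 4 * (4 : ℤ) ^ 4 * (6 : ℤ) ^ 2 * (40 : ℤ) ^ 4 * (5461 : ℤ) ^ 1 * A9 ^ 1 * A10 ^ 2 * A12 ^ 2 * A14 ^ 1 * A15 ^ 1 * A18 ^ 1 * A20 ^ 1 * A24 ^ 1 * A30 ^ 1) 2 (dvd_of_eq' h0 (by ring))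
    exact dvd_of_eq' this (by ring)
  replace h0 : P ∣ (4 : ℤ) * (4 : ℤ) ^ 8 * (4 : ℤ) ^ 8 * (4 : ℤ) ^ 4 * (4 : ℤ) ^ 4 * (6 : ℤ) ^ 2 * (40 : ℤ) ^ 4 * (5461 : ℤ) ^ 1 * (4 : ℤ) ^ 2 * (5149 : ℤ) ^ 1 * A10 ^ 2 * A12 ^ 2 * A14 ^ 1 * A15 ^ 1 * A18 ^ 1 * A20 ^ 1 * A24 ^ 1 * A30 ^ 1 := by
    have := strip b9 (X := (4 : ℤ) * (4 : ℤ) ^ 8 * (4 : ℤ) ^ 8 * (4 : ℤ) ^ 4 * (4 : ℤ) ^ 4 * (6 : ℤ) ^ 2 * (40 : ℤ) ^ 4 * (5461 : ℤ) ^ 1 * (4 : ℤ) ^ 2 * A10 ^ 2 * A12 ^ 2 * A14 ^ 1 * A15 ^ 1 * A18 ^ 1 * A20 ^ 1 * A24 ^ 1 * A30 ^ 1) 1 (dvd_of_eq' h0 (by ring))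
    exact dvd_of_eq' this (by ring)
  replace h0 : P ∣ (4 : ℤ) * (4 : ℤ) ^ 8 * (4 : ℤ) ^ 8 * (4 : ℤ) ^ 4 * (4 : ℤ) ^ 4 * (6 : ℤ) ^ 2 * (40 : ℤ) ^ 4 * (5461 : ℤ) ^ 1 * (4 : ℤ) ^ 2 * (5149 : ℤ) ^ 1 * (2 : ℤ) ^ 2 * A12 ^ 2 * A14 ^ 1 * A15 ^ 1 * A18 ^ 1 * A20 ^ 1 * A24 ^ 1 * A30 ^ 1 := by
    have := strip b10 (X := (4 : ℤ) * (4 : ℤ) ^ 8 * (4 : ℤ) ^ 8 * (4 : ℤ) ^ 4 * (4 : ℤ) ^ 4 * (6 : ℤ) ^ 2 * (40 : ℤ) ^ 4 * (5461 : ℤ) ^ 1 * (4 : ℤ) ^ 2 * (5149 : ℤ) ^ 1 * A12 ^ 2 * A14 ^ 1 * A15 ^ 1 * A18 ^ 1 * A20 ^ 1 * A24 ^ 1 * A30 ^ 1) 2 (dvd_of_eq' h0 (by ring))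
    exact dvd_of_eq' this (by ring)
  replace h0 : P ∣ (4 : ℤ) * (4 : ℤ) ^ 8 * (4 : ℤ) ^ 8 * (4 : ℤ) ^ 4 * (4 : ℤ) ^ 4 * (6 : ℤ) ^ 2 * (40 : ℤ) ^ 4 * (5461 : ℤ) ^ 1 * (4 : ℤ) ^ 2 * (5149 : ℤ) ^ 1 * (2 : ℤ) ^ 2 * (4 : ℤ) ^ 2 * A14 ^ 1 * A15 ^ 1 * A18 ^ 1 * A20 ^ 1 * A24 ^ 1 * A30 ^ 1 := by
    have := strip b12 (X := (4 : ℤ) * (4 : ℤ) ^ 8 * (4 : ℤ) ^ 8 * (4 : ℤ) ^ 4 * (4 : ℤ) ^ 4 * (6 : ℤ) ^ 2 * (40 : ℤ) ^ 4 * (5461 : ℤ) ^ 1 * (4 : ℤ) ^ 2 * (5149 : ℤ) ^ 1 * (2 : ℤ) ^ 2 * A14 ^ 1 * A15 ^ 1 * A18 ^ 1 * A20 ^ 1 * A24 ^ 1 * A30 ^ 1) 2 (dvd_of_eq' h0 (by ring))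
    exact dvd_of_eq' this (by ring)
  replace h0 : P ∣ (4 : ℤ) * (4 : ℤ) ^ 8 * (4 : ℤ) ^ 8 * (4 : ℤ) ^ 4 * (4 : ℤ) ^ 4 * (6 : ℤ) ^ 2 * (40 : ℤ) ^ 4 * (5461 : ℤ) ^ 1 * (4 : ℤ) ^ 2 * (5149 : ℤ) ^ 1 * (2 : ℤ) ^ 2 * (4 : ℤ) ^ 2 * (3277 : ℤ) ^ 1 * A15 ^ 1 * A18 ^ 1 * A20 ^ 1 * A24 ^ 1 * A30 ^ 1 := by
    have := strip b14 (X := (4 : ℤ) * (4 : ℤ) ^ 8 * (4 : ℤ) ^ 8 * (4 : ℤ) ^ 4 * (4 : ℤ) ^ 4 * (6 : ℤ) ^ 2 * (40 : ℤ) ^ 4 * (5461 : ℤ) ^ 1 * (4 : ℤ) ^ 2 * (5149 : ℤ) ^ 1 * (2 : ℤ) ^ 2 * (4 : ℤ) ^ 2 * A15 ^ 1 * A18 ^ 1 * A20 ^ 1 * A24 ^ 1 * A30 ^ 1) 1 (dvd_of_eq' h0 (by ring))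
    exact dvd_of_eq' this (by ring)
  replace h0 : P ∣ (4 : ℤ) * (4 : ℤ) ^ 8 * (4 : ℤ) ^ 8 * (4 : ℤ) ^ 4 * (4 : ℤ) ^ 4 * (6 : ℤ) ^ 2 * (40 : ℤ) ^ 4 * (5461 : ℤ) ^ 1 * (4 : ℤ) ^ 2 * (5149 : ℤ) ^ 1 * (2 : ℤ) ^ 2 * (4 : ℤ) ^ 2 * (3277 : ℤ) ^ 1 * (3 : ℤ) ^ 1 * A18 ^ 1 * A20 ^ 1 * A24 ^ 1 * A30 ^ 1 := by
    have := strip b15 (X := (4 : ℤ) * (4 : ℤ) ^ 8 * (4 : ℤ) ^ 8 * (4 : ℤ) ^ 4 * (4 : ℤ) ^ 4 * (6 : ℤ) ^ 2 * (40 : ℤ) ^ 4 * (5461 : ℤ) ^ 1 * (4 : ℤ) ^ 2 * (5149 : ℤ) ^ 1 * (2 : ℤ) ^ 2 * (4 : ℤ) ^ 2 * (3277 : ℤ) ^ 1 * A18 ^ 1 * A20 ^ 1 * A24 ^ 1 * A30 ^ 1) 1 (dvd_of_eq' h0 (by ring))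
    exact dvd_of_eq' this (by ring)
  replace h0 : P ∣ (4 : ℤ) * (4 : ℤ) ^ 8 * (4 : ℤ) ^ 8 * (4 : ℤ) ^ 4 * (4 : ℤ) ^ 4 * (6 : ℤ) ^ 2 * (40 : ℤ) ^ 4 * (5461 : ℤ) ^ 1 * (4 : ℤ) ^ 2 * (5149 : ℤ) ^ 1 * (2 : ℤ) ^ 2 * (4 : ℤ) ^ 2 * (3277 : ℤ) ^ 1 * (3 : ℤ) ^ 1 * (541 : ℤ) ^ 1 * A20 ^ 1 * A24 ^ 1 * A30 ^ 1 := by
    have := strip b18 (X := (4 : ℤ) * (4 : ℤ) ^ 8 * (4 : ℤ) ^ 8 * (4 : ℤ) ^ 4 * (4 : ℤ) ^ 4 * (6 : ℤ) ^ 2 * (40 : ℤ) ^ 4 * (5461 : ℤ) ^ 1 * (4 : ℤ) ^ 2 * (5149 : ℤ) ^ 1 * (2 : ℤ) ^ 2 * (4 : ℤ) ^ 2 * (3277 : ℤ) ^ 1 * (3 : ℤ) ^ 1 * A20 ^ 1 * A24 ^ 1 * A30 ^ 1) 1 (dvd_of_eq' h0 (by ring))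
    exact dvd_of_eq' this (by ring)
  replace h0 : P ∣ (4 : ℤ) * (4 : ℤ) ^ 8 * (4 : ℤ) ^ 8 * (4 : ℤ) ^ 4 * (4 : ℤ) ^ 4 * (6 : ℤ) ^ 2 * (40 : ℤ) ^ 4 * (5461 : ℤ) ^ 1 * (4 : ℤ) ^ 2 * (5149 : ℤ) ^ 1 * (2 : ℤ) ^ 2 * (4 : ℤ) ^ 2 * (3277 : ℤ) ^ 1 * (3 : ℤ) ^ 1 * (541 : ℤ) ^ 1 * (4 : ℤ) ^ 1 * A24 ^ 1 * A30 ^ 1 := by
    have := strip b20 (X := (4 : ℤ) * (4 : ℤ) ^ 8 * (4 : ℤ) ^ 8 * (4 : ℤ) ^ 4 * (4 : ℤ) ^ 4 * (6 : ℤ) ^ 2 * (40 : ℤ) ^ 4 * (5461 : ℤ) ^ 1 * (4 : ℤ) ^ 2 * (5149 : ℤ) ^ 1 * (2 : ℤ) ^ 2 * (4 : ℤ) ^ 2 * (3277 : ℤ) ^ 1 * (3 : ℤ) ^ 1 * (541 : ℤ) ^ 1 * A24 ^ 1 * A30 ^ 1) 1 (dvd_of_eq' h0 (by ring))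
    exact dvd_of_eq' this (by ring)
  replace h0 : P ∣ (4 : ℤ) * (4 : ℤ) ^ 8 * (4 : ℤ) ^ 8 * (4 : ℤ) ^ 4 * (4 : ℤ) ^ 4 * (6 : ℤ) ^ 2 * (40 : ℤ) ^ 4 * (5461 : ℤ) ^ 1 * (4 : ℤ) ^ 2 * (5149 : ℤ) ^ 1 * (2 : ℤ) ^ 2 * (4 : ℤ) ^ 2 * (3277 : ℤ) ^ 1 * (3 : ℤ) ^ 1 * (541 : ℤ) ^ 1 * (4 : ℤ) ^ 1 * (4 : ℤ) ^ 1 * A30 ^ 1 := by
    have := strip b24 (X := (4 : ℤ) * (4 : ℤ) ^ 8 * (4 : ℤ) ^ 8 * (4 : ℤ) ^ 4 * (4 : ℤ) ^ 4 * (6 : ℤ) ^ 2 * (40 : ℤ) ^ 4 * (5461 : ℤ) ^ 1 * (4 : ℤ) ^ 2 * (5149 : ℤ) ^ 1 * (2 : ℤ) ^ 2 * (4 : ℤ) ^ 2 * (3277 : ℤ) ^ 1 * (3 : ℤ) ^ 1 * (541 : ℤ) ^ 1 * (4 : ℤ) ^ 1 * A30 ^ 1) 1 (dvd_of_eq' h0 (by ring))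
    exact dvd_of_eq' this (by ring)
  replace h0 : P ∣ (4 : ℤ) * (4 : ℤ) ^ 8 * (4 : ℤ) ^ 8 * (4 : ℤ) ^ 4 * (4 : ℤ) ^ 4 * (6 : ℤ) ^ 2 * (40 : ℤ) ^ 4 * (5461 : ℤ) ^ 1 * (4 : ℤ) ^ 2 * (5149 : ℤ) ^ 1 * (2 : ℤ) ^ 2 * (4 : ℤ) ^ 2 * (3277 : ℤ) ^ 1 * (3 : ℤ) ^ 1 * (541 : ℤ) ^ 1 * (4 : ℤ) ^ 1 * (4 : ℤ) ^ 1 * (5 : ℤ) ^ 1 := by
    have := strip b30 (X := (4 : ℤ) * (4 : ℤ) ^ 8 * (4 : ℤ) ^ 8 * (4 : ℤ) ^ 4 * (4 : ℤ) ^ 4 * (6 : ℤ) ^ 2 * (40 : ℤ) ^ 4 * (5461 : ℤ) ^ 1 * (4 : ℤ) ^ 2 * (5149 : ℤ) ^ 1 * (2 : ℤ) ^ 2 * (4 : ℤ) ^ 2 * (3277 : ℤ) ^ 1 * (3 : ℤ) ^ 1 * (541 : ℤ) ^ 1 * (4 : ℤ) ^ 1 * (4 : ℤ) ^ 1) 1 (dvd_of_eq' h0 (by ring))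
    exact dvd_of_eq' this (by ring)
  convert h0 using 1
  norm_num

theorem small4 : ∀ q : Fin 42, 3 ≤ q.1 →
    ¬ (q.1 * (q.1 ^ 12 + 1) * (q.1 ^ 10 + 1) * (q.1 ^ 6 + 1) - 4) ∣
      q.1 ^ 120 * (([2, 8, 12, 14, 18, 20, 24, 30] : List ℕ).map fun d => q.1 ^ d - 1).prod := by
  decide +kernel

theorem large4 {q : ℤ} (hq : 42 ≤ q) (h : BQ8 q - 4 ∣ 4 * MQ8 q) : False := by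
  have hle := Int.le_of_dvd (by norm_num) (dvd_const4 h)
  obtain ⟨r, hr, rfl⟩ : ∃ r, 0 ≤ r ∧ q = r + 42 := ⟨q - 42, by omega, by ring⟩
  have h2 : (42 : ℤ) ^ 26 ≤ (r + 42) ^ 26 := pow_le_pow_left₀ (by norm_num) (by omega) _
  have h3 : 0 ≤ (-4 - 3 * (r + 42) + (r + 42) ^ 2 + 4 * (r + 42) ^ 3 + 3 * (r + 42) ^ 4 - (r + 42) ^ 5 - 4 * (r + 42) ^ 6 - 2 * (r + 42) ^ 7 + 2 * (r + 42) ^ 8 + 4 * (r + 42) ^ 9 + 2 * (r + 42) ^ 10 - (r + 42) ^ 11 - 3 * (r + 42) ^ 12 - (r + 42) ^ 13 + 2 * (r + 42) ^ 14 + 3 * (r + 42) ^ 15 + (r + 42) ^ 16 - (r + 42) ^ 17 - 2 * (r + 42) ^ 18 + 2 * (r + 42) ^ 20 + 2 * (r + 42) ^ 21 - (r + 42) ^ 23 - (r + 42) ^ 24 + (r + 42) ^ 26 + (r + 42) ^ 27)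 - (r + 42) ^ 26 := by
    ring_nf
    positivity
  norm_num at h2
  linarith

theorem small_two : ∀ d : Fin 35, 1 ≤ d.1 →
    ¬ (2 * (2 ^ 12 + 1) * (2 ^ 10 + 1) * (2 ^ 6 + 1) - d.1) ∣
      2 ^ 120 * (([2, 8, 12, 14, 18, 20, 24, 30] : List ℕ).map fun e => 2 ^ e - 1).prod := by
  decide +kernel

end Cfsg.Agent.E8Deg
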