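import Cfsg.Agent.E8Deg.Proj

/-!
The eigenspaces of a nontrivial central character of the Heisenberg radical.
-/

set_option autoImplicit false
set_option maxRecDepth 100000

namespace Cfsg.Agent.E8Deg

open Cfsg.Lie Cfsg.Agent.Chev
open scoped Classical

universe u

/-- The abelian subgroup of the radical. -/
def rA (i : Fin 28) : ℕ :=
  ([227, 238, 237, 236, 235, 234, 233, 232, 231, 230, 229, 228, 225, 224, 223, 222, 218, 221, 217,
    220, 216, 213, 215, 212, 203, 211, 209, 202] : List ℕ).getD i.1 0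

/-- The roots pairing with them to the highest root. -/
def rB (i : Fin 28) : ℕ :=
  ([161, 120, 122, 125, 129, 134, 140, 146, 151, 155, 158, 160, 168, 173, 177, 180, 187, 182, 190,
    183, 192, 196, 193, 198, 206, 199, 201, 208] : List ℕ).getD i.1 0

/-- The root of the highest root group. -/
def rZ (_ : Fin 1) : ℕ := 239

/-- The root `α`. -/
def rAl (_ : Fin 1) : ℕ := 226

/-- The sign of a pairing. -/
def cP (i : Fin 28) : ℤ := (((chevE8.commTerms (rA i) (rB i)).head?).map fun c => c.2.1).getD 0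

theorem chkA_zz : (∀ i, cOK (rA i) 239 = true ∧ cOK 239 (rA i) = true ∧ cOK (rB i) 239 = true ∧
    cOK 239 (rB i) = true) ∧ cOK 239 239 = true ∧ cOK 226 239 = true ∧ cOK 239 226 = true := by
  decide +kernel

theorem chkA_comm : ∀ i j, cOK (rA i) (rA j) = true := by decide +kernel

theorem chkA_pair : ∀ i, oneOK (rA i) (rB i) 239 (cP i) = true ∧ (cP i = 1 ∨ cP i = -1) := by
  decide +kernel

theorem chkA_other : ∀ i j, i ≠ j → cOK (rA j) (rB i) = true := by decide +kernel

theorem chkA_al : (∀ i, cOK (rA i) 226 = true ∧ cOK 226 (rA i) = true) ∧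
    (∀ i : Fin 28, 12 ≤ i.1 → cOK 226 (rB i) = true) ∧
    (oneOK 226 (rB 0) (rA 1) 1 = true ∨ oneOK 226 (rB 0) (rA 1) (-1) = true) := by
  decide +kernel

variable {F : Type u} [Field F] [Fintype F] {k : ℕ} {ρ : Representation ℂ (Gp F) (Fin k → ℂ)}

/-- Elements commuting with the root groups centralise the eigenprojections. -/
theorem pp_commute {P : EndV k} {n : ℕ} {R : Fin n → ℕ} (h : Fam ρ P R) {g : Gp F}
    (hg : Commute (ρ g) P) (hR : ∀ i a, Commute (ρ g) (ρ (xx (R i) a))) (B : Fin n → F) :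
    Commute (ρ g) (pp ρ P R B) := by
  refine h.intertwine (Equiv.refl _) B B fun u => ?_
  rw [Equiv.refl_apply, sub_self, AddChar.map_zero_eq_one]
  refine h.intertwine_ee hg id rfl (fun _ _ => rfl) (fun _ => 1) rfl (fun _ _ => (one_mul _).symm)
    (fun i a => ?_) u
  rw [one_smul, id, Fam.ee_single]
  exact ((hR i a).mul_right hg).eq

theorem rho_commute {r s : ℕ} (h : cOK r s = true) (t v : F) :
    Commute (ρ (xx s v)) (ρ (xx r t)) := by
  rw [Commute, SemiconjBy, ← map_mul, ← map_mul, (xx_commute h t v).eq]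

theorem fam_z : Fam ρ (1 : EndV k) rZ where
  idem := one_mul 1
  comm _ _ := Commute.one_right _
  swap _ _ a b := by
    rw [← map_mul, ← map_mul]
    show ρ (xx 239 a * xx 239 b) * _ = ρ (xx 239 b * xx 239 a) * _
    rw [(xx_commute chkA_zz.2.1 b a).eq]

/-- The eigenspace of a central character. -/
noncomputable def pc (ρ : Representation ℂ (Gp F) (Fin k → ℂ)) (c : Fin 1 → F) : EndV k :=
  pp ρ 1 rZ c

theorem pc_commute {r : ℕ} (h : cOK 239 r = true) (c : Fin 1 → F) (t : F) :
    Commute (ρ (xx r t)) (pc ρ c) :=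
  pp_commute fam_z (Commute.one_right _) (fun _ a => rho_commute h a t) c

theorem zz_pc (c : Fin 1 → F) (t : F) : ρ (xx 239 t) * pc ρ c = psi F (c 0 * t) • pc ρ c :=
  fam_z.root_pp c 0 t

theorem fam_A (c : Fin 1 → F) : Fam ρ (pc ρ c) rA where
  idem := fam_z.pp_sq c
  comm i a := pc_commute (chkA_zz.1 i).2.1 c a
  swap i j a b := by rw [← map_mul, ← map_mul, (xx_commute (chkA_comm j i) b a).eq]

/-- A translation of the characters. -/
noncomputable def kap (c : Fin 1 → F) (i : Fin 28) (v : F) : F := c 0 * (cP i : F) * v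

/-- The partner root groups translate the characters. -/
theorem shiftA (c : Fin 1 → F) (i : Fin 28) (v : F) (B : Fin 28 → F) :
    ρ (xx (rB i) v) * pp ρ (pc ρ c) rA (B - Pi.single i (kap c i v)) =
      pp ρ (pc ρ c) rA B * ρ (xx (rB i) v) := by
  have hP := pc_commute (ρ := ρ) (chkA_zz.1 i).2.2.2 c v
  refine (fam_A c).intertwine (Equiv.refl _) B _ fun u => ?_
  rw [Equiv.refl_apply]
  have e : dot (B - Pi.single i (kap c i v)) u - dot B u = -(kap c i v * u i) := by
    simp only [dot, Pi.sub_apply, sub_mul, Finset.sum_sub_distrib, sub_sub_cancel_left]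
    rw [Finset.sum_eq_single i (fun j _ hj => by rw [Pi.single_eq_of_ne hj, zero_mul])
      (by simp), Pi.single_eq_same]
  rw [e]
  refine (fam_A c).intertwine_ee hP id rfl (fun _ _ => rfl)
    (fun u => psi F (-(kap c i v * u i))) (by simp)
    (fun u w => by rw [← AddChar.map_add_eq_mul, Pi.add_apply]; congr 1; ring) (fun j a => ?_) u
  rw [id, Fam.ee_single]
  by_cases hij : i = j
  · subst hij
    rw [Pi.single_eq_same, ← mul_assoc, ← map_mul, xx_one_term (chkA_pair i).1 a v, map_mul, map_mul]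
    have hz : ρ (xx 239 ((cP i : F) * -a * v)) * pc ρ c =
        psi F (-(kap c i v * a)) • pc ρ c := by
      rw [zz_pc, kap]; congr 2; ring
    rw [mul_assoc (ρ (xx (rA i) a) * ρ (xx (rB i) v)), hz, mul_smul_comm,
      mul_assoc (ρ (xx (rA i) a)), hP.eq, ← mul_assoc]
  · rw [Pi.single_eq_of_ne hij, mul_zero, neg_zero, AddChar.map_zero_eq_one, one_smul, ← mul_assoc,
      (rho_commute (chkA_other i j hij) a v).eq, mul_assoc, hP.eq, ← mul_assoc]

theorem kap_surj {c : Fin 1 → F} (hc : c 0 ≠ 0) (i : Fin 28) (w : F) : ∃ v, kap c i v = w := by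
  have h : c 0 * (cP i : F) ≠ 0 := mul_ne_zero hc (sign_ne (chkA_pair i).2)
  exact ⟨w / (c 0 * (cP i : F)), by rw [kap, mul_div_cancel₀ _ h]⟩

theorem dd_A_const {c : Fin 1 → F} (hc : c 0 ≠ 0) (B : Fin 28 → F) :
    dd ρ (pc ρ c) rA B = dd ρ (pc ρ c) rA 0 := by
  have h1 : ∀ (i : Fin 28) (w : F) (B : Fin 28 → F),
      dd ρ (pc ρ c) rA (B - Pi.single i w) = dd ρ (pc ρ c) rA B := fun i w B => by
    obtain ⟨v, rfl⟩ := kap_surj hc i w
    exact (fam_A c).dd_conj (shiftA c i v B)
  have h2 : ∀ s : Finset (Fin 28), ∀ B : Fin 28 → F,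
      dd ρ (pc ρ c) rA (B - ∑ i ∈ s, Pi.single i (B i)) = dd ρ (pc ρ c) rA B := by
    intro s B
    induction s using Finset.induction with
    | empty => simp
    | @insert i t hi ih =>
      rw [Finset.sum_insert hi, ← sub_sub, sub_right_comm, h1, ih]
  have := h2 Finset.univ B
  rw [Finset.univ_sum_single, sub_self] at this
  exact this.symm

theorem dd_c_eq {c : Fin 1 → F} (hc : c 0 ≠ 0) :
    dd ρ 1 rZ c = Fintype.card F ^ 28 * dd ρ (pc ρ c) rA 0 := by
  have h := (fam_A (ρ := ρ) c).sum_dd
  rw [show tr (pc ρ c) = (dd ρ 1 rZ c : ℂ) from fam_z.tr_pp c] at h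
  rw [Finset.sum_congr rfl fun B _ => dd_A_const hc B, Finset.sum_const, Finset.card_univ,
    Fintype.card_fun, Fintype.card_fin, smul_eq_mul] at h
  exact_mod_cast h

/-- The vectors vanishing on given coordinates. -/
noncomputable def zset (S : Finset (Fin 28)) : Finset (Fin 28 → F) :=
  Finset.univ.filter fun B => ∀ i ∈ S, B i = 0

theorem sum_zset_insert {M : Type*} [AddCommMonoid M] {S : Finset (Fin 28)} {i : Fin 28}
    (hi : i ∉ S) (f : (Fin 28 → F) → M) :
    ∑ B ∈ zset (F := F) S, f B = ∑ B ∈ zset (F := F) (insert i S), ∑ v, f (B + Pi.single i v) := by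
  rw [← Finset.sum_product']
  refine Finset.sum_bij' (fun B _ => (B - Pi.single i (B i), B i))
    (fun x _ => x.1 + Pi.single i x.2) ?_ ?_ ?_ ?_ ?_
  · intro B hB
    simp only [zset, Finset.mem_filter, Finset.mem_univ, true_and] at hB
    simp only [zset, Finset.mem_product, Finset.mem_filter, Finset.mem_univ, true_and, and_true,
      Finset.mem_insert, forall_eq_or_imp]
    refine ⟨by simp, fun j hj => ?_⟩
    rw [Pi.sub_apply, Pi.single_eq_of_ne (fun e => hi (by subst e; exact hj)), hB j hj, sub_zero]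
  · intro x hx
    simp only [zset, Finset.mem_product, Finset.mem_filter, Finset.mem_univ, true_and, and_true,
      Finset.mem_insert, forall_eq_or_imp] at hx
    simp only [zset, Finset.mem_filter, Finset.mem_univ, true_and]
    intro j hj
    rw [Pi.add_apply, Pi.single_eq_of_ne (fun e => hi (by subst e; exact hj)), hx.2 j hj, add_zero]
  · intro B _; simp
  · intro x hx
    simp only [zset, Finset.mem_product, Finset.mem_filter, Finset.mem_univ, true_and, and_true,
      Finset.mem_insert, forall_eq_or_imp] at hx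
    simp [hx.1]
  · intro B _; simp

theorem sum_invariant (f : (Fin 28 → F) → ℕ) :
    ∀ S : Finset (Fin 28), (∀ i ∈ S, ∀ B v, f (B + Pi.single i v) = f B) →
      ∑ B, f B = Fintype.card F ^ S.card * ∑ B ∈ zset (F := F) S, f B := by
  intro S
  induction S using Finset.induction with
  | empty => simp [zset]
  | @insert i t hi ih =>
    intro h
    rw [ih fun j hj => h j (Finset.mem_insert_of_mem hj), sum_zset_insert hi,
      Finset.card_insert_of_notMem hi,
      Finset.sum_congr rfl fun B _ => Finset.sum_congr rfl fun v _ => h i (Finset.mem_insert_self i t) B v]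
    simp only [Finset.sum_const, Finset.card_univ, smul_eq_mul, ← Finset.mul_sum]
    ring

/-- The average of the second coordinate. -/
theorem sum_xs {c : Fin 1 → F} (hc : c 0 ≠ 0) :
    ∑ t : F, tr (ρ (xx (rA 1) t) * pc ρ c) =
      (Fintype.card F : ℂ) * ((Fintype.card F : ℂ) ^ 27 * dd ρ (pc ρ c) rA 0) := by
  rw [(fam_A c).sum_root, Finset.sum_congr rfl fun B _ => by rw [dd_A_const hc B], Finset.sum_const,
    nsmul_eq_mul]
  congr 2
  have e := sum_invariant (F := F) (fun _ => 1) ({1} : Finset (Fin 28)) fun _ _ _ _ => rfl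
  simp only [zset, Finset.mem_singleton, forall_eq, Finset.sum_const, Finset.card_univ, Fintype.card_fun,
    Fintype.card_fin, smul_eq_mul, mul_one, Finset.card_singleton, pow_one] at e
  rw [pow_succ'] at e
  rw [← Nat.eq_of_mul_eq_mul_left Fintype.card_pos e, Nat.cast_pow]

/-- A function which is invariant in sixteen coordinates and adds up on lines. -/
theorem dvd_sum (f : (Fin 28 → F) → ℕ) (m : ℕ)
    (hinv : ∀ i : Fin 28, 12 ≤ i.1 → ∀ B v, f (B + Pi.single i v) = f B)
    (hline : ∀ B : Fin 28 → F, ∑ v, f (B + Pi.single 0 v) =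
      if B 1 = 0 then Fintype.card F * f B else m) :
    Fintype.card F ^ 17 ∣ ∑ B, f B := by
  set S : Finset (Fin 28) := Finset.univ.filter fun i => 12 ≤ i.1 with hS
  have hcard : S.card = 16 ∧ (0 : Fin 28) ∉ S ∧ (1 : Fin 28) ∉ insert (0 : Fin 28) S ∧
      (insert (1 : Fin 28) (insert 0 S)).card = 18 := by
    rw [hS]; decide +kernel
  rw [sum_invariant f S (fun i hi => hinv i (Finset.mem_filter.1 hi).2), hcard.1, pow_succ]
  refine Nat.mul_dvd_mul_left _ ?_
  rw [sum_zset_insert hcard.2.1, Finset.sum_congr rfl fun B _ => hline B,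
    sum_zset_insert hcard.2.2.1]
  have hone := sum_invariant (F := F) (fun _ => 1) (insert (1 : Fin 28) (insert 0 S))
    (fun _ _ _ _ => rfl)
  rw [Finset.sum_const, Finset.sum_const, Finset.card_univ, Fintype.card_fun, Fintype.card_fin,
    smul_eq_mul, mul_one, smul_eq_mul, mul_one, hcard.2.2.2] at hone
  have hZ : Fintype.card F ∣ (zset (F := F) (insert (1 : Fin 28) (insert 0 S))).card := by
    have e : Fintype.card F ^ 18 * Fintype.card F ^ 10 =
        Fintype.card F ^ 18 * (zset (F := F) (insert (1 : Fin 28) (insert 0 S))).card := by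
      rw [← hone, ← pow_add]
    rw [← Nat.eq_of_mul_eq_mul_left (pow_pos Fintype.card_pos _) e]
    exact dvd_pow_self _ (by norm_num)
  have e : ∀ B ∈ zset (F := F) (insert (1 : Fin 28) (insert 0 S)),
      ∑ v, (if (B + Pi.single 1 v : Fin 28 → F) 1 = 0 then
        Fintype.card F * f (B + Pi.single 1 v) else m) =
      Fintype.card F * f B + (Fintype.card F - 1) * m := by
    intro B hB
    simp only [zset, Finset.mem_filter, Finset.mem_univ, true_and, Finset.mem_insert,
      forall_eq_or_imp] at hB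
    rw [← Finset.add_sum_erase _ _ (Finset.mem_univ (0 : F))]
    congr 1
    · simp [hB.1]
    · rw [Finset.sum_congr rfl fun v hv => if_neg (by simpa [hB.1] using Finset.ne_of_mem_erase hv),
        Finset.sum_const, Finset.card_erase_of_mem (Finset.mem_univ _), Finset.card_univ, smul_eq_mul]
  rw [Finset.sum_congr rfl e, Finset.sum_add_distrib, Finset.sum_const, smul_eq_mul]
  exact dvd_add (Finset.dvd_sum fun B _ => dvd_mul_right _ _) (hZ.mul_right _)

/-- The averaged root element `α` on one eigenspace. -/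
theorem sum_al {c : Fin 1 → F} (hc : c 0 ≠ 0) :
    ∃ w : ℕ, Fintype.card F ^ 18 ∣ w ∧ ∑ t : F, tr (ρ (xx 226 t) * pc ρ c) = (w : ℂ) := by
  set q := Fintype.card F with hq
  set m := dd ρ (pc ρ c) rA 0 with hm
  have hqC : (q : ℂ) ≠ 0 := Nat.cast_ne_zero.2 Fintype.card_ne_zero
  let Q : (Fin 28 → F) → EndV k := fun B => pp ρ (pc ρ c) rA B
  have hQal : ∀ B (t : F), Commute (ρ (xx 226 t)) (Q B) := fun B t =>
    pp_commute (fam_A c) (pc_commute chkA_zz.2.2.2 c t)
      (fun i a => rho_commute (chkA_al.1 i).1 a t) B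
  have famal : ∀ B, Fam ρ (Q B) rAl := fun B =>
    { idem := (fam_A c).pp_sq B
      comm := fun _ a => hQal B a
      swap := fun _ _ a b => by
        rw [← map_mul, ← map_mul]
        show ρ (xx 226 a * xx 226 b) * _ = ρ (xx 226 b * xx 226 a) * _
        rw [← xx_add, ← xx_add, add_comm] }
  let f : (Fin 28 → F) → ℕ := fun B => dd ρ (Q B) rAl 0
  have hf : ∀ B, ∑ t : F, tr (ρ (xx 226 t) * Q B) = (q : ℂ) * f B := fun B => by
    have h : ∑ t : F, tr (ρ (xx 226 t) * Q B) = _ := (famal B).sum_root 0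
    rw [h]
    congr 1
    rw [Finset.sum_eq_single (0 : Fin 1 → F)]
    · intro b hb hne
      exact absurd (funext fun i => by
        fin_cases i
        simpa using (Finset.mem_filter.1 hb).2) hne
    · simp
  refine ⟨q * ∑ B, f B, ?_, ?_⟩
  · rw [pow_succ']
    refine Nat.mul_dvd_mul_left _ (dvd_sum f m (fun i hi B v => ?_) fun B => ?_)
    · obtain ⟨x, hx⟩ := kap_surj hc i v
      have e : ∀ t : F, tr (ρ (xx 226 t) * Q B) = tr (ρ (xx 226 t) * Q (B + Pi.single i v)) := by
        intro t
        refine Fam.tr_conj (ρ := ρ) (g := xx (rB i) x) ?_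
        have := shiftA (ρ := ρ) c i x (B + Pi.single i v)
        rw [hx, add_sub_cancel_right] at this
        rw [← mul_assoc, (rho_commute (chkA_al.2.1 i hi) t x).eq, mul_assoc, this, ← mul_assoc]
      have h2 : (q : ℂ) * f (B + Pi.single i v) = (q : ℂ) * f B := by
        rw [← hf, ← hf]
        exact (Finset.sum_congr rfl fun t _ => e t).symm
      exact_mod_cast mul_left_cancel₀ hqC h2
    · -- the line through a source
      obtain ⟨C, hC, hone⟩ : ∃ C : ℤ, (C = 1 ∨ C = -1) ∧ oneOK 226 (rB 0) (rA 1) C = true := by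
        rcases chkA_al.2.2 with h | h
        · exact ⟨1, Or.inl rfl, h⟩
        · exact ⟨-1, Or.inr rfl, h⟩
      have e : ∀ x t : F, tr (ρ (xx 226 t) * Q (B - Pi.single 0 (kap c 0 x))) =
          psi F (x * ((C : F) * -t * B 1)) * tr (ρ (xx 226 t) * Q B) := by
        intro x t
        set B' := B - Pi.single (0 : Fin 28) (kap c 0 x) with hB'
        have hB1 : B' 1 = B 1 := by
          rw [hB', Pi.sub_apply, Pi.single_eq_of_ne (by decide), sub_zero]
        refine (Fam.tr_conj (ρ := ρ) (g := xx (rB 0) x)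
          (B := psi F (x * ((C : F) * -t * B 1)) • (ρ (xx 226 t) * Q B)) ?_).trans
          (by rw [tr, map_smul, smul_eq_mul])
        rw [← mul_assoc, ← map_mul, xx_one_term hone t x, map_mul, map_mul, mul_assoc _ _ (Q B'),
          (fam_A c).root_pp B' 1, mul_smul_comm, mul_assoc (ρ (xx 226 t)) (ρ (xx (rB 0) x)), shiftA c 0 x B,
          ← mul_assoc,
          smul_mul_assoc, hB1, show B 1 * ((C : F) * -t) * x = x * ((C : F) * -t * B 1) by ring,
          mul_assoc (ρ (xx 226 t))]
      have h1 : ∑ v, (q : ℂ) * f (B + Pi.single 0 v) =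
          ∑ x : F, ∑ t : F, psi F (x * ((C : F) * -t * B 1)) * tr (ρ (xx 226 t) * Q B) := by
        have hk : c 0 * (cP 0 : F) ≠ 0 := mul_ne_zero hc (sign_ne (chkA_pair 0).2)
        refine (Fintype.sum_equiv (Equiv.mulLeft₀ (-(c 0 * (cP 0 : F))) (neg_ne_zero.2 hk)) _ _
          fun x => ?_).symm
        rw [Equiv.mulLeft₀_apply, ← hf]
        refine Finset.sum_congr rfl fun t _ => ?_
        dsimp only
        rw [← e, neg_mul, Pi.single_neg, ← sub_eq_add_neg, kap]
      have h2 : ∀ t : F, ∑ x : F, psi F (x * ((C : F) * -t * B 1)) =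
          if (C : F) * -t * B 1 = 0 then (q : ℂ) else 0 := fun t => by
        rw [AddChar.sum_mulShift _ (psi_prim F)]
        simp [hq]
      rw [Finset.sum_comm] at h1
      simp only [← Finset.sum_mul, h2] at h1
      rw [← Finset.mul_sum] at h1
      by_cases hB : B 1 = 0
      · rw [if_pos hB]
        simp only [hB, mul_zero, if_true, ← Finset.mul_sum, hf] at h1
        have h3 := mul_left_cancel₀ hqC h1
        exact_mod_cast h3
      · rw [if_neg hB]
        rw [Finset.sum_eq_single (a := (0 : F)) (f := fun t : F =>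
            (if (C : F) * -t * B 1 = 0 then (q : ℂ) else 0) * tr (ρ (xx 226 t) * Q B))
          (fun t _ ht => by
            rw [if_neg (mul_ne_zero (mul_ne_zero (sign_ne hC) (neg_ne_zero.2 ht)) hB), zero_mul])
          (by simp), if_pos (by simp), xx_zero, map_one, one_mul, (fam_A c).tr_pp, dd_A_const hc,
          ← hm] at h1
        have h3 := mul_left_cancel₀ hqC h1
        exact_mod_cast h3
  · rw [← Fam.sum_pp (ρ := ρ) (P := pc ρ c) (R := rA)]
    simp only [Finset.mul_sum, tr, map_sum]
    rw [Finset.sum_comm, Finset.sum_congr rfl fun B _ => hf B, Nat.cast_sum]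
    exact Finset.sum_congr rfl fun B _ => by rw [Nat.cast_mul]

end Cfsg.Agent.E8Deg
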