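import Cfsg.Agent.E8Deg.Proj
import Cfsg.Agent.SteinbergSL.Pres
import Cfsg.Agent.OrthDeg.SLRep

/-!
The bottom of the induction: a special linear group of degree five.
-/

set_option autoImplicit false
set_option maxRecDepth 100000

namespace Cfsg.Agent.E8Deg

open Cfsg.Lie Matrix
open scoped MatrixGroups commutatorElement

universe u

/-- The roots. -/
def rLTab : List ℕ :=
  [0, 141, 142, 143, 144, 98, 0, 130, 131, 132, 97, 109, 0, 126, 127, 96, 108, 113, 0, 123, 95, 107,
    112, 116, 0]

/-- Their signs. -/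
def eLTab : List ℤ :=
  [1, -1, -1, -1, 1, -1, 1, -1, -1, 1, -1, -1, 1, -1, 1, -1, -1, -1, 1, 1, 1, 1, 1, 1, 1]

/-- The root of a transvection. -/
def rL (i j : Fin 5) : ℕ := rLTab.getD (i.1 * 5 + j.1) 0

/-- The sign of a transvection. -/
def eL (i j : Fin 5) : ℤ := eLTab.getD (i.1 * 5 + j.1) 1

theorem chk_sl_sign : ∀ i j, eL i j = 1 ∨ eL i j = -1 := by decide +kernel

theorem chk_sl_comm : ∀ i j k l : Fin 5, i ≠ j → k ≠ l → j ≠ k → i ≠ l →
    cOK (rL k l) (rL i j) = true := by
  decide +kernel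

theorem chk_sl_rel : ∀ i j k : Fin 5, i ≠ j → j ≠ k → i ≠ k →
    oneOK (rL j k) (rL i j) (rL i k) (-(eL i k * eL j k * eL i j)) = true := by
  decide +kernel

theorem chk_sl_top : rL 0 4 = 144 ∧ eL 0 4 = 1 := by decide +kernel

variable {F : Type u} [Field F]

theorem sign_sq {s : ℤ} (h : s = 1 ∨ s = -1) : (s : F) * (s : F) = 1 := by
  rcases h with rfl | rfl <;> simp

/-- A transvection. -/
noncomputable def xl (i j : Fin 5) (a : F) : Gp F := xx (rL i j) ((eL i j : F) * a)

theorem xl_add (i j : Fin 5) (a b : F) : xl i j (a + b) = xl i j a * xl i j b := by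
  rw [xl, mul_add, xx_add]; rfl

theorem xl_comm (i j k l : Fin 5) (hij : i ≠ j) (hkl : k ≠ l) (hjk : j ≠ k) (hil : i ≠ l)
    (a b : F) : Commute (xl i j a) (xl k l b) :=
  xx_commute (chk_sl_comm i j k l hij hkl hjk hil) _ _

theorem xl_rel (i j k : Fin 5) (hij : i ≠ j) (hjk : j ≠ k) (hik : i ≠ k) (a b : F) :
    ⁅xl i j a, xl j k b⁆ = xl i k (a * b) := by
  have e : xl i j a * xl j k b = xl j k b * xl i j a * xl i k (a * b) := by
    rw [xl, xl, xx_one_term (chk_sl_rel i j k hij hjk hik)]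
    unfold xl
    congr 2
    push_cast
    linear_combination (eL i k : F) * (eL i j : F) * (eL i j : F) * (a * b) *
      sign_sq (F := F) (chk_sl_sign j k) +
      (eL i k : F) * (a * b) * sign_sq (F := F) (chk_sl_sign i j)
  have c1 := xl_comm i j i k hij hik hij.symm hik a (a * b)
  have c2 := xl_comm j k i k hjk hik hik.symm hjk b (a * b)
  rw [commutatorElement_def, e, mul_assoc (xl j k b), c1.eq, ← mul_assoc, mul_inv_cancel_right, c2.eq,
    mul_inv_cancel_right]

theorem exists_phi (F : Type u) [Field F] [Fintype F] :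
    ∃ Φ : SpecialLinearGroup (Fin 5) F →* Gp F,
      ∀ i j (h : i ≠ j) a, Φ (SpecialLinearGroup.transvection h a) = xl i j a :=
  SteinbergSL.exists_hom (by norm_num) xl (fun i j _ => xl_add i j) xl_comm xl_rel

variable [Fintype F] {k : ℕ} {ρ : Representation ℂ (Gp F) (Fin k → ℂ)}

/-- The bound at the bottom. -/
theorem bottom {Q : EndV k} (hQ : Q * Q = Q)
    (hst : ∀ i j, i ≠ j → ∀ a : F, Commute (ρ (xl i j a)) Q)
    (hne : ∃ t : F, ρ (xx 144 t) * Q ≠ Q) :
    ∃ D : ℕ, tr Q = (D : ℂ) ∧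
      (Fintype.card F ^ 5 - Fintype.card F) / (Fintype.card F - 1) ≤ D := by
  classical
  obtain ⟨Φ, hΦ⟩ := exists_phi F
  refine ⟨Module.finrank ℂ (LinearMap.range Q),
    (LinearMap.IsProj.mk (fun x => LinearMap.mem_range_self _ x) (by
      rintro _ ⟨x, rfl⟩
      exact LinearMap.congr_fun hQ x) : LinearMap.IsProj (LinearMap.range Q) Q).trace, ?_⟩
  have hcomm : ∀ A : SpecialLinearGroup (Fin 5) F, Commute (ρ (Φ A)) Q := fun A => by
    refine SpecialLinearGroup.diagonal_transvection_induction'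
      (fun A => Commute (ρ (Φ A)) Q) A ?_ ?_ ?_
    · intro i j hij c hc
      rw [Cfsg.Agent.Classical.diag2n_decompose hij c hc]
      simp only [map_mul, hΦ]
      refine ((((Commute.mul_left ?_ ?_).mul_left ?_).mul_left ?_).mul_left ?_).mul_left ?_ <;>
        first
          | exact hst _ _ hij _
          | exact hst _ _ hij.symm _
    · intro i j hij c
      rw [hΦ]
      exact hst i j hij c
    · intro A B hA hB
      rw [map_mul, map_mul]
      exact hA.mul_left hB
  set W := LinearMap.range Q with hW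
  have hinv : ∀ A, ∀ v ∈ W, ρ (Φ A) v ∈ W := by
    rintro A _ ⟨x, rfl⟩
    exact ⟨ρ (Φ A) x, (LinearMap.congr_fun (hcomm A) x).symm⟩
  let π : Representation ℂ (SLDeg.SLn (2 + 3) F) W :=
    { toFun := fun A => (ρ (Φ A)).restrict (hinv A)
      map_one' := by ext w; simp
      map_mul' := fun A B => by ext w; simp }
  have hn : ∃ g w, π g w ≠ w := by
    by_contra hc
    push Not at hc
    obtain ⟨t, ht⟩ := hne
    refine ht (LinearMap.ext fun x => ?_)
    have h04 : (0 : Fin 5) ≠ 4 := by decide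
    have := congrArg Subtype.val
      (hc (SpecialLinearGroup.transvection h04 t) ⟨Q x, LinearMap.mem_range_self _ x⟩)
    have e : Φ (SpecialLinearGroup.transvection h04 t) = xx 144 t := by
      rw [hΦ, xl, chk_sl_top.1, chk_sl_top.2, Int.cast_one, one_mul]
    rw [← e]
    exact this
  exact OrthDeg.sl_rep_large_gen (m := 2) π (fun h => absurd h (by omega))
    (fun h => absurd h (by omega)) hn

end Cfsg.Agent.E8Deg
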