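import Cfsg.Agent.E8Deg.Top
import Cfsg.Agent.E8Deg.Arith
import Cfsg.Agent.Chev.WeylAll
import Cfsg.Agent.Char.Integral
import Mathlib.FieldTheory.Finite.Basic

/-!
The smallest nonlinear degree of `E₈(q)`.
-/

set_option autoImplicit false
set_option maxRecDepth 100000

namespace Cfsg.Agent.E8Deg

open Cfsg.Lie

universe u

theorem low_eq (q : ℕ) (hq : 3 ≤ q) :
    orbN T8.dat q + (q - 1) * q ^ 28 + T7b q + 4 = B8 q := by
  unfold T7b T6b T5b theta B8
  rw [if_neg (by omega), orb8, orb7, orb6, orb5]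
  obtain ⟨r, rfl⟩ : ∃ r, q = r + 3 := ⟨q - 3, by omega⟩
  rw [show r + 3 - 1 = r + 2 from rfl]
  ring

theorem low_two : orbN T8.dat 2 + (2 - 1) * 2 ^ 28 + T7b 2 + 34 = B8 2 := by
  unfold T7b T6b T5b theta B8
  rw [if_pos rfl, orb8, orb7, orb6, orb5]
  norm_num

/-- A number just below the bound divides its multiple of the cyclotomic part. -/
theorem dvd_cyclo {p f : ℕ} (hp : p.Prime) (e : ℕ) (he : 1 ≤ e) (he4 : e ≤ 4) (hq : 7 ≤ p ^ f)
    (h : BQ8 ((p ^ f : ℕ) : ℤ) - e ∣ ((p ^ f : ℕ) : ℤ) ^ 120 * MQ8 ((p ^ f : ℕ) : ℤ)) :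
    BQ8 ((p ^ f : ℕ) : ℤ) - e ∣ (e : ℤ) * MQ8 ((p ^ f : ℕ) : ℤ) := by
  set q : ℤ := ((p ^ f : ℕ) : ℤ) with hqdef
  set X : ℤ := (q ^ 12 + 1) * (q ^ 10 + 1) * (q ^ 6 + 1) with hX
  have hB : BQ8 q = q * X := by rw [BQ8, hX]; ring
  rw [hB] at h ⊢
  have hf : f ≠ 0 := fun h0 => by rw [h0, pow_zero] at hq; omega
  by_cases hpe : p ∣ e
  · -- a power of the characteristic
    obtain ⟨a, rfl, ha⟩ : ∃ a, e = p ^ a ∧ a ≤ 2 := by
      have hp4 : p ≤ 4 := (Nat.le_of_dvd he hpe).trans he4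
      have h2 := hp.two_le
      interval_cases p
      · interval_cases e <;> first
          | (exfalso; omega)
          | exact ⟨1, rfl, by norm_num⟩
          | exact ⟨2, rfl, le_rfl⟩
      · interval_cases e <;> first
          | (exfalso; omega)
          | exact ⟨1, rfl, by norm_num⟩
      · norm_num at hp
    have haf : a < f := by
      by_contra hc
      have := Nat.pow_le_pow_right hp.pos (not_lt.1 hc)
      omega
    obtain ⟨b, rfl⟩ : ∃ b, f = a + (b + 1) := ⟨f - a - 1, by omega⟩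
    have e1 : q = (p : ℤ) ^ a * ((p : ℤ) ^ b * p) := by
      rw [hqdef]; push_cast; ring
    have e2 : q * X - ((p ^ a : ℕ) : ℤ) = (p : ℤ) ^ a * ((p : ℤ) ^ b * p * X - 1) := by
      rw [e1]; push_cast; ring
    have hc : IsCoprime ((p : ℤ) ^ b * p * X - 1) (p : ℤ) := ⟨-1, (p : ℤ) ^ b * X, by ring⟩
    rw [e2] at h ⊢
    have h1 : (p : ℤ) ^ b * p * X - 1 ∣ q ^ 120 * MQ8 q := dvd_trans (dvd_mul_left _ _) h
    have hcq : IsCoprime ((p : ℤ) ^ b * p * X - 1) (q ^ 120) := by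
      rw [hqdef, Nat.cast_pow]
      exact hc.pow_right.pow_right
    have h2 := hcq.dvd_of_dvd_mul_left h1
    push_cast
    exact mul_dvd_mul_left _ h2
  · have hc0 : IsCoprime (e : ℤ) q := by
      rw [hqdef]
      exact ((Nat.Coprime.pow_left f (hp.coprime_iff_not_dvd.2 hpe)).symm).cast
    have hc : IsCoprime (q * X - e) q := by
      obtain ⟨u, v, huv⟩ := hc0
      exact ⟨-u, u * X + v, by linear_combination huv⟩
    exact dvd_mul_of_dvd_right (hc.pow_right.dvd_of_dvd_mul_left h) _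

theorem two_case (d : Fin 35) (hd : 1 ≤ d.1) :
    ¬ (B8 2 - d.1) ∣ 2 ^ 120 * (([2, 8, 12, 14, 18, 20, 24, 30] : List ℕ).map fun e => 2 ^ e - 1).prod := by
  unfold B8
  exact small_two d hd

theorem window (B L k : ℕ) (hB : L + 34 = B) (h : L ≤ k) (hlt : k < B) :
    ∃ d, 1 ≤ d ∧ d < 35 ∧ B - d = k :=
  ⟨B - k, by omega, by omega, by omega⟩

/-- The bound. -/
theorem min_degree {F : Type u} [Field F] [Fintype F] {k : ℕ}
    (ρ : Representation ℂ (Gp F) (Fin k → ℂ)) (hρ : ρ.IsIrreducible) (hk : 2 ≤ k) :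
    Fintype.card F * (Fintype.card F ^ 12 + 1) * (Fintype.card F ^ 10 + 1) *
      (Fintype.card F ^ 6 + 1) ≤ k := by
  obtain ⟨p, f, hp, hcardF⟩ : ∃ p f, Nat.Prime p ∧ Fintype.card F = p ^ f := by
    obtain ⟨p, hp⟩ := CharP.exists F
    obtain ⟨n, hn, hc⟩ := FiniteField.card F p
    exact ⟨p, n, hn, hc⟩
  rcases top_bound ρ hρ hk with h | h
  · exact h
  have hχ1 : ρ.character 1 = (k : ℂ) := by
    rw [Representation.char_one, Module.finrank_pi, Fintype.card_fin]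
  have hdvd : k ∣ Nat.card (Gp F) :=
    Char.IsIrr.degree_dvd_card (Char.isIrrCharacter_of_rep ρ hρ) hχ1
  have hd : k ∣ Fintype.card F ^ 120 *
      (([2, 8, 12, 14, 18, 20, 24, 30] : List ℕ).map fun e => Fintype.card F ^ e - 1).prod :=
    Chev.e8_card_group F ▸ hdvd.mul_left _
  have hq2 : 2 ≤ Fintype.card F := Fintype.one_lt_card
  generalize hqn : Fintype.card F = q at *
  by_contra hcon
  have hlt : k < B8 q := not_le.1 hcon
  rcases Nat.lt_or_ge q 3 with h3 | h3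
  · obtain rfl : q = 2 := by omega
    obtain ⟨d, hd1, hd35, hk'⟩ : ∃ d, 1 ≤ d ∧ d < 35 ∧ B8 2 - d = k := by
      exact window (B8 2) _ k low_two h hlt
    rw [← hk'] at hd
    exact two_case ⟨d, hd35⟩ hd1 hd
  have hB := low_eq q h3
  obtain ⟨e, he, he1, he4⟩ : ∃ e, k = B8 q - e ∧ 1 ≤ e ∧ e ≤ 4 :=
    ⟨B8 q - k, by omega, by omega, by omega⟩
  have hBz : (k : ℤ) = BQ8 (q : ℤ) - e := by
    rw [he, Nat.cast_sub (by omega), B8, BQ8]
    push_cast
    ring
  have hdz : BQ8 (q : ℤ) - e ∣ (q : ℤ) ^ 120 * MQ8 (q : ℤ) := by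
    have h1 := Int.natCast_dvd_natCast.2 hd
    have hpos : ∀ e, 1 ≤ q ^ e := fun e => Nat.one_le_pow _ _ (by omega)
    simp only [List.map_cons, List.map_nil, List.prod_cons, List.prod_nil, mul_one, Nat.cast_mul,
      Nat.cast_pow, Nat.cast_sub (hpos _), Nat.cast_one] at h1
    rw [hBz] at h1
    unfold MQ8
    simp only [← mul_assoc] at h1 ⊢
    exact h1
  subst hcardF
  interval_cases e
  · rcases Nat.lt_or_ge (p ^ f) 15 with hs | hs
    · exact small1 ⟨p ^ f, hs⟩ h3 (by rw [he] at hd; exact hd)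
    · have := dvd_cyclo hp 1 le_rfl (by norm_num) (by omega) hdz
      exact large1 (by exact_mod_cast hs) this
  · rcases Nat.lt_or_ge (p ^ f) 14 with hs | hs
    · exact small2 ⟨p ^ f, hs⟩ h3 (by rw [he] at hd; exact hd)
    · have := dvd_cyclo hp 2 (by norm_num) (by norm_num) (by omega) hdz
      exact large2 (by exact_mod_cast hs) this
  · rcases Nat.lt_or_ge (p ^ f) 21 with hs | hs
    · exact small3 ⟨p ^ f, hs⟩ h3 (by rw [he] at hd; exact hd)
    · have := dvd_cyclo hp 3 (by norm_num) (by norm_num) (by omega) hdz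
      exact large3 (by exact_mod_cast hs) this
  · rcases Nat.lt_or_ge (p ^ f) 42 with hs | hs
    · exact small4 ⟨p ^ f, hs⟩ h3 (by rw [he] at hd; exact hd)
    · have := dvd_cyclo hp 4 (by norm_num) (by norm_num) (by omega) hdz
      exact large4 (by exact_mod_cast hs) this

end Cfsg.Agent.E8Deg
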