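import Cfsg.Agent.Chev.All
import Cfsg.Agent.Chev.BNpair
import Cfsg.Agent.Chev.TopRoot
import Cfsg.Agent.Chev.Lift

/-!
Root elements of `E₈(q)`.
-/

set_option autoImplicit false
set_option maxRecDepth 100000

namespace Cfsg.Agent.E8Deg

open Cfsg.Lie Cfsg.Agent.Chev
open scoped MatrixGroups

universe u

/-- Two roots with commuting root groups. -/
def cOK (r s : ℕ) : Bool :=
  decide (r < chevE8.nroots ∧ s < chevE8.nroots ∧
    (s = r ∨ (s ≠ chevE8.neg r ∧ chevE8.commTerms r s = [])))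

/-- A one-term commutator. -/
def oneOK (r s k : ℕ) (C : ℤ) : Bool :=
  decide (r < chevE8.nroots ∧ s < chevE8.nroots ∧ s ≠ r ∧ s ≠ chevE8.neg r ∧
    chevE8.commTerms r s = [(k, C, 1, 1)])

variable (F : Type u) [Field F]

/-- The group. -/
abbrev Gp := ↥(chevE8.group F)

variable {F}

/-- A root element. -/
noncomputable def xx (r : ℕ) (t : F) : Gp F :=
  ⟨xG facts_chevE8 r t, xG_mem_group facts_chevE8 r t⟩

theorem xx_add (r : ℕ) (a b : F) : xx r (a + b) = xx r a * xx r b :=
  Subtype.ext (xG_mul facts_chevE8 r a b).symm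

theorem xx_zero (r : ℕ) : xx r (0 : F) = 1 := Subtype.ext (xG_zero facts_chevE8 r)

theorem xx_neg (r : ℕ) (a : F) : (xx r a)⁻¹ = xx r (-a) := by
  refine inv_eq_of_mul_eq_one_right ?_
  rw [← xx_add, add_neg_cancel, xx_zero]

theorem xx_commute {r s : ℕ} (h : cOK r s = true) (t v : F) : Commute (xx s v) (xx r t) := by
  simp only [cOK, decide_eq_true_eq] at h
  exact Subtype.ext (xG_commute_of facts_chevE8 h.1 h.2.1 h.2.2 t v).eq

theorem xx_one_term {r s k : ℕ} {C : ℤ} (h : oneOK r s k C = true) (t v : F) :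
    xx s v * xx r t = xx r t * xx s v * xx k ((C : F) * (-t) * v) := by
  simp only [oneOK, decide_eq_true_eq] at h
  obtain ⟨hr, hs, hsr, hsn, hct⟩ := h
  refine Subtype.ext ?_
  have hc := xG_comm facts_chevE8 hr hs hsr hsn t v
  rw [ChevalleyDatum.commWord, hct] at hc
  simpa [wordG, xx] using hc

theorem sign_ne {s : ℤ} (h : s = 1 ∨ s = -1) : (s : F) ≠ 0 := by
  rcases h with rfl | rfl <;> simp

theorem pWord_val (w : List (Fin chevE8.rank)) (s : Fin chevE8.nroots) :
    (pWord facts_chevE8.{u} w s : ℕ) = (w.map Fin.val).foldr chevE8.reflectRoot s := by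
  induction w with
  | nil => rfl
  | cons i w ih => rw [pWord_cons, Equiv.Perm.mul_apply, wPerm_val, ih]; rfl

/-- The representative of a fundamental reflection. -/
noncomputable def n1 (i : Fin chevE8.rank) : Gp F :=
  xx (chevE8.simple i) 1 * xx (chevE8.neg (chevE8.simple i)) (-(1 : F)⁻¹) * xx (chevE8.simple i) 1

/-- The representative of a word. -/
noncomputable def nn (w : List (Fin chevE8.rank)) : Gp F := (w.map n1).prod

theorem nn_val (w : List (Fin chevE8.rank)) :
    ((nn w : Gp F) : GL chevE8.Idx F) = nWord facts_chevE8 w := by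
  induction w with
  | nil => rfl
  | cons i w ih =>
    rw [nWord_cons, ← ih]
    rfl

theorem nn_conj (w : List (Fin chevE8.rank)) {r r' : ℕ} (hr : r < chevE8.nroots)
    (h : (w.map Fin.val).foldr chevE8.reflectRoot r = r') :
    ∃ c : F, c ≠ 0 ∧ ∀ t : F, nn w * xx r t = xx r' (c * t) * nn w := by
  obtain ⟨c, hc, hc'⟩ := isMon_nWord facts_chevE8 w (F := F) ⟨r, hr⟩
  refine ⟨c, hc, fun t => Subtype.ext ?_⟩
  rw [Subgroup.coe_mul, Subgroup.coe_mul, nn_val, ← h, ← pWord_val w ⟨r, hr⟩]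
  exact hc' t

/-- The torus element of a simple parameter vector. -/
noncomputable def hh (c : Fin chevE8.rank → Fˣ) : Gp F :=
  ⟨torusHom c, borel_le_group facts_chevE8
    (Subgroup.mem_sup_right (torusHom_mem facts_chevE8 c))⟩

theorem hh_conj (c : Fin chevE8.rank → Fˣ) {r : ℕ} (hr : r < chevE8.nroots) (t : F) :
    hh c * xx r t = xx r ((chiU c r : F) * t) * hh c :=
  Subtype.ext (torusHom_conj facts_chevE8 c hr t)

theorem chiU_single (j : Fin chevE8.rank) (v : Fˣ) (r : ℕ) :
    chiU (Pi.mulSingle j v : Fin chevE8.rank → Fˣ) r = v ^ chevE8.cartan j r := by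
  rw [chiU, Finset.prod_eq_single j]
  · rw [Pi.mulSingle_eq_same]
  · intro i _ hi
    rw [Pi.mulSingle_eq_of_ne hi, one_zpow]
  · simp

theorem chiU_mul (c d : Fin chevE8.rank → Fˣ) (r : ℕ) : chiU (c * d) r = chiU c r * chiU d r := by
  simp only [chiU, Pi.mul_apply, mul_zpow, Finset.prod_mul_distrib]

theorem xx_eq_one_iff {r : ℕ} (hr : r < chevE8.nroots) {v : F} : xx r v = 1 ↔ v = 0 := by
  refine ⟨fun h => (xG_eq_one_iff facts_chevE8 hr).1 (congrArg Subtype.val h), fun h => ?_⟩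
  rw [h, xx_zero]

end Cfsg.Agent.E8Deg
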