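import Cfsg.Agent.E8Deg.Orbit
import Cfsg.Agent.E8Deg.Elems
import Cfsg.Agent.Chev.Sound
import Cfsg.Agent.Chev.Check.E8

/-!
The link between the tables and the root elements.
-/

set_option autoImplicit false

namespace Cfsg.Agent.E8Deg

open Cfsg.Lie

/-- A quick test for commuting root groups. -/
noncomputable def cFast (r s : ℕ) : Bool :=
  decide (r < 240 ∧ s < 240 ∧
    (s = r ∨ (s ≠ 239 - r ∧ Chev.e8Cert.cE chevE8 r s = [] ∧ Chev.e8Cert.cE chevE8 s r = [])))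

/-- A quick test for a one-term commutator. -/
noncomputable def oneFast (r s k : ℕ) (C : ℤ) : Bool :=
  decide (r < 240 ∧ s < 240 ∧ s ≠ r ∧ s ≠ 239 - r ∧
    Chev.e8Cert.cE chevE8 r s = [(k, C)] ∧ (Chev.e8Cert.cE chevE8 s r).length ≤ 1)

theorem commTerms_one (D : ChevalleyDatum) {r s : ℕ} {a : List (ℕ × ℤ)}
    (h : D.chainEntry r s = a) (ha : a.length ≤ 1) (hb : (D.chainEntry s r).length ≤ 1) :
    D.commTerms r s = a.map fun c => (c.1, c.2, 1, 1) := by
  subst h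
  have e : ∀ (l : List (ℕ × ℤ)), l.length ≤ 1 → l[1]? = none ∧ l[2]? = none := fun l hl =>
    ⟨List.getElem?_eq_none (by omega), List.getElem?_eq_none (by omega)⟩
  obtain ⟨a2, a3⟩ := e _ ha
  obtain ⟨b2, b3⟩ := e _ hb
  simp only [ChevalleyDatum.commTerms, ChevalleyDatum.chainRoot, ChevalleyDatum.chainM,
    show (2 : ℕ) - 1 = 1 from rfl, show (3 : ℕ) - 1 = 2 from rfl, Nat.sub_self, a2, a3, b2, b3,
    Option.map_none, Option.bind_none]
  rcases hl : D.chainEntry r s with _ | ⟨c, _ | ⟨d, t⟩⟩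
  · rfl
  · obtain ⟨u, v⟩ := c; rfl
  · rw [hl] at ha; simp at ha

theorem neg_eq : ∀ r : Fin 240, chevE8.neg r.1 = 239 - r.1 := by decide +kernel

theorem cOK_of_fast {r s : ℕ} (h : cFast r s = true) : cOK r s = true := by
  simp only [cFast, decide_eq_true_eq] at h
  obtain ⟨hr, hs, h⟩ := h
  simp only [cOK, decide_eq_true_eq]
  refine ⟨hr, hs, h.imp_right ?_⟩
  rintro ⟨h1, h2, h3⟩
  rw [← Chev.chainEntry_eq Chev.e8_checks] at h2 h3
  exact ⟨neg_eq ⟨r, hr⟩ ▸ h1, commTerms_one chevE8 h2 (by simp) (by simp [h3])⟩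

theorem oneOK_of_fast {r s k : ℕ} {C : ℤ} (h : oneFast r s k C = true) :
    oneOK r s k C = true := by
  simp only [oneFast, decide_eq_true_eq] at h
  obtain ⟨hr, hs, h1, h2, h3, h4⟩ := h
  simp only [oneOK, decide_eq_true_eq]
  rw [← Chev.chainEntry_eq Chev.e8_checks] at h3 h4
  exact ⟨hr, hs, h1, neg_eq ⟨r, hr⟩ ▸ h2, commTerms_one chevE8 h3 (by simp) h4⟩

variable {n n1 nY : ℕ}

/-- The translations are realised by root elements. -/
def LData.OpsOK (L : LData n n1 nY) : Prop :=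
  ∀ δ j, (L.tg δ j = none → cOK (L.R j) (L.yr δ) = true) ∧
    ∀ p ∈ L.tg δ j, oneOK (L.R j) (L.yr δ) (L.R p.1) (-p.2) = true ∧
      cOK (L.R p.1) (L.yr δ) = true

/-- The coordinates met by a translation. -/
def Src (L : LData n n1 nY) (δ : Fin nY) (μ : Fin n) : Prop := ∃ x, L.dst δ x = some μ

instance (L : LData n n1 nY) (δ : Fin nY) (μ : Fin n) : Decidable (Src L δ μ) := by
  unfold Src; infer_instance

end Cfsg.Agent.E8Deg
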