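import Cfsg.Agent.E8Deg.T6
import Cfsg.Agent.E8Deg.Defs

/-!
Checks on the tables.
-/

set_option autoImplicit false
set_option maxRecDepth 100000
set_option maxHeartbeats 4000000
set_option Elab.async false

namespace Cfsg.Agent.E8Deg.T6

open Cfsg.Lie

theorem chk_sign : ∀ δ x, ∀ p ∈ dat.tg δ x, p.2 = 1 ∨ p.2 = -1 := by decide +kernel

theorem chk_twice : ∀ δ x, ∀ m ∈ dat.dst δ x, dat.dst δ m = none := by decide +kernel

theorem chk_tgt : ∀ μ k, dat.dst (dat.nb μ k).2 (dat.nb μ k).1 = some μ ∧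
    dat.dst (dat.nb μ k).2 μ = none := by
  decide +kernel

theorem chk_ind : ∀ μ k k', k ≠ k' → dat.dst (dat.nb μ k).2 (dat.nb μ k').1 = none := by
  decide +kernel

theorem chk_zero : ∀ μ k, μ < (dat.nb μ k).1 → ∀ x, x < μ →
    ∀ m ∈ dat.dst (dat.nb μ k).2 x, m < μ := by
  decide +kernel

theorem chk_src : ∀ μ k x, dat.dst (dat.nb μ k).2 x ≠ some (dat.nb μ k).1 := by decide +kernel

theorem chk_uni : ∀ μ k x, dat.dst (dat.nb μ k).2 x = some μ → x = (dat.nb μ k).1 := by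
  decide +kernel

theorem chk_rev : ∀ μ k, ∃ k', (dat.nb (dat.nb μ k).1 k').1 = μ := by decide +kernel

theorem chk_down : ∀ μ, μ.1 ≠ 0 → ∃ k, (dat.nb μ k).1 < μ := by decide +kernel

theorem chk_second : ∀ μ w, dat.Far μ w → dat.SecOK μ w ∨
    ∃ p ∈ dat.jump μ w, dat.Far μ p.1 ∧ dat.Jumps μ p.2 ∧ dat.dst p.2 p.1 = some w ∧
      dat.SecOK μ p.1 := by
  decide +kernel

theorem chk_mask : (∀ μ k, dat.IsNb μ (dat.nb μ k).1) ∧
    ∀ μ x, dat.IsNb μ x → ∃ k, (dat.nb μ k).1 = x := by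
  decide +kernel

theorem good : dat.Good :=
  ⟨by norm_num, chk_mask.1, chk_mask.2, chk_sign, chk_twice, chk_tgt, chk_ind, chk_zero, chk_src, chk_uni, chk_rev,
    chk_down, chk_second⟩

theorem chk_ops : ∀ δ j, (dat.tg δ j = none → cFast (dat.R j) (dat.yr δ) = true) ∧
    ∀ p ∈ dat.tg δ j, oneFast (dat.R j) (dat.yr δ) (dat.R p.1) (-p.2) = true ∧
      cFast (dat.R p.1) (dat.yr δ) = true := by
  decide +kernel

theorem ops : dat.OpsOK := fun δ j =>
  ⟨fun e => cOK_of_fast ((chk_ops δ j).1 e),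
    fun p hp => ⟨oneOK_of_fast ((chk_ops δ j).2 p hp).1, cOK_of_fast ((chk_ops δ j).2 p hp).2⟩⟩

theorem chk_swap : ∀ i j, cFast (dat.R i) (dat.R j) = true := by
  decide +kernel

theorem swap : ∀ i j, cOK (dat.R i) (dat.R j) = true := fun i j => cOK_of_fast (chk_swap i j)

theorem root_lt : (∀ i, dat.R i < chevE8.nroots) ∧ ∀ δ, dat.yr δ < chevE8.nroots := by
  decide +kernel

theorem chk_com : ∀ μ k, μ < (dat.nb μ k).1 →
    cFast (dat.yr al) (dat.yr (dat.nb μ k).2) = true := by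
  decide +kernel

theorem com : ∀ μ k, μ < (dat.nb μ k).1 → cOK (dat.yr al) (dat.yr (dat.nb μ k).2) = true :=
  fun μ k h => cOK_of_fast (chk_com μ k h)

theorem gam : ∀ μ, ¬ Src dat al μ → (∀ x, dat.dst (gamPair _ gamTab μ.1).1 x ≠ some μ) ∧
    (∀ x, dat.dst (gamPair _ gamTab μ.1).2 x ≠ some μ) ∧
    (oneOK (dat.yr (gamPair _ gamTab μ.1).1) (dat.yr (gamPair _ gamTab μ.1).2) (dat.yr al) 1 = true ∨
      oneOK (dat.yr (gamPair _ gamTab μ.1).1) (dat.yr (gamPair _ gamTab μ.1).2) (dat.yr al) (-1) = true) := by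
  decide +kernel

theorem word_spec : (word.map Fin.val).foldr chevE8.reflectRoot (dat.yr al) = dat.R 0 := by
  decide +kernel

end Cfsg.Agent.E8Deg.T6
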