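import Cfsg.Agent.E8Deg.T8
import Cfsg.Agent.E8Deg.Defs

/-!
Checks on the tables.
-/

set_option autoImplicit false
set_option maxRecDepth 100000
set_option maxHeartbeats 4000000
set_option Elab.async false

namespace Cfsg.Agent.E8Deg.T8

open Cfsg.Lie

theorem chk_second : ∀ μ w, dat.Far μ w → dat.SecOK μ w ∨
    ∃ p ∈ dat.jump μ w, dat.Far μ p.1 ∧ dat.Jumps μ p.2 ∧ dat.dst p.2 p.1 = some w ∧
      dat.SecOK μ p.1 := by
  decide +kernel

end Cfsg.Agent.E8Deg.T8
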