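import Cfsg.Agent.E8Deg.T8
import Cfsg.Agent.E8Deg.Defs

/-!
Checks on the tables.
-/

set_option autoImplicit false
set_option maxRecDepth 100000
set_option maxHeartbeats 4000000
set_option Elab.async false

namespace Cfsg.Agent.E8Deg.T8

open Cfsg.Lie

theorem chk_ops_b : ∀ δ, δ.1 < 63 → ∀ j, (dat.tg δ j = none → cFast (dat.R j) (dat.yr δ) = true) ∧
    ∀ p ∈ dat.tg δ j, oneFast (dat.R j) (dat.yr δ) (dat.R p.1) (-p.2) = true ∧
      cFast (dat.R p.1) (dat.yr δ) = true := by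
  decide +kernel

end Cfsg.Agent.E8Deg.T8
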