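import Cfsg.Agent.E8Deg.Elems
import Mathlib.NumberTheory.LegendreSymbol.AddCharacter
import Mathlib.RepresentationTheory.Character
import Mathlib.LinearAlgebra.Trace

/-!
The eigenprojections of commuting root groups inside the image of a projection.
-/

set_option autoImplicit false

namespace Cfsg.Agent.E8Deg

universe u

theorem exists_psi (F : Type u) [Field F] [Fintype F] :
    ∃ ψ : AddChar F ℂ, ψ.IsPrimitive := by
  haveI : Finite F := Finite.of_fintype F
  obtain ⟨p, hp⟩ := CharP.exists F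
  haveI := Fact.mk (CharP.char_is_prime F p)
  obtain ⟨ψ, hψ⟩ : ∃ ψ : AddChar F ℂ, ψ 1 ≠ 1 := AddChar.exists_apply_ne_zero.2 one_ne_zero
  exact ⟨ψ, AddChar.IsPrimitive.of_ne_one fun h => hψ (by rw [h, AddChar.one_apply])⟩

/-- A nontrivial character. -/
noncomputable def psi (F : Type u) [Field F] [Fintype F] : AddChar F ℂ := (exists_psi F).choose

theorem psi_prim (F : Type u) [Field F] [Fintype F] : (psi F).IsPrimitive :=
  (exists_psi F).choose_spec

variable {F : Type u} [Field F] {k : ℕ}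

/-- The endomorphisms. -/
abbrev EndV (k : ℕ) := Module.End ℂ (Fin k → ℂ)

variable (ρ : Representation ℂ (Gp F) (Fin k → ℂ))

/-- The trace. -/
noncomputable abbrev tr (A : EndV k) : ℂ := LinearMap.trace ℂ (Fin k → ℂ) A

/-- Root groups acting by commuting operators on the image of a projection. -/
structure Fam (P : EndV k) {n : ℕ} (R : Fin n → ℕ) : Prop where
  idem : P * P = P
  comm : ∀ i a, Commute (ρ (xx (R i) a)) P
  swap : ∀ i j a b, ρ (xx (R i) a) * ρ (xx (R j) b) * P = ρ (xx (R j) b) * ρ (xx (R i) a) * P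

/-- The product over the root groups, cut by the projection. -/
noncomputable def ev (P : EndV k) {n : ℕ} (R : Fin n → ℕ) (l : List (Fin n)) (u : Fin n → F) :
    EndV k :=
  l.foldr (fun i X => ρ (xx (R i) (u i)) * X) P

/-- The full product. -/
noncomputable def ee (P : EndV k) {n : ℕ} (R : Fin n → ℕ) (u : Fin n → F) : EndV k :=
  ev ρ P R (List.finRange n) u

variable {ρ} {P : EndV k} {n : ℕ} {R : Fin n → ℕ}

theorem ev_cons (i : Fin n) (l : List (Fin n)) (u : Fin n → F) :
    ev ρ P R (i :: l) u = ρ (xx (R i) (u i)) * ev ρ P R l u := rfl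

namespace Fam

variable (h : Fam ρ P R)
include h

theorem P_ev (u : Fin n → F) : ∀ l : List (Fin n), P * ev ρ P R l u = ev ρ P R l u
  | [] => h.idem
  | i :: l => by rw [ev_cons, ← mul_assoc, ← (h.comm i _).eq, mul_assoc, P_ev u l]

theorem ev_P (u : Fin n → F) : ∀ l : List (Fin n), ev ρ P R l u * P = ev ρ P R l u
  | [] => h.idem
  | i :: l => by rw [ev_cons, mul_assoc, ev_P u l]

theorem move (i : Fin n) (a : F) (u : Fin n → F) :
    ∀ l : List (Fin n), ev ρ P R l u * ρ (xx (R i) a) = ρ (xx (R i) a) * ev ρ P R l u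
  | [] => (h.comm i a).eq.symm
  | j :: l => by
    rw [ev_cons, mul_assoc, move i a u l]
    conv_lhs => rw [← h.P_ev u l]
    conv_rhs => rw [← h.P_ev u l]
    rw [← mul_assoc, ← mul_assoc, h.swap, mul_assoc, mul_assoc]
    try simp only [mul_assoc]

theorem ev_add (u v : Fin n → F) :
    ∀ l : List (Fin n), ev ρ P R l (u + v) = ev ρ P R l u * ev ρ P R l v
  | [] => h.idem.symm
  | i :: l => by
    rw [ev_cons, ev_cons, ev_cons, ev_add u v l, Pi.add_apply, xx_add, map_mul, mul_assoc,
      mul_assoc, ← mul_assoc (ev ρ P R l u), h.move i (v i) u l, mul_assoc]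

omit h in
theorem ev_zero_on (u : Fin n → F) :
    ∀ l : List (Fin n), (∀ i ∈ l, u i = 0) → ev ρ P R l u = P
  | [], _ => rfl
  | i :: l, hu => by
    rw [ev_cons, hu i List.mem_cons_self, xx_zero, map_one, one_mul,
      ev_zero_on u l fun j hj => hu j (List.mem_cons_of_mem _ hj)]

omit h in
theorem ev_single (i : Fin n) (a : F) :
    ∀ l : List (Fin n), l.Nodup → i ∈ l → ev ρ P R l (Pi.single i a) = ρ (xx (R i) a) * P
  | [], _, hi => by simp at hi
  | j :: l, hl, hi => by
    rw [List.nodup_cons] at hl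
    rw [ev_cons]
    by_cases hij : i = j
    · subst hij
      rw [Pi.single_eq_same, ev_zero_on _ l fun m hm => Pi.single_eq_of_ne (fun e => hl.1 (by subst e; exact hm)) _]
    · rw [Pi.single_eq_of_ne (Ne.symm hij), xx_zero, map_one, one_mul,
        ev_single i a l hl.2 ((List.mem_cons.1 hi).resolve_left hij)]

theorem ee_add (u v : Fin n → F) : ee ρ P R (u + v) = ee ρ P R u * ee ρ P R v := h.ev_add u v _

omit h in
theorem ee_zero : ee ρ P R 0 = P := ev_zero_on _ _ fun _ _ => rfl

omit h in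
theorem ee_single (i : Fin n) (a : F) : ee ρ P R (Pi.single i a) = ρ (xx (R i) a) * P :=
  ev_single i a _ (List.nodup_finRange n) (List.mem_finRange i)

theorem P_ee (u : Fin n → F) : P * ee ρ P R u = ee ρ P R u := h.P_ev u _

theorem ee_P (u : Fin n → F) : ee ρ P R u * P = ee ρ P R u := h.ev_P u _

/-- An element is intertwined as soon as it is on single root groups. -/
theorem intertwine_ee {g : Gp F} (hg : Commute (ρ g) P) (L : (Fin n → F) → Fin n → F)
    (hL0 : L 0 = 0) (hL : ∀ u v, L (u + v) = L u + L v) (φ : (Fin n → F) → ℂ) (hφ0 : φ 0 = 1)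
    (hφ : ∀ u v, φ (u + v) = φ u * φ v)
    (hgen : ∀ i a, ρ g * (ρ (xx (R i) a) * P) =
      φ (Pi.single i a) • (ee ρ P R (L (Pi.single i a)) * ρ g)) (u : Fin n → F) :
    ρ g * ee ρ P R u = φ u • (ee ρ P R (L u) * ρ g) := by
  classical
  rw [← Finset.univ_sum_single u]
  induction (Finset.univ : Finset (Fin n)) using Finset.induction with
  | empty =>
    rw [Finset.sum_empty, hL0, hφ0, one_smul, ee_zero]
    exact hg.eq
  | @insert i s hi ih =>
    rw [Finset.sum_insert hi, h.ee_add, hL, h.ee_add, hφ, ← mul_assoc, ee_single i (u i), hgen,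
      smul_mul_assoc, mul_assoc (ee ρ P R (L (Pi.single i (u i)))) (ρ g), ih, mul_smul_comm,
      smul_smul, mul_assoc]

end Fam

/-- The pairing. -/
noncomputable def dot (B u : Fin n → F) : F := ∑ i, B i * u i

theorem dot_single (B : Fin n → F) (i : Fin n) (a : F) : dot B (Pi.single i a) = B i * a := by
  rw [dot, Finset.sum_eq_single i]
  · rw [Pi.single_eq_same]
  · intro j _ hj
    rw [Pi.single_eq_of_ne hj, mul_zero]
  · simp

theorem dot_add (B u v : Fin n → F) : dot B (u + v) = dot B u + dot B v := by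
  simp only [dot, Pi.add_apply, mul_add, Finset.sum_add_distrib]

theorem dot_zero (B : Fin n → F) : dot B 0 = 0 := by simp [dot]

variable [Fintype F]

theorem psi_sum {ι : Type*} (s : Finset ι) (f : ι → F) :
    psi F (∑ i ∈ s, f i) = ∏ i ∈ s, psi F (f i) := by
  classical
  induction s using Finset.induction with
  | empty => simp
  | @insert i t hi ih => rw [Finset.sum_insert hi, Finset.prod_insert hi, AddChar.map_add_eq_mul, ih]

theorem sum_dot (B : Fin n → F) [DecidableEq F] :
    ∑ u : Fin n → F, psi F (dot B u) = if B = 0 then (Fintype.card F : ℂ) ^ n else 0 := by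
  have h : ∑ u : Fin n → F, psi F (dot B u) = ∏ i, ∑ v, psi F (v * B i) := by
    rw [Fintype.prod_sum]
    refine Finset.sum_congr rfl fun u _ => ?_
    rw [dot, psi_sum]
    exact Finset.prod_congr rfl fun i _ => by rw [mul_comm]
  rw [h, Finset.prod_congr rfl fun i _ => AddChar.sum_mulShift _ (psi_prim F)]
  by_cases hB : B = 0
  · subst hB
    simp
  · rw [if_neg hB]
    obtain ⟨i, hi⟩ := Function.ne_iff.1 hB
    refine Finset.prod_eq_zero (Finset.mem_univ i) ?_
    rw [if_neg (by simpa using hi)]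
    simp

variable (ρ)

/-- The projection on an eigenspace. -/
noncomputable def pp (P : EndV k) (R : Fin n → ℕ) (B : Fin n → F) : EndV k :=
  ((Fintype.card F : ℂ) ^ n)⁻¹ • ∑ u : Fin n → F, psi F (-dot B u) • ee ρ P R u

/-- The multiplicity of an eigencharacter. -/
noncomputable def dd (P : EndV k) (R : Fin n → ℕ) (B : Fin n → F) : ℕ :=
  Module.finrank ℂ (LinearMap.range (pp ρ P R B))

variable {ρ}

theorem qn_ne : ((Fintype.card F : ℂ) ^ n) ≠ 0 := pow_ne_zero _ (Nat.cast_ne_zero.2 Fintype.card_ne_zero)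

namespace Fam

variable (h : Fam ρ P R)
include h

theorem ee_pp (B v : Fin n → F) :
    ee ρ P R v * pp ρ P R B = psi F (dot B v) • pp ρ P R B := by
  rw [pp, mul_smul_comm, Finset.mul_sum, smul_comm]
  congr 1
  rw [Finset.smul_sum]
  refine Fintype.sum_equiv (Equiv.addLeft v) _ _ fun u => ?_
  rw [Equiv.coe_addLeft, mul_smul_comm, ← h.ee_add, smul_smul, ← AddChar.map_add_eq_mul, dot_add]
  congr 2
  ring

theorem pp_ee (B v : Fin n → F) :
    pp ρ P R B * ee ρ P R v = psi F (dot B v) • pp ρ P R B := by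
  rw [← h.ee_pp, pp, smul_mul_assoc, mul_smul_comm, Finset.sum_mul, Finset.mul_sum]
  congr 1
  refine Finset.sum_congr rfl fun u _ => ?_
  rw [smul_mul_assoc, mul_smul_comm, ← h.ee_add, ← h.ee_add, add_comm]

theorem P_pp (B : Fin n → F) : P * pp ρ P R B = pp ρ P R B := by
  have := h.ee_pp B 0
  rwa [ee_zero, dot_zero, AddChar.map_zero_eq_one, one_smul] at this

theorem pp_P (B : Fin n → F) : pp ρ P R B * P = pp ρ P R B := by
  have := h.pp_ee B 0
  rwa [ee_zero, dot_zero, AddChar.map_zero_eq_one, one_smul] at this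

theorem pp_mul (B B' : Fin n → F) [DecidableEq F] :
    pp ρ P R B * pp ρ P R B' = if B = B' then pp ρ P R B' else 0 := by
  conv_lhs => arg 1; rw [pp]
  rw [smul_mul_assoc, Finset.sum_mul]
  simp only [smul_mul_assoc, h.ee_pp, smul_smul, ← AddChar.map_add_eq_mul]
  rw [← Finset.sum_smul, smul_smul]
  have e : ∀ u, psi F (-dot B u + dot B' u) = psi F (dot (B' - B) u) := fun u => by
    congr 1
    simp only [dot, Pi.sub_apply, sub_mul, Finset.sum_sub_distrib]
    ring
  rw [Finset.sum_congr rfl fun u _ => e u, sum_dot]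
  by_cases hB : B = B'
  · rw [if_pos (sub_eq_zero.2 hB.symm), if_pos hB, inv_mul_cancel₀ qn_ne, one_smul]
  · rw [if_neg (fun hc => hB (sub_eq_zero.1 hc).symm), if_neg hB, mul_zero, zero_smul]

theorem pp_sq (B : Fin n → F) : pp ρ P R B * pp ρ P R B = pp ρ P R B := by
  classical
  rw [h.pp_mul, if_pos rfl]

theorem tr_pp (B : Fin n → F) : tr (pp ρ P R B) = (dd ρ P R B : ℂ) :=
  (LinearMap.IsProj.mk (fun x => LinearMap.mem_range_self _ x) (by
    rintro _ ⟨x, rfl⟩
    exact LinearMap.congr_fun (h.pp_sq B) x) :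
    LinearMap.IsProj (LinearMap.range (pp ρ P R B)) (pp ρ P R B)).trace

omit h in
theorem pp_eq_zero {B : Fin n → F} (hd : dd ρ P R B = 0) : pp ρ P R B = 0 :=
  LinearMap.range_eq_bot.1 (Submodule.finrank_eq_zero.1 hd)

omit h in
/-- Fourier inversion. -/
theorem expand (v : Fin n → F) : ee ρ P R v = ∑ B, psi F (dot B v) • pp ρ P R B := by
  classical
  simp only [pp, smul_smul, Finset.smul_sum]
  rw [Finset.sum_comm]
  simp only [← Finset.sum_smul]
  rw [Finset.sum_eq_single v]
  · have e : ∀ B : Fin n → F, psi F (dot B v) * (((Fintype.card F : ℂ) ^ n)⁻¹ * psi F (-dot B v)) =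
        ((Fintype.card F : ℂ) ^ n)⁻¹ := fun B => by
      rw [mul_left_comm, ← AddChar.map_add_eq_mul, add_neg_cancel, AddChar.map_zero_eq_one, mul_one]
    rw [Finset.sum_congr rfl fun B _ => e B, Finset.sum_const, Finset.card_univ, Fintype.card_fun,
      Fintype.card_fin, nsmul_eq_mul, Nat.cast_pow, mul_inv_cancel₀ qn_ne, one_smul]
  · intro u _ hu
    have e : ∀ B : Fin n → F, psi F (dot B v) * (((Fintype.card F : ℂ) ^ n)⁻¹ * psi F (-dot B u)) =
        ((Fintype.card F : ℂ) ^ n)⁻¹ * psi F (dot (v - u) B) := fun B => by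
      rw [mul_left_comm, ← AddChar.map_add_eq_mul]
      congr 2
      simp only [dot, Pi.sub_apply, ← sub_eq_add_neg, ← Finset.sum_sub_distrib]
      exact Finset.sum_congr rfl fun i _ => by ring
    rw [Finset.sum_congr rfl fun B _ => e B, ← Finset.mul_sum, sum_dot,
      if_neg (sub_ne_zero.2 (Ne.symm hu)), mul_zero, zero_smul]
  · simp

omit h in
theorem sum_pp : ∑ B, pp ρ P R B = P := by
  have := expand (ρ := ρ) (P := P) (R := R) (0 : Fin n → F)
  rw [ee_zero] at this
  refine Eq.trans ?_ this.symm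
  exact Finset.sum_congr rfl fun B _ => by rw [dot_zero, AddChar.map_zero_eq_one, one_smul]

theorem sum_dd : tr P = ((∑ B : Fin n → F, dd ρ P R B : ℕ) : ℂ) := by
  conv_lhs => rw [← sum_pp (ρ := ρ) (P := P) (R := R)]
  rw [tr, map_sum, Nat.cast_sum]
  exact Finset.sum_congr rfl fun B _ => h.tr_pp B

theorem tr_root (i : Fin n) (t : F) :
    tr (ρ (xx (R i) t) * P) = ∑ B : Fin n → F, psi F (B i * t) * (dd ρ P R B : ℂ) := by
  rw [← ee_single, expand, tr, map_sum]
  refine Finset.sum_congr rfl fun B _ => ?_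
  rw [map_smul, smul_eq_mul, dot_single]
  exact congrArg _ (h.tr_pp B)

theorem root_pp (B : Fin n → F) (i : Fin n) (t : F) :
    ρ (xx (R i) t) * pp ρ P R B = psi F (B i * t) • pp ρ P R B := by
  rw [← dot_single, ← h.ee_pp, ee_single, mul_assoc, h.P_pp]

/-- The average of one root group. -/
theorem sum_root (i : Fin n) [DecidableEq F] :
    ∑ t : F, tr (ρ (xx (R i) t) * P) =
      (Fintype.card F : ℂ) *
        ∑ B ∈ Finset.univ.filter (fun B : Fin n → F => B i = 0), (dd ρ P R B : ℂ) := by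
  rw [Finset.sum_congr rfl fun t _ => h.tr_root i t, Finset.sum_comm, Finset.mul_sum,
    Finset.sum_filter]
  refine Finset.sum_congr rfl fun B _ => ?_
  rw [← Finset.sum_mul,
    Finset.sum_congr rfl fun t _ => show psi F (B i * t) = psi F (t * B i) by rw [mul_comm],
    AddChar.sum_mulShift _ (psi_prim F)]
  split_ifs <;> simp

/-- An element carrying one eigencharacter to another. -/
theorem intertwine {g : Gp F} (L : (Fin n → F) ≃ (Fin n → F)) (B B' : Fin n → F)
    (hh : ∀ u, ρ g * ee ρ P R u =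
      psi F (dot B' u - dot B (L u)) • (ee ρ P R (L u) * ρ g)) :
    ρ g * pp ρ P R B' = pp ρ P R B * ρ g := by
  rw [pp, pp, mul_smul_comm, smul_mul_assoc, Finset.mul_sum, Finset.sum_mul]
  congr 1
  refine Fintype.sum_equiv L _ _ fun u => ?_
  rw [mul_smul_comm, hh, smul_smul, ← AddChar.map_add_eq_mul, smul_mul_assoc]
  congr 2
  ring

omit h in
theorem tr_conj {g : Gp F} {A B : EndV k} (hh : ρ g * A = B * ρ g) : tr A = tr B := by
  have e : A = ρ g⁻¹ * (B * ρ g) := by
    rw [← hh, ← mul_assoc, ← map_mul, inv_mul_cancel, map_one, one_mul]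
  rw [e, tr, LinearMap.trace_mul_comm, mul_assoc, ← map_mul, mul_inv_cancel, map_one, mul_one]

theorem dd_conj {g : Gp F} {B B' : Fin n → F} (hh : ρ g * pp ρ P R B' = pp ρ P R B * ρ g) :
    dd ρ P R B' = dd ρ P R B := by
  have := tr_conj hh
  rw [h.tr_pp, h.tr_pp] at this
  exact_mod_cast this

theorem tr_moved {g : Gp F} {B B' : Fin n → F} (hh : ρ g * pp ρ P R B' = pp ρ P R B * ρ g)
    (hne : B' ≠ B) : tr (ρ g * pp ρ P R B) = 0 := by
  classical
  rw [← h.pp_sq B, ← mul_assoc, tr, LinearMap.trace_mul_comm, ← mul_assoc, ← hh, mul_assoc,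
    h.pp_mul, if_neg hne, mul_zero, map_zero]

/-- Scalars on a line. -/
theorem scalar {B : Fin n → F} (hd : dd ρ P R B = 1) {A : EndV k}
    (hA : A * pp ρ P R B = pp ρ P R B * A) : ∃ c : ℂ, A * pp ρ P R B = c • pp ρ P R B := by
  obtain ⟨w, hw0, hw⟩ := finrank_eq_one_iff'.1 hd
  choose φ hφ using fun x => hw ⟨pp ρ P R B x, LinearMap.mem_range_self _ x⟩
  have hφ' : ∀ x, pp ρ P R B x = φ x • (w : Fin k → ℂ) := fun x =>
    (congrArg Subtype.val (hφ x)).symm
  refine ⟨φ (A w), LinearMap.ext fun x => ?_⟩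
  conv_lhs => rw [← h.pp_sq B, ← mul_assoc, hA]
  show pp ρ P R B (A (pp ρ P R B x)) = φ (A w) • pp ρ P R B x
  rw [hφ' x, map_smul, map_smul, hφ' (A w), smul_comm]

/-- A commutator of two stabilising elements is trivial on a line. -/
theorem comm_fix {B : Fin n → F} (hd : dd ρ P R B = 1) {a b c : Gp F}
    (ha : ρ a * pp ρ P R B = pp ρ P R B * ρ a) (hb : ρ b * pp ρ P R B = pp ρ P R B * ρ b)
    (habc : a * b = b * a * c) : ρ c * pp ρ P R B = pp ρ P R B := by
  obtain ⟨x, hx⟩ := h.scalar hd ha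
  obtain ⟨y, hy⟩ := h.scalar hd hb
  have e : ρ (a * b) * pp ρ P R B = ρ (b * a) * pp ρ P R B := by
    rw [map_mul, map_mul, mul_assoc, hy, mul_smul_comm, hx, mul_assoc, hx, mul_smul_comm, hy,
      smul_comm]
  rw [habc, map_mul, mul_assoc] at e
  have := congrArg (ρ (b * a)⁻¹ * ·) e
  simpa [← mul_assoc, ← map_mul] using this

/-- If nothing but zero occurs, the root groups are trivial. -/
theorem triv_of_support (h0 : ∀ B : Fin n → F, B ≠ 0 → dd ρ P R B = 0) (i : Fin n) (t : F) :
    ρ (xx (R i) t) * P = P := by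
  rw [← ee_single, expand]
  conv_rhs => rw [← sum_pp (ρ := ρ) (P := P) (R := R)]
  refine Finset.sum_congr rfl fun B _ => ?_
  by_cases hB : B = 0
  · rw [hB, dot_single, Pi.zero_apply, zero_mul, AddChar.map_zero_eq_one, one_smul]
  · rw [pp_eq_zero (h0 B hB), smul_zero]

end Fam

end Cfsg.Agent.E8Deg
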