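import Cfsg.Agent.E8Deg.Defs
import Cfsg.Agent.E8Deg.Proj

/-!
One level of the induction: the small orbit and the descent to the next radical.
-/

set_option autoImplicit false

namespace Cfsg.Agent.E8Deg

open Cfsg.Lie Cfsg.Agent.Chev
open scoped Classical

universe u

variable {n n1 nY : ℕ}

variable {F : Type u} [Field F] {k : ℕ} {ρ : Representation ℂ (Gp F) (Fin k → ℂ)} {P : EndV k}

/-- The dual of a translation. -/
noncomputable def lop (L : LData n n1 nY) (δ : Fin nY) (t : F) (u : Fin n → F) : Fin n → F :=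
  u + ∑ j, match L.tg δ j with
    | none => 0
    | some (m, s) => Pi.single m (t * (s : F) * u j)

theorem lop_add (L : LData n n1 nY) (δ : Fin nY) (t : F) (u v : Fin n → F) :
    lop L δ t (u + v) = lop L δ t u + lop L δ t v := by
  rw [lop, lop, lop, add_add_add_comm, ← Finset.sum_add_distrib]
  congr 1
  refine Finset.sum_congr rfl fun j _ => ?_
  cases L.tg δ j with
  | none => simp
  | some p => obtain ⟨m, s⟩ := p; simp only [Pi.add_apply, mul_add, Pi.single_add]

theorem lop_zero (L : LData n n1 nY) (δ : Fin nY) (t : F) : lop L δ t (0 : Fin n → F) = 0 := by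
  have := lop_add L δ t (0 : Fin n → F) 0
  rw [add_zero] at this
  exact left_eq_add.1 this

theorem dot_lop (L : LData n n1 nY) (δ : Fin nY) (t : F) (B u : Fin n → F) :
    dot B (lop L δ t u) = dot (L.op δ t B) u := by
  classical
  rw [lop, dot_add]
  have e : dot (L.op δ t B) u = dot B u + ∑ j, (L.op δ t B j - B j) * u j := by
    simp only [dot, ← Finset.sum_add_distrib]
    exact Finset.sum_congr rfl fun j _ => by ring
  rw [e]
  congr 1
  have e2 : ∀ (s : Finset (Fin n)) (f : Fin n → Fin n → F),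
      dot B (∑ j ∈ s, f j) = ∑ j ∈ s, dot B (f j) := by
    intro s f
    induction s using Finset.induction with
    | empty => simp [dot]
    | @insert i t hi ih => rw [Finset.sum_insert hi, Finset.sum_insert hi, dot_add, ih]
  rw [e2]
  refine Finset.sum_congr rfl fun j _ => ?_
  unfold LData.op
  cases L.tg δ j with
  | none => simp [dot]
  | some p => rw [dot_single]; ring

theorem lop_injective {L : LData n n1 nY} (hL : L.Good) (δ : Fin nY) (t : F) :
    Function.Injective (lop L δ t) := by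
  intro u v h
  funext i
  have hs : ∀ C : Fin n → F, dot C u = dot C v := fun C => by
    have := congrArg (dot (L.op δ (-t) C)) h
    rw [dot_lop, dot_lop] at this
    have e := hL.op_neg δ (-t) C
    rw [neg_neg] at e
    rwa [e] at this
  classical
  have := hs (Pi.single i 1)
  simpa [dot, Pi.single_apply] using this

theorem lop_single {L : LData n n1 nY} (δ : Fin nY) (t : F) (i : Fin n) (a : F) :
    lop L δ t (Pi.single i a) = Pi.single i a +
      match L.tg δ i with
      | none => 0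
      | some (m, s) => Pi.single m (t * (s : F) * a) := by
  classical
  rw [lop, Finset.sum_eq_single i]
  · simp only [Pi.single_eq_same]
  · intro j _ hj
    cases L.tg δ j with
    | none => rfl
    | some p => obtain ⟨m, s⟩ := p; simp only [Pi.single_eq_of_ne hj, mul_zero, Pi.single_zero]
  · simp

variable [Fintype F] {L : LData n n1 nY}

/-- A translation intertwines the eigenprojections. -/
theorem shift (hL : L.Good) (hO : L.OpsOK) (h : Fam ρ P L.R) {δ : Fin nY} {t : F}
    (hst : Commute (ρ (xx (L.yr δ) t)) P) (B : Fin n → F) :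
    ρ (xx (L.yr δ) t) * pp ρ P L.R (L.op δ t B) = pp ρ P L.R B * ρ (xx (L.yr δ) t) := by
  classical
  refine h.intertwine (Equiv.ofBijective _ (Finite.injective_iff_bijective.1 (lop_injective hL δ t)))
    B (L.op δ t B) fun u => ?_
  rw [Equiv.ofBijective_apply, dot_lop, sub_self, AddChar.map_zero_eq_one]
  refine h.intertwine_ee hst (lop L δ t) (lop_zero L δ t) (lop_add L δ t) (fun _ => 1) rfl
    (fun _ _ => (one_mul _).symm) (fun i a => ?_) u
  rw [one_smul, lop_single, ← mul_assoc, ← map_mul]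
  obtain ⟨h0, h1⟩ := hO δ i
  cases e : L.tg δ i with
  | none =>
    rw [add_zero, Fam.ee_single, (xx_commute (h0 e) a t).eq, map_mul, mul_assoc, mul_assoc, hst.eq]
  | some p =>
    obtain ⟨m, s⟩ := p
    obtain ⟨h2, h3⟩ := h1 (m, s) e
    rw [h.ee_add, Fam.ee_single, Fam.ee_single, xx_one_term h2 a t, map_mul, map_mul]
    have hc : Commute (xx (L.yr δ) t) (xx (L.R m) (((-s : ℤ) : F) * -a * t)) := xx_commute h3 _ _
    rw [mul_assoc (ρ (xx (L.R i) a)), ← map_mul ρ (xx (L.yr δ) t), hc.eq, map_mul]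
    have e2 : ((-s : ℤ) : F) * -a * t = t * (s : F) * a := by push_cast; ring
    rw [e2]
    simp only [mul_assoc]
    rw [hst.eq]
    rw [← mul_assoc P (ρ (xx (L.R m) _)), ← (h.comm m _).eq]
    simp only [← mul_assoc]
    rw [mul_assoc (ρ (xx (L.R i) a) * ρ (xx (L.R m) _)) P P, h.idem]

theorem dd_op (hL : L.Good) (hO : L.OpsOK) (h : Fam ρ P L.R) {δ : Fin nY} {t : F}
    (hst : Commute (ρ (xx (L.yr δ) t)) P) (B : Fin n → F) :
    dd ρ P L.R (L.op δ t B) = dd ρ P L.R B :=
  h.dd_conj (shift hL hO h hst B)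

theorem pp_zero_commute (hL : L.Good) (hO : L.OpsOK) (h : Fam ρ P L.R) {δ : Fin nY} {t : F}
    (hst : Commute (ρ (xx (L.yr δ) t)) P) :
    Commute (ρ (xx (L.yr δ) t)) (pp ρ P L.R 0) := by
  have := shift hL hO h hst 0
  rwa [LData.op_zero_vec] at this

/-- A diagonal element intertwines the eigenprojections. -/
theorem torus_shift {R : Fin n → ℕ} (h : Fam ρ P R) (hR : ∀ i, R i < chevE8.nroots)
    {c : Fin chevE8.rank → Fˣ} (hc : Commute (ρ (hh c)) P) (B : Fin n → F) :
    ρ (hh c) * pp ρ P R (fun i => B i * (chiU c (R i) : F)) = pp ρ P R B * ρ (hh c) := by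
  classical
  refine h.intertwine (Equiv.piCongrRight fun i => Equiv.mulLeft₀ (chiU c (R i) : F) (Units.ne_zero _))
    B _ fun u => ?_
  have e : dot (fun i => B i * (chiU c (R i) : F)) u =
      dot B (fun i => (chiU c (R i) : F) * u i) :=
    Finset.sum_congr rfl fun i _ => by ring
  show _ = psi F (dot _ u - dot B (fun i => (chiU c (R i) : F) * u i)) •
    (ee ρ P R (fun i => (chiU c (R i) : F) * u i) * ρ (hh c))
  rw [e, sub_self, AddChar.map_zero_eq_one]
  refine h.intertwine_ee hc (fun u i => (chiU c (R i) : F) * u i) ?_ ?_ (fun _ => 1) rfl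
    (fun _ _ => (one_mul _).symm) (fun i a => ?_) u
  · funext i; simp
  · intro u v; funext i; simp [mul_add]
  · have es : (fun j => (chiU c (R j) : F) * (Pi.single i a : Fin n → F) j) =
        Pi.single i ((chiU c (R i) : F) * a) := by
      funext j
      by_cases hj : j = i
      · subst hj; simp
      · simp [Pi.single_eq_of_ne hj]
    rw [one_smul, es, Fam.ee_single, ← mul_assoc, ← map_mul, hh_conj c (hR i), map_mul, mul_assoc,
      hc.eq, ← mul_assoc]

theorem torus_zero {R : Fin n → ℕ} (h : Fam ρ P R) (hR : ∀ i, R i < chevE8.nroots)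
    {c : Fin chevE8.rank → Fˣ} (hc : Commute (ρ (hh c)) P) :
    Commute (ρ (hh c)) (pp ρ P R 0) := by
  have := torus_shift h hR hc 0
  rwa [show (fun i => (0 : Fin n → F) i * (chiU c (R i) : F)) = 0 from funext fun i => zero_mul _] at this

theorem nn_commute {A : EndV k} :
    ∀ w : List (Fin chevE8.rank),
      (∀ i ∈ w, ∀ t : F, Commute (ρ (xx (chevE8.simple i) t)) A ∧
        Commute (ρ (xx (chevE8.neg (chevE8.simple i)) t)) A) → Commute (ρ (nn w)) A
  | [], _ => by simp [nn]
  | i :: w, h => by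
    have e : (nn (i :: w) : Gp F) = n1 i * nn w := rfl
    rw [e, map_mul]
    refine Commute.mul_left ?_ (nn_commute w fun j hj => h j (List.mem_cons_of_mem _ hj))
    rw [n1, map_mul, map_mul]
    obtain ⟨a, -⟩ := h i List.mem_cons_self (1 : F)
    obtain ⟨-, b⟩ := h i List.mem_cons_self (-(1 : F)⁻¹)
    exact (a.mul_left b).mul_left a

omit [Fintype F] in
/-- The point of a parameter without translation. -/
theorem pt_zero (μ : Fin n) (a : F) (ha : a ≠ 0) :
    L.pt ⟨μ, ⟨a, ha⟩, 0⟩ = Pi.single μ a := by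
  unfold LData.pt
  dsimp only
  generalize (L.late μ).toList = l
  induction l with
  | nil => rfl
  | cons j l ih =>
    rw [LData.trv_cons, ih]
    funext x
    simp only [LData.ext, LData.op]
    split_ifs <;> (cases L.tg (L.nb μ j).2 x <;> simp)

/-- The number of points of a cell. -/
def cell (L : LData n n1 nY) (q : ℕ) (μ : Fin n) : ℕ := (q - 1) * q ^ L.lat μ

/-- The number of points of the small orbit. -/
def orbN (L : LData n n1 nY) (q : ℕ) : ℕ := ∑ μ, cell L q μ

theorem card_fibre (μ : Fin n) :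
    Fintype.card ({a : F // a ≠ 0} × (↥(L.late μ) → F)) = cell L (Fintype.card F) μ := by
  classical
  rw [Fintype.card_prod, Fintype.card_fun, Fintype.card_coe, Fintype.card_subtype_compl,
    Fintype.card_subtype_eq]
  rfl

theorem sum_par (f : Fin n → ℂ) :
    ∑ p : L.Par F, f p.1 = ∑ μ, (cell L (Fintype.card F) μ : ℂ) * f μ := by
  classical
  rw [Fintype.sum_sigma]
  refine Finset.sum_congr rfl fun μ _ => ?_
  show ∑ _y, f μ = _
  rw [Finset.sum_const, Finset.card_univ, nsmul_eq_mul, card_fibre]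

/-- The support is the small orbit with constant multiplicity. -/
def OrbitCase (ρ : Representation ℂ (Gp F) (Fin k → ℂ)) (P : EndV k) (L : LData n n1 nY)
    (d : ℕ) : Prop :=
  (∀ p : L.Par F, dd ρ P L.R (L.pt p) = d) ∧
    ∀ B : Fin n → F, B ≠ 0 → (∀ p : L.Par F, L.pt p ≠ B) → dd ρ P L.R B = 0

/-- The data of one level on a projection. -/
structure Setup (ρ : Representation ℂ (Gp F) (Fin k → ℂ)) (P : EndV k) (L : LData n n1 nY) :
    Prop where
  good : L.Good
  ops : L.OpsOK
  fam : Fam ρ P L.R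
  stab : ∀ δ t, Commute (ρ (xx (L.yr δ) t)) P

theorem support (hS : Setup ρ P L) :
    (∀ B : Fin n → F, B ≠ 0 → dd ρ P L.R B = 0) ∨
      Fintype.card F ^ (n1 + 2) ≤ ∑ B : Fin n → F, dd ρ P L.R B ∨
      ∃ d, 1 ≤ d ∧ OrbitCase ρ P L d := by
  classical
  by_cases hz : ∀ B : Fin n → F, B ≠ 0 → dd ρ P L.R B = 0
  · exact Or.inl hz
  refine Or.inr ?_
  push Not at hz
  obtain ⟨B₁, hB₁, hd₁⟩ := hz
  by_cases hbig : Fintype.card F ^ (n1 + 2) ≤ ∑ B : Fin n → F, dd ρ P L.R B
  · exact Or.inl hbig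
  refine Or.inr ⟨dd ρ P L.R B₁, Nat.pos_of_ne_zero hd₁, ?_⟩
  have main : ∀ B : Fin n → F, B ≠ 0 → dd ρ P L.R B ≠ 0 →
      (∃ p, L.pt p = B) ∧ ∀ p, dd ρ P L.R (L.pt p) = dd ρ P L.R B := by
    intro B hB hd
    set S : Set (Fin n → F) := {C | dd ρ P L.R C = dd ρ P L.R B} with hSdef
    have hSc : L.Closed S := fun δ t C hC =>
      (dd_op hS.good hS.ops hS.fam (hS.stab δ t) C).trans hC
    rcases hS.good.dichotomy hSc (show B ∈ S from rfl) hB with h | ⟨h1, h2⟩
    · refine absurd (h.trans ?_) hbig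
      rw [Nat.card_coe_set_eq, Set.ncard_eq_toFinset_card']
      rw [Finset.card_eq_sum_ones]
      refine (Finset.sum_le_sum fun C hC => ?_).trans
        (Finset.sum_le_univ_sum_of_nonneg fun _ => Nat.zero_le _)
      rw [Set.mem_toFinset] at hC
      show 1 ≤ dd ρ P L.R C
      rw [show dd ρ P L.R C = dd ρ P L.R B from hC]
      omega
    · exact ⟨h1 B rfl hB, h2⟩
  obtain ⟨-, h2⟩ := main B₁ hB₁ hd₁
  refine ⟨h2, fun B hB hnot => ?_⟩
  by_contra hd
  obtain ⟨p, hp⟩ := (main B hB hd).1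
  exact hnot p hp

/-- Sums over the support. -/
theorem sum_support (hS : Setup ρ P L) {d : ℕ} (hd : OrbitCase ρ P L d)
    (f : (Fin n → F) → ℂ) (hf : ∀ B : Fin n → F, dd ρ P L.R B = 0 → f B = 0) :
    ∑ B : Fin n → F, f B = f 0 + ∑ p : L.Par F, f (L.pt p) := by
  classical
  rw [← Finset.add_sum_erase _ _ (Finset.mem_univ (0 : Fin n → F))]
  congr 1
  refine (Finset.sum_subset (s₁ := Finset.univ.image (L.pt : L.Par F → Fin n → F)) ?_ ?_).symm.trans ?_
  · intro B hB
    obtain ⟨p, -, rfl⟩ := Finset.mem_image.1 hB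
    exact Finset.mem_erase.2 ⟨hS.good.pt_ne p, Finset.mem_univ _⟩
  · intro B hB hnot
    refine hf B (hd.2 B (Finset.ne_of_mem_erase hB) fun p hp => hnot ?_)
    exact Finset.mem_image.2 ⟨p, Finset.mem_univ _, hp⟩
  · exact Finset.sum_image fun a _ b _ e => hS.good.pt_inj e

theorem trace_split (hS : Setup ρ P L) {d : ℕ} (hd : OrbitCase ρ P L d) :
    tr P = (dd ρ P L.R 0 : ℂ) + (orbN L (Fintype.card F) : ℂ) * d := by
  classical
  rw [hS.fam.sum_dd, Nat.cast_sum, sum_support hS hd _ fun B h => by rw [h, Nat.cast_zero]]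
  congr 1
  rw [Finset.sum_congr rfl fun p _ => by rw [hd.1 p], sum_par (fun _ => (d : ℂ)), ← Finset.sum_mul,
    orbN, Nat.cast_sum]

/-- The average of the first root group. -/
theorem sum_first (hS : Setup ρ P L) {d : ℕ} (hd : OrbitCase ρ P L d) {o : Fin n} (ho : o.1 = 0)
    :
    (∑ t : F, tr (ρ (xx (L.R o) t) * P)) + (Fintype.card F : ℂ) * (cell L (Fintype.card F) o * d) =
      (Fintype.card F : ℂ) * tr P := by
  classical
  rw [hS.fam.sum_root, trace_split hS hd, Finset.sum_filter,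
    sum_support hS hd _ fun B h => by rw [h, Nat.cast_zero, ite_self]]
  have e : ∀ p : L.Par F, (if L.pt p o = 0 then (dd ρ P L.R (L.pt p) : ℂ) else 0) =
      if p.1 = o then 0 else (d : ℂ) := by
    intro p
    rw [hd.1 p]
    by_cases hp : p.1 = o
    · rw [if_pos hp, if_neg]
      rw [← hp, hS.good.pt_mu]
      exact p.2.1.2
    · rw [if_neg hp, if_pos]
      refine hS.good.pt_low p ?_
      rw [Fin.lt_def, ho]
      exact Nat.pos_of_ne_zero fun h => hp (Fin.ext (h.trans ho.symm))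
  rw [Finset.sum_congr rfl fun p _ => e p, sum_par (fun μ => if μ = o then 0 else (d : ℂ)),
    Pi.zero_apply, if_pos rfl, ← mul_add, add_assoc]
  congr 2
  rw [orbN, Nat.cast_sum, Finset.sum_mul,
    ← Finset.add_sum_erase _ (fun μ => (cell L (Fintype.card F) μ : ℂ) * d) (Finset.mem_univ o),
    ← Finset.add_sum_erase _ (fun μ => (cell L (Fintype.card F) μ : ℂ) * if μ = o then 0 else (d : ℂ))
      (Finset.mem_univ o), if_pos rfl, mul_zero, zero_add, add_comm]
  refine congrArg _ (Finset.sum_congr rfl fun μ hμ => ?_)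
  rw [if_neg (Finset.ne_of_mem_erase hμ)]

/-- A root element commuting with the translations has the same trace along a cell. -/
theorem tr_along (hS : Setup ρ P L) {α : ℕ} {μ : Fin n}
    (hcom : ∀ k, μ < (L.nb μ k).1 → cOK α (L.yr (L.nb μ k).2) = true) (t : F) (s : Fin n1 → F)
    (C : Fin n → F) :
    ∀ l : List (Fin n1), (∀ k ∈ l, μ < (L.nb μ k).1) →
      tr (ρ (xx α t) * pp ρ P L.R (L.trv μ s l C)) = tr (ρ (xx α t) * pp ρ P L.R C)
  | [], _ => rfl
  | k :: l, h => by
    rw [← tr_along hS hcom t s C l fun j hj => h j (List.mem_cons_of_mem _ hj), LData.trv_cons]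
    refine Fam.tr_conj (ρ := ρ) (g := xx (L.yr (L.nb μ k).2) (s k)) ?_
    rw [← mul_assoc, ← map_mul,
      (xx_commute (hcom k (h k List.mem_cons_self)) t (s k)).eq, map_mul,
      mul_assoc, shift hS.good hS.ops hS.fam (hS.stab _ _), ← mul_assoc]

/-- The average of a root group of the Levi subgroup, when the orbit is simple. -/
theorem sum_levi (hS : Setup ρ P L) (hd : OrbitCase ρ P L 1) {δ : Fin nY}
    (hcom : ∀ μ k, μ < (L.nb μ k).1 → cOK (L.yr δ) (L.yr (L.nb μ k).2) = true)
    (hfix : ∀ μ, ¬ Src L δ μ → ∀ a : F, a ≠ 0 → ∀ t : F,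
      ρ (xx (L.yr δ) t) * pp ρ P L.R (Pi.single μ a) = pp ρ P L.R (Pi.single μ a)) :
    ∑ t : F, tr (ρ (xx (L.yr δ) t) * P) =
      (∑ t : F, tr (ρ (xx (L.yr δ) t) * pp ρ P L.R 0)) +
        ∑ μ, (cell L (Fintype.card F) μ : ℂ) * (if Src L δ μ then 1 else (Fintype.card F : ℂ)) := by
  classical
  have e : ∀ t : F, tr (ρ (xx (L.yr δ) t) * P) =
      ∑ B : Fin n → F, tr (ρ (xx (L.yr δ) t) * pp ρ P L.R B) := fun t => by
    conv_lhs => rw [← Fam.sum_pp (ρ := ρ) (P := P) (R := L.R)]
    rw [Finset.mul_sum, tr, map_sum]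
  rw [Finset.sum_congr rfl fun t _ => e t, Finset.sum_comm,
    sum_support hS hd _ fun B h => by
      rw [Fam.pp_eq_zero h]
      simp [tr],
    ← sum_par (fun μ => if Src L δ μ then 1 else (Fintype.card F : ℂ))]
  congr 1
  refine Finset.sum_congr rfl fun p _ => ?_
  obtain ⟨μ, a, s⟩ := p
  show ∑ t : F, tr (ρ (xx (L.yr δ) t) * pp ρ P L.R (L.pt ⟨μ, a, s⟩)) = _
  unfold LData.pt
  rw [Finset.sum_congr rfl fun t _ => tr_along hS (hcom μ) t _ _ _
    fun k hk => LData.mem_late.1 (Finset.mem_toList.1 hk)]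
  have h1 : (dd ρ P L.R (Pi.single μ a.1) : ℂ) = 1 := by
    have := hd.1 ⟨μ, a, fun _ => 0⟩
    unfold LData.pt at this
    dsimp only at this
    have ez : L.trv μ (L.ext μ fun _ => (0 : F)) (L.late μ).toList (Pi.single μ a.1) =
        Pi.single μ a.1 := by
      generalize (L.late μ).toList = l
      induction l with
      | nil => rfl
      | cons j l ih =>
        rw [LData.trv_cons, ih]
        funext x
        simp only [LData.ext, LData.op]
        split_ifs <;> (cases L.tg (L.nb μ j).2 x <;> simp)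
    rw [ez] at this
    rw [this, Nat.cast_one]
  show _ = if Src L δ μ then (1 : ℂ) else (Fintype.card F : ℂ)
  by_cases hs : Src L δ μ
  · rw [if_pos hs, Finset.sum_eq_single (0 : F)]
    · rw [xx_zero, map_one, one_mul, hS.fam.tr_pp, h1]
    · intro t _ ht
      refine hS.fam.tr_moved (shift hS.good hS.ops hS.fam (hS.stab δ t) _) fun he => ?_
      obtain ⟨x, hx⟩ := hs
      have hne : x ≠ μ := fun h => by
        have := hS.good.twice δ x μ hx
        rw [← h] at this
        rw [this] at hx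
        cases hx
      have := congrFun he x
      rw [L.op_some hx, Pi.single_eq_of_ne hne, Pi.single_eq_same, zero_add] at this
      exact mul_ne_zero (mul_ne_zero ht (hS.good.sg_ne _ _)) a.2 this
    · simp
  · rw [if_neg hs, Finset.sum_congr rfl fun t _ => by rw [hfix μ hs a.1 a.2 t, hS.fam.tr_pp, h1],
      Finset.sum_const, Finset.card_univ, nsmul_eq_mul, mul_one]

/-- A commutator fixes the lines of the unmoved cells. -/
theorem fix_commutator (hS : Setup ρ P L) {μ : Fin n} {a : F}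
    (hd : dd ρ P L.R (Pi.single μ a) = 1) {y z : Fin nY} {γ : ℕ} {C : ℤ} (hC : C = 1 ∨ C = -1)
    (hy : ∀ x, L.dst y x ≠ some μ) (hz : ∀ x, L.dst z x ≠ some μ)
    (hone : oneOK (L.yr y) (L.yr z) γ C = true) (t : F) :
    ρ (xx γ t) * pp ρ P L.R (Pi.single μ a) = pp ρ P L.R (Pi.single μ a) := by
  have hop : ∀ (δ : Fin nY), (∀ x, L.dst δ x ≠ some μ) → ∀ v : F,
      ρ (xx (L.yr δ) v) * pp ρ P L.R (Pi.single μ a) =
        pp ρ P L.R (Pi.single μ a) * ρ (xx (L.yr δ) v) := by
    intro δ hδ v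
    have := shift hS.good hS.ops hS.fam (hS.stab δ v) (Pi.single μ a)
    rwa [show L.op δ v (Pi.single μ a) = Pi.single μ a from funext fun x =>
      L.op_of_zero fun m hm => Pi.single_eq_of_ne (fun e => hδ x (by subst e; exact hm)) _] at this
  have habc := xx_one_term (F := F) hone (-t) (C : F)
  have e : (C : F) * -(-t) * (C : F) = t := by rcases hC with rfl | rfl <;> simp
  rw [e] at habc
  exact hS.fam.comm_fix hd (hop z hz _) (hop y hy _) habc

/-- A diagonal element fixes the lines of the cells it centralises. -/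
theorem fix_torus (hS : Setup ρ P L) (hR : ∀ i, L.R i < chevE8.nroots) {μ : Fin n} {a : F}
    (hd : dd ρ P L.R (Pi.single μ a) = 1) {δ : Fin nY} (hδ : ∀ x, L.dst δ x ≠ some μ)
    (hr : L.yr δ < chevE8.nroots) {c : Fin chevE8.rank → Fˣ}
    (hc : Commute (ρ (hh c)) P) (h1 : chiU c (L.R μ) = 1) (h2 : chiU c (L.yr δ) ≠ 1) (t : F) :
    ρ (xx (L.yr δ) t) * pp ρ P L.R (Pi.single μ a) = pp ρ P L.R (Pi.single μ a) := by
  set Q := pp ρ P L.R (Pi.single μ a) with hQ
  have hop : ∀ v : F, ρ (xx (L.yr δ) v) * Q = Q * ρ (xx (L.yr δ) v) := by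
    intro v
    have := shift hS.good hS.ops hS.fam (hS.stab δ v) (Pi.single μ a)
    rwa [show L.op δ v (Pi.single μ a) = Pi.single μ a from funext fun x =>
      L.op_of_zero fun m hm => Pi.single_eq_of_ne (fun e => hδ x (by subst e; exact hm)) _] at this
  have hh' : ρ (hh c) * Q = Q * ρ (hh c) := by
    have := torus_shift hS.fam hR hc (Pi.single μ a)
    have e : (fun i => (Pi.single μ a : Fin n → F) i * (chiU c (L.R i) : F)) = Pi.single μ a := by
      funext i
      by_cases hi : i = μ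
      · subst hi; rw [h1, Units.val_one, mul_one]
      · simp [Pi.single_eq_of_ne hi]
    rwa [e] at this
  set κ : F := (chiU c (L.yr δ) : F) with hκ
  have key : ∀ v : F, ρ (xx (L.yr δ) (κ * v)) * Q = ρ (xx (L.yr δ) v) * Q := by
    intro v
    obtain ⟨x, hx⟩ := hS.fam.scalar hd (hop v)
    have e1 : ρ (hh c) * (ρ (xx (L.yr δ) v) * Q) =
        ρ (xx (L.yr δ) (κ * v)) * Q * ρ (hh c) := by
      rw [← mul_assoc, ← map_mul, hh_conj c hr, map_mul, mul_assoc, hh', ← mul_assoc]
    rw [hx, mul_smul_comm, hh', ← smul_mul_assoc] at e1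
    have e2 := congrArg (· * ρ (hh c)⁻¹) e1
    simp only [mul_assoc, ← map_mul, mul_inv_cancel, map_one, mul_one] at e2
    rw [← e2, hx]
  have hκ1 : κ - 1 ≠ 0 := sub_ne_zero.2 fun h => h2 (Units.ext h)
  have e : xx (L.yr δ) t = xx (L.yr δ) (-(t / (κ - 1))) * xx (L.yr δ) (κ * (t / (κ - 1))) := by
    rw [← xx_add]
    congr 1
    field_simp
    ring
  rw [e, map_mul, mul_assoc, key, ← mul_assoc, ← map_mul, ← xx_add, neg_add_cancel, xx_zero,
    map_one, one_mul]

/-- The next radical acts nontrivially on the fixed space. -/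
theorem child_nontrivial (hS : Setup ρ P L) (hd : OrbitCase ρ P L 1) {o : Fin n} (ho : o.1 = 0)
    {δ : Fin nY}
    (hcom : ∀ μ k, μ < (L.nb μ k).1 → cOK (L.yr δ) (L.yr (L.nb μ k).2) = true)
    (hfix : ∀ μ, ¬ Src L δ μ → ∀ a : F, a ≠ 0 → ∀ t : F,
      ρ (xx (L.yr δ) t) * pp ρ P L.R (Pi.single μ a) = pp ρ P L.R (Pi.single μ a))
    {g : Gp F} {c : F} (hc : c ≠ 0) (hgP : Commute (ρ g) P)
    (hg : ∀ t : F, g * xx (L.yr δ) t = xx (L.R o) (c * t) * g)
    (hcount : (Fintype.card F - 1) * ∑ μ, (if Src L δ μ then Fintype.card F ^ L.lat μ else 0) ≠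
      Fintype.card F ^ (L.lat o + 1)) :
    ∃ t : F, ρ (xx (L.yr δ) t) * pp ρ P L.R 0 ≠ pp ρ P L.R 0 := by
  classical
  by_contra hcon
  push Not at hcon
  have hconj : ∑ t : F, tr (ρ (xx (L.yr δ) t) * P) = ∑ t : F, tr (ρ (xx (L.R o) t) * P) := by
    refine Fintype.sum_equiv (Equiv.mulLeft₀ c hc) _ _ fun t => ?_
    rw [Equiv.mulLeft₀_apply]
    refine Fam.tr_conj (ρ := ρ) (g := g) ?_
    rw [← mul_assoc, ← map_mul, hg, map_mul, mul_assoc, hgP.eq, ← mul_assoc]
  have h1 := sum_first hS hd ho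
  rw [← hconj, sum_levi hS hd hcom hfix, trace_split hS hd,
    Finset.sum_congr rfl fun t _ => by rw [hcon t, hS.fam.tr_pp], Finset.sum_const, Finset.card_univ,
    nsmul_eq_mul, Nat.cast_one, mul_one] at h1
  set q := Fintype.card F with hq
  set A := ∑ μ, (if Src L δ μ then cell L q μ else 0) with hA
  set A' := ∑ μ, (if Src L δ μ then 0 else cell L q μ) with hA'
  have eO : orbN L q = A + A' := by
    rw [hA, hA', ← Finset.sum_add_distrib, orbN]
    exact Finset.sum_congr rfl fun μ _ => by split_ifs <;> simp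
  have e2 : ∑ μ, (cell L q μ : ℂ) * (if Src L δ μ then 1 else (q : ℂ)) = (A : ℂ) + (q : ℂ) * A' := by
    rw [hA, hA', Nat.cast_sum, Nat.cast_sum, Finset.mul_sum, ← Finset.sum_add_distrib]
    exact Finset.sum_congr rfl fun μ _ => by split_ifs <;> simp [mul_comm]
  rw [e2, eO] at h1
  have h2 : (A : ℂ) + (q : ℂ) * (cell L q o) = (q : ℂ) * A := by
    push_cast at h1 ⊢
    linear_combination h1
  have h3 : A + q * cell L q o = q * A := by exact_mod_cast h2
  have h4 : A = (q - 1) * ∑ μ, (if Src L δ μ then q ^ L.lat μ else 0) := by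
    rw [hA, Finset.mul_sum]
    exact Finset.sum_congr rfl fun μ _ => by split_ifs <;> simp [cell]
  refine hcount (h4.symm.trans ?_)
  have hq2 : 2 ≤ q := Fintype.one_lt_card
  obtain ⟨r, hr⟩ : ∃ r, q = r + 1 := ⟨q - 1, by omega⟩
  rw [cell, hr, Nat.add_sub_cancel] at h3
  rw [hr]
  have h5 : r * A = r * (r + 1) ^ (L.lat o + 1) := by
    rw [pow_succ]
    nlinarith [h3]
  exact Nat.eq_of_mul_eq_mul_left (by omega) h5

end Cfsg.Agent.E8Deg
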