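import Cfsg.Agent.E8Deg.C5
import Cfsg.Agent.E8Deg.C6
import Cfsg.Agent.E8Deg.C7
import Cfsg.Agent.E8Deg.Bottom
import Cfsg.Agent.E8Deg.Level

/-!
The descent through the Levi subgroups of types `E₇`, `E₆`, `D₅`.
-/

set_option autoImplicit false
set_option maxRecDepth 100000

namespace Cfsg.Agent.E8Deg

open Cfsg.Lie Cfsg.Agent.Chev
open scoped Classical

universe u

variable {n n1 nY : ℕ}

/-- A table lists a root. -/
def Has {m : ℕ} (y : Fin m → ℕ) (r : ℕ) : Prop := ∃ δ, y δ = r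

instance {m : ℕ} (y : Fin m → ℕ) (r : ℕ) : Decidable (Has y r) := by unfold Has; infer_instance

theorem chk7 : (∀ δ, Has T7.dat.yr (T6.dat.yr δ)) ∧ (∀ i, Has T7.dat.yr (T6.dat.R i)) ∧
    ∀ i ∈ T6.word, Has T7.dat.yr (chevE8.simple i) ∧ Has T7.dat.yr (chevE8.neg (chevE8.simple i)) := by
  decide +kernel

theorem chk6 : (∀ δ, Has T6.dat.yr (T5.dat.yr δ)) ∧ (∀ i, Has T6.dat.yr (T5.dat.R i)) ∧
    ∀ i ∈ T5.word, Has T6.dat.yr (chevE8.simple i) ∧ Has T6.dat.yr (chevE8.neg (chevE8.simple i)) := by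
  decide +kernel

theorem chk5 : ∀ i j : Fin 5, i ≠ j → Has T5.dat.yr (rL i j) := by decide +kernel

theorem chk_top_roots : T5.dat.yr T5.al = 144 ∧ T6.dat.yr T6.al = T5.dat.R 0 ∧
    T7.dat.yr T7.al = T6.dat.R 0 := by
  decide +kernel

theorem lat5 : List.ofFn T5.dat.lat = [6, 5, 4, 4, 3, 3, 2, 2, 1, 0] ∧
    (List.finRange 10).filter (fun μ => decide (Src T5.dat T5.al μ)) = [0, 1, 3] := by
  decide +kernel

theorem lat6 : List.ofFn T6.dat.lat = [10, 9, 8, 7, 7, 6, 6, 5, 5, 4, 4, 3, 3, 2, 1, 0] ∧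
    (List.finRange 16).filter (fun μ => decide (Src T6.dat T6.al μ)) = [0, 1, 2, 4] := by
  decide +kernel

theorem lat7 : List.ofFn T7.dat.lat =
    [16, 15, 14, 13, 12, 12, 11, 11, 10, 10, 9, 9, 8, 8, 8, 7, 7, 6, 6, 5, 5, 4, 4, 3, 2, 1, 0] ∧
    (List.finRange 27).filter (fun μ => decide (Src T7.dat T7.al μ)) = [0, 1, 2, 3, 4, 6] := by
  decide +kernel

theorem orbN_list (L : LData n n1 nY) (q : ℕ) {l : List ℕ} (h : List.ofFn L.lat = l) :
    orbN L q = (q - 1) * (l.map (q ^ ·)).sum := by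
  rw [← h, List.map_ofFn, List.sum_ofFn, orbN, Finset.mul_sum]
  rfl

theorem srcN_list (L : LData n n1 nY) (δ : Fin nY) (q : ℕ) {l : List (Fin n)}
    (h : (List.finRange n).filter (fun μ => decide (Src L δ μ)) = l) :
    ∑ μ, (if Src L δ μ then q ^ L.lat μ else 0) = (l.map fun μ => q ^ L.lat μ).sum := by
  rw [← Finset.sum_filter, ← h, ← List.sum_toFinset _ ((List.nodup_finRange n).filter _)]
  refine Finset.sum_congr ?_ fun _ _ => rfl
  ext μ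
  simp

variable {F : Type u} [Field F] {k : ℕ} {ρ : Representation ℂ (Gp F) (Fin k → ℂ)} {P : EndV k}

/-- A projection centralised by given root groups and by the torus. -/
structure Base (ρ : Representation ℂ (Gp F) (Fin k → ℂ)) (P : EndV k) {m : ℕ} (y : Fin m → ℕ) :
    Prop where
  idem : P * P = P
  root : ∀ δ t, Commute (ρ (xx (y δ) t)) P
  tor : ∀ c, Commute (ρ (hh c)) P

theorem Base.has {m : ℕ} {y : Fin m → ℕ} (hB : Base ρ P y) {r : ℕ} (h : Has y r) (t : F) :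
    Commute (ρ (xx r t)) P := by
  obtain ⟨δ, rfl⟩ := h
  exact hB.root δ t

variable [Fintype F]

theorem Base.setup {m : ℕ} {y : Fin m → ℕ} (hB : Base ρ P y) {L : LData n n1 nY} (hL : L.Good)
    (hO : L.OpsOK) (hy : ∀ δ, Has y (L.yr δ)) (hR : ∀ i, Has y (L.R i))
    (hsw : ∀ i j, cOK (L.R i) (L.R j) = true) : Setup ρ P L where
  good := hL
  ops := hO
  fam :=
    { idem := hB.idem
      comm := fun i a => hB.has (hR i) a
      swap := fun i j a b => by rw [← map_mul, ← map_mul, (xx_commute (hsw j i) b a).eq] }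
  stab δ t := hB.has (hy δ) t

theorem Base.child {m : ℕ} {y : Fin m → ℕ} (hB : Base ρ P y) {L : LData n n1 nY}
    (hS : Setup ρ P L) (hlt : ∀ i, L.R i < chevE8.nroots) : Base ρ (pp ρ P L.R 0) L.yr where
  idem := hS.fam.pp_sq 0
  root δ t := pp_zero_commute hS.good hS.ops hS.fam (hS.stab δ t)
  tor c := torus_zero hS.fam hlt (hB.tor c)

theorem Base.word {m : ℕ} {y : Fin m → ℕ} (hB : Base ρ P y) {w : List (Fin 8)}
    (h : ∀ i ∈ w, Has y (chevE8.simple i) ∧ Has y (chevE8.neg (chevE8.simple i))) :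
    Commute (ρ (nn w)) P :=
  nn_commute w fun i hi t => ⟨hB.has (h i hi).1 t, hB.has (h i hi).2 t⟩

/-- One step of the induction. -/
theorem step {L : LData n n1 nY} (hS : Setup ρ P L)
    (hne : ∃ i t, ρ (xx (L.R i) t) * P ≠ P) {T : ℕ}
    (hbig : T ≤ Fintype.card F ^ (n1 + 2)) (hdbl : T ≤ 2 * orbN L (Fintype.card F))
    (hone : OrbitCase ρ P L 1 → T ≤ orbN L (Fintype.card F) + dd ρ P L.R 0) :
    ∃ D : ℕ, tr P = (D : ℂ) ∧ T ≤ D := by
  refine ⟨_, hS.fam.sum_dd, ?_⟩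
  rcases support hS with h | h | ⟨d, hd1, hd⟩
  · obtain ⟨i, t, ht⟩ := hne
    exact absurd (Fam.triv_of_support hS.fam h i t) ht
  · exact hbig.trans h
  · have e : (∑ B : Fin n → F, dd ρ P L.R B) = dd ρ P L.R 0 + orbN L (Fintype.card F) * d := by
      have := trace_split hS hd
      rw [hS.fam.sum_dd] at this
      exact_mod_cast this
    rw [e]
    rcases Nat.lt_or_ge d 2 with h | h
    · obtain rfl : d = 1 := by omega
      have := hone hd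
      omega
    · have := Nat.mul_le_mul_left (orbN L (Fintype.card F)) h
      omega

/-- The smallest degree at the bottom, or zero when it is unknown. -/
def theta (q : ℕ) : ℕ := if q = 2 then 0 else q ^ 4 + q ^ 3 + q ^ 2 + q

/-- The bound for the level `D₅`. -/
def T5b (q : ℕ) : ℕ := orbN T5.dat q + theta q

/-- The bound for the level `E₆`. -/
def T6b (q : ℕ) : ℕ := orbN T6.dat q + T5b q

/-- The bound for the level `E₇`. -/
def T7b (q : ℕ) : ℕ := orbN T7.dat q + T6b q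

theorem orb5 (q : ℕ) : orbN T5.dat q = (q - 1) *
    (q ^ 6 + q ^ 5 + 2 * q ^ 4 + 2 * q ^ 3 + 2 * q ^ 2 + q + 1) := by
  rw [orbN_list _ q lat5.1]
  simp only [List.map_cons, List.map_nil, List.sum_cons, List.sum_nil, pow_zero, pow_one]
  ring

theorem orb6 (q : ℕ) : orbN T6.dat q = (q - 1) *
    (q ^ 10 + q ^ 9 + q ^ 8 + 2 * q ^ 7 + 2 * q ^ 6 + 2 * q ^ 5 + 2 * q ^ 4 + 2 * q ^ 3 + q ^ 2 +
      q + 1) := by
  rw [orbN_list _ q lat6.1]
  simp only [List.map_cons, List.map_nil, List.sum_cons, List.sum_nil, pow_zero, pow_one]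
  ring

theorem orb7 (q : ℕ) : orbN T7.dat q = (q - 1) *
    (q ^ 16 + q ^ 15 + q ^ 14 + q ^ 13 + 2 * q ^ 12 + 2 * q ^ 11 + 2 * q ^ 10 + 2 * q ^ 9 +
      3 * q ^ 8 + 2 * q ^ 7 + 2 * q ^ 6 + 2 * q ^ 5 + 2 * q ^ 4 + q ^ 3 + q ^ 2 + q + 1) := by
  rw [orbN_list _ q lat7.1]
  simp only [List.map_cons, List.map_nil, List.sum_cons, List.sum_nil, pow_zero, pow_one]
  ring

theorem theta_le (q : ℕ) (hq : 2 ≤ q) :
    theta q ≤ (q - 1) * (q ^ 4 + 2 * q ^ 3 + 2 * q ^ 2 + q + 1) := by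
  unfold theta
  split_ifs with h
  · exact Nat.zero_le _
  obtain ⟨r, rfl⟩ : ∃ r, q = r + 3 := ⟨q - 3, by omega⟩
  rw [show r + 3 - 1 = r + 2 from rfl]
  ring_nf
  linarith [Nat.zero_le (r ^ 1), Nat.zero_le (r ^ 2), Nat.zero_le (r ^ 3), Nat.zero_le (r ^ 4), Nat.zero_le (r ^ 5)]

theorem numeric (q : ℕ) (hq : 2 ≤ q) :
    (T5b q ≤ q ^ 8 ∧ T5b q ≤ 2 * orbN T5.dat q) ∧ (T6b q ≤ q ^ 12 ∧ T6b q ≤ 2 * orbN T6.dat q) ∧
      (T7b q ≤ q ^ 18 ∧ T7b q ≤ 2 * orbN T7.dat q) := by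
  have hθ := theta_le q hq
  have h5 : theta q ≤ orbN T5.dat q := by
    refine hθ.trans ?_
    rw [orb5]
    exact Nat.mul_le_mul_left _ (by nlinarith [Nat.zero_le (q ^ 6), Nat.zero_le (q ^ 5)])
  have h56 : T5b q ≤ orbN T6.dat q := by
    rw [T5b, orb6, orb5]
    refine (Nat.add_le_add_left hθ _).trans ?_
    rw [← Nat.mul_add]
    refine Nat.mul_le_mul_left _ ?_
    nlinarith [Nat.zero_le (q ^ 10), Nat.zero_le (q ^ 9), Nat.zero_le (q ^ 8), Nat.zero_le (q ^ 7),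
      Nat.pow_le_pow_right (by omega : 0 < q) (show 4 ≤ 7 by norm_num),
      Nat.pow_le_pow_right (by omega : 0 < q) (show 3 ≤ 7 by norm_num),
      Nat.pow_le_pow_right (by omega : 0 < q) (show 2 ≤ 8 by norm_num),
      Nat.pow_le_pow_right (by omega : 0 < q) (show 2 ≤ 9 by norm_num),
      Nat.pow_le_pow_right (by omega : 0 < q) (show 1 ≤ 6 by norm_num),
      Nat.pow_le_pow_right (by omega : 0 < q) (show 0 ≤ 10 by norm_num)]
  have h67 : T6b q ≤ orbN T7.dat q := by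
    refine (Nat.add_le_add_left h56 _).trans ?_
    rw [orb6, orb7, ← Nat.mul_add]
    refine Nat.mul_le_mul_left _ ?_
    obtain ⟨r, rfl⟩ : ∃ r, q = r + 2 := ⟨q - 2, by omega⟩
    ring_nf
    linarith [Nat.zero_le (r ^ 1), Nat.zero_le (r ^ 2), Nat.zero_le (r ^ 3), Nat.zero_le (r ^ 4), Nat.zero_le (r ^ 5), Nat.zero_le (r ^ 6), Nat.zero_le (r ^ 7), Nat.zero_le (r ^ 8), Nat.zero_le (r ^ 9), Nat.zero_le (r ^ 10), Nat.zero_le (r ^ 11), Nat.zero_le (r ^ 12), Nat.zero_le (r ^ 13), Nat.zero_le (r ^ 14), Nat.zero_le (r ^ 15), Nat.zero_le (r ^ 16)]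
  have b5 : T5b q ≤ q ^ 8 := by
    rw [T5b, orb5]
    refine (Nat.add_le_add_left hθ _).trans ?_
    rw [← Nat.mul_add]
    obtain ⟨r, rfl⟩ : ∃ r, q = r + 2 := ⟨q - 2, by omega⟩
    rw [show r + 2 - 1 = r + 1 from rfl]
    ring_nf
    linarith [Nat.zero_le (r ^ 1), Nat.zero_le (r ^ 2), Nat.zero_le (r ^ 3), Nat.zero_le (r ^ 4), Nat.zero_le (r ^ 5), Nat.zero_le (r ^ 6), Nat.zero_le (r ^ 7), Nat.zero_le (r ^ 8)]
  have b6 : T6b q ≤ q ^ 12 := by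
    rw [T6b, T5b, orb6, orb5]
    refine (Nat.add_le_add_left (Nat.add_le_add_left hθ _) _).trans ?_
    simp only [← Nat.mul_add]
    obtain ⟨r, rfl⟩ : ∃ r, q = r + 2 := ⟨q - 2, by omega⟩
    rw [show r + 2 - 1 = r + 1 from rfl]
    ring_nf
    linarith [Nat.zero_le (r ^ 1), Nat.zero_le (r ^ 2), Nat.zero_le (r ^ 3), Nat.zero_le (r ^ 4), Nat.zero_le (r ^ 5), Nat.zero_le (r ^ 6), Nat.zero_le (r ^ 7), Nat.zero_le (r ^ 8), Nat.zero_le (r ^ 9), Nat.zero_le (r ^ 10), Nat.zero_le (r ^ 11), Nat.zero_le (r ^ 12)]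
  have b7 : T7b q ≤ q ^ 18 := by
    rw [T7b, T6b, T5b, orb7, orb6, orb5]
    refine (Nat.add_le_add_left (Nat.add_le_add_left (Nat.add_le_add_left hθ _) _) _).trans ?_
    simp only [← Nat.mul_add]
    obtain ⟨r, rfl⟩ : ∃ r, q = r + 2 := ⟨q - 2, by omega⟩
    rw [show r + 2 - 1 = r + 1 from rfl]
    ring_nf
    linarith [Nat.zero_le (r ^ 1), Nat.zero_le (r ^ 2), Nat.zero_le (r ^ 3), Nat.zero_le (r ^ 4), Nat.zero_le (r ^ 5), Nat.zero_le (r ^ 6), Nat.zero_le (r ^ 7), Nat.zero_le (r ^ 8), Nat.zero_le (r ^ 9), Nat.zero_le (r ^ 10), Nat.zero_le (r ^ 11), Nat.zero_le (r ^ 12), Nat.zero_le (r ^ 13), Nat.zero_le (r ^ 14), Nat.zero_le (r ^ 15), Nat.zero_le (r ^ 16), Nat.zero_le (r ^ 17), Nat.zero_le (r ^ 18)]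
  refine ⟨⟨b5, ?_⟩, ⟨b6, ?_⟩, b7, ?_⟩
  · unfold T5b; omega
  · unfold T6b; omega
  · unfold T7b; omega

theorem count5 (q : ℕ) (hq : 2 ≤ q) :
    (q - 1) * ∑ μ, (if Src T5.dat T5.al μ then q ^ T5.dat.lat μ else 0) ≠
      q ^ (T5.dat.lat 0 + 1) := by
  rw [srcN_list _ _ q lat5.2]
  simp only [List.map_cons, List.map_nil, List.sum_cons, List.sum_nil,
    show T5.dat.lat 0 = 6 by decide +kernel, show T5.dat.lat 1 = 5 by decide +kernel,
    show T5.dat.lat 3 = 4 by decide +kernel]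
  obtain ⟨r, rfl⟩ : ∃ r, q = r + 1 := ⟨q - 1, by omega⟩
  rw [Nat.add_sub_cancel]
  intro h
  have e : r * ((r + 1) ^ 6 + ((r + 1) ^ 5 + ((r + 1) ^ 4 + 0))) + (r + 1) ^ 4 = (r + 1) ^ (6 + 1) := by ring
  have := Nat.one_le_pow 4 (r + 1) (by omega)
  omega

theorem count6 (q : ℕ) (hq : 2 ≤ q) :
    (q - 1) * ∑ μ, (if Src T6.dat T6.al μ then q ^ T6.dat.lat μ else 0) ≠
      q ^ (T6.dat.lat 0 + 1) := by
  rw [srcN_list _ _ q lat6.2]
  simp only [List.map_cons, List.map_nil, List.sum_cons, List.sum_nil,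
    show T6.dat.lat 0 = 10 by decide +kernel, show T6.dat.lat 1 = 9 by decide +kernel,
    show T6.dat.lat 2 = 8 by decide +kernel, show T6.dat.lat 4 = 7 by decide +kernel]
  obtain ⟨r, rfl⟩ : ∃ r, q = r + 1 := ⟨q - 1, by omega⟩
  rw [Nat.add_sub_cancel]
  intro h
  have e : r * ((r + 1) ^ 10 + ((r + 1) ^ 9 + ((r + 1) ^ 8 + ((r + 1) ^ 7 + 0)))) + (r + 1) ^ 7 = (r + 1) ^ (10 + 1) := by ring
  have := Nat.one_le_pow 7 (r + 1) (by omega)
  omega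

theorem count7 (q : ℕ) (hq : 2 ≤ q) :
    (q - 1) * ∑ μ, (if Src T7.dat T7.al μ then q ^ T7.dat.lat μ else 0) ≠
      q ^ (T7.dat.lat 0 + 1) := by
  rw [srcN_list _ _ q lat7.2]
  simp only [List.map_cons, List.map_nil, List.sum_cons, List.sum_nil,
    show T7.dat.lat 0 = 16 by decide +kernel, show T7.dat.lat 1 = 15 by decide +kernel,
    show T7.dat.lat 2 = 14 by decide +kernel, show T7.dat.lat 3 = 13 by decide +kernel,
    show T7.dat.lat 4 = 12 by decide +kernel, show T7.dat.lat 6 = 11 by decide +kernel]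
  obtain ⟨r, rfl⟩ : ∃ r, q = r + 1 := ⟨q - 1, by omega⟩
  rw [Nat.add_sub_cancel]
  intro h
  have e : r * ((r + 1) ^ 16 + ((r + 1) ^ 15 + ((r + 1) ^ 14 + ((r + 1) ^ 13 + ((r + 1) ^ 12 + ((r + 1) ^ 11 + 0)))))) + (r + 1) ^ 11 = (r + 1) ^ (16 + 1) := by ring
  have := Nat.one_le_pow 11 (r + 1) (by omega)
  omega

theorem chk_torus : (chevE8.cartan 0 (T5.dat.R 5) = -1 ∧ chevE8.cartan 1 (T5.dat.R 5) = -1) ∧
    chevE8.cartan 0 144 = 0 ∧ chevE8.cartan 1 144 = 1 := by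
  decide +kernel

/-- The level `D₅`. -/
theorem level5 {m : ℕ} {y : Fin m → ℕ} (hB : Base ρ P y)
    (hsub : (∀ δ, Has y (T5.dat.yr δ)) ∧ (∀ i, Has y (T5.dat.R i)) ∧
      ∀ i ∈ T5.word, Has y (chevE8.simple i) ∧ Has y (chevE8.neg (chevE8.simple i)))
    (hne : ∃ t, ρ (xx (T5.dat.R 0) t) * P ≠ P) :
    ∃ D : ℕ, tr P = (D : ℂ) ∧ T5b (Fintype.card F) ≤ D := by
  classical
  obtain ⟨hy, hR, hw⟩ := hsub
  have hS := hB.setup T5.good T5.ops hy hR T5.swap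
  have hq : 2 ≤ Fintype.card F := Fintype.one_lt_card
  obtain ⟨⟨hbig, hdbl⟩, -, -⟩ := numeric (Fintype.card F) hq
  obtain ⟨t₀, ht₀⟩ := hne
  refine step hS ⟨0, t₀, ht₀⟩ hbig hdbl fun hd => ?_
  unfold T5b
  refine Nat.add_le_add_left ?_ _
  by_cases h2 : Fintype.card F = 2
  · rw [theta, if_pos h2]
    exact Nat.zero_le _
  rw [theta, if_neg h2]
  obtain ⟨u, hu⟩ : ∃ u : Fˣ, u ≠ 1 := by
    by_contra hc
    push Not at hc
    have hsub : Subsingleton Fˣ := ⟨fun a b => (hc a).trans (hc b).symm⟩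
    have := Fintype.card_units (α := F)
    rw [Fintype.card_eq_one_iff.2 ⟨1, hc⟩] at this
    omega
  have hword : Commute (ρ (nn T5.word)) P := hB.word hw
  obtain ⟨c, hc, hconj⟩ := nn_conj (F := F) T5.word (T5.root_lt.2 T5.al) T5.word_spec
  have hfix : ∀ μ, ¬ Src T5.dat T5.al μ → ∀ a : F, a ≠ 0 → ∀ t : F,
      ρ (xx (T5.dat.yr T5.al) t) * pp ρ P T5.dat.R (Pi.single μ a) =
        pp ρ P T5.dat.R (Pi.single μ a) := by
    intro μ hμ a ha t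
    have hd1 : dd ρ P T5.dat.R (Pi.single μ a) = 1 := by
      rw [← hd.1 ⟨μ, ⟨a, ha⟩, 0⟩]
      congr 1
      exact (pt_zero _ _ _).symm
    by_cases h5 : μ.1 = 5
    · obtain rfl : μ = 5 := Fin.ext h5
      refine fix_torus hS T5.root_lt.1 hd1 (fun x hx => hμ ⟨x, hx⟩) (T5.root_lt.2 _)
        (c := Pi.mulSingle ⟨0, by decide +kernel⟩ u⁻¹ * Pi.mulSingle ⟨1, by decide +kernel⟩ u)
        (hB.tor _) ?_ ?_ t
      · rw [chiU_mul, chiU_single, chiU_single, chk_torus.1.1, chk_torus.1.2]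
        simp
      · rw [chiU_mul, chiU_single, chiU_single, chk_top_roots.1, chk_torus.2.1, chk_torus.2.2]
        simpa using hu
    · obtain ⟨g1, g2, g3⟩ := T5.gam μ hμ h5
      rcases g3 with g3 | g3
      · exact fix_commutator hS hd1 (Or.inl rfl) g1 g2 g3 t
      · exact fix_commutator hS hd1 (Or.inr rfl) g1 g2 g3 t
  obtain ⟨t₁, ht₁⟩ := child_nontrivial hS hd (o := 0) rfl T5.com hfix hc hword hconj
    (count5 _ hq)
  rw [chk_top_roots.1] at ht₁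
  obtain ⟨D, hD, hθ⟩ := bottom (hS.fam.pp_sq 0)
    (fun i j hij a => (hB.child hS T5.root_lt.1).has (chk5 i j hij) _) ⟨t₁, ht₁⟩
  rw [hS.fam.tr_pp] at hD
  obtain rfl : dd ρ P T5.dat.R 0 = D := by exact_mod_cast hD
  refine le_trans ?_ hθ
  rw [Nat.le_div_iff_mul_le (by omega)]
  obtain ⟨r, hr⟩ : ∃ r, Fintype.card F = r + 1 := ⟨Fintype.card F - 1, by omega⟩
  rw [hr, Nat.add_sub_cancel]
  refine Nat.le_sub_of_add_le ?_
  ring_nf
  omega

/-- The level `E₆`. -/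
theorem level6 {m : ℕ} {y : Fin m → ℕ} (hB : Base ρ P y)
    (hsub : (∀ δ, Has y (T6.dat.yr δ)) ∧ (∀ i, Has y (T6.dat.R i)) ∧
      ∀ i ∈ T6.word, Has y (chevE8.simple i) ∧ Has y (chevE8.neg (chevE8.simple i)))
    (hne : ∃ t, ρ (xx (T6.dat.R 0) t) * P ≠ P) :
    ∃ D : ℕ, tr P = (D : ℂ) ∧ T6b (Fintype.card F) ≤ D := by
  obtain ⟨hy, hR, hw⟩ := hsub
  have hS := hB.setup T6.good T6.ops hy hR T6.swap
  have hq : 2 ≤ Fintype.card F := Fintype.one_lt_card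
  obtain ⟨-, ⟨hbig, hdbl⟩, -⟩ := numeric (Fintype.card F) hq
  obtain ⟨t₀, ht₀⟩ := hne
  refine step hS ⟨0, t₀, ht₀⟩ hbig hdbl fun hd => ?_
  obtain ⟨c, hc, hconj⟩ := nn_conj (F := F) T6.word (T6.root_lt.2 T6.al) T6.word_spec
  obtain ⟨t₁, ht₁⟩ := child_nontrivial hS hd (o := 0) rfl T6.com
    (fun μ hμ a ha t => by
      have hd1 : dd ρ P T6.dat.R (Pi.single μ a) = 1 := by
        rw [← hd.1 ⟨μ, ⟨a, ha⟩, 0⟩, pt_zero]
      obtain ⟨g1, g2, g3⟩ := T6.gam μ hμ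
      rcases g3 with g3 | g3
      · exact fix_commutator hS hd1 (Or.inl rfl) g1 g2 g3 t
      · exact fix_commutator hS hd1 (Or.inr rfl) g1 g2 g3 t)
    hc (hB.word hw) hconj (count6 _ hq)
  rw [chk_top_roots.2.1] at ht₁
  obtain ⟨D, hD, hT⟩ := level5 (hB.child hS T6.root_lt.1) chk6 ⟨t₁, ht₁⟩
  rw [hS.fam.tr_pp] at hD
  obtain rfl : dd ρ P T6.dat.R 0 = D := by exact_mod_cast hD
  unfold T6b
  omega

/-- The level `E₇`. -/
theorem level7 {m : ℕ} {y : Fin m → ℕ} (hB : Base ρ P y)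
    (hsub : (∀ δ, Has y (T7.dat.yr δ)) ∧ (∀ i, Has y (T7.dat.R i)) ∧
      ∀ i ∈ T7.word, Has y (chevE8.simple i) ∧ Has y (chevE8.neg (chevE8.simple i)))
    (hne : ∃ t, ρ (xx (T7.dat.R 0) t) * P ≠ P) :
    ∃ D : ℕ, tr P = (D : ℂ) ∧ T7b (Fintype.card F) ≤ D := by
  obtain ⟨hy, hR, hw⟩ := hsub
  have hS := hB.setup T7.good T7.ops hy hR T7.swap
  have hq : 2 ≤ Fintype.card F := Fintype.one_lt_card
  obtain ⟨-, -, ⟨hbig, hdbl⟩⟩ := numeric (Fintype.card F) hq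
  obtain ⟨t₀, ht₀⟩ := hne
  refine step hS ⟨0, t₀, ht₀⟩ hbig hdbl fun hd => ?_
  obtain ⟨c, hc, hconj⟩ := nn_conj (F := F) T7.word (T7.root_lt.2 T7.al) T7.word_spec
  obtain ⟨t₁, ht₁⟩ := child_nontrivial hS hd (o := 0) rfl T7.com
    (fun μ hμ a ha t => by
      have hd1 : dd ρ P T7.dat.R (Pi.single μ a) = 1 := by
        rw [← hd.1 ⟨μ, ⟨a, ha⟩, 0⟩, pt_zero]
      obtain ⟨g1, g2, g3⟩ := T7.gam μ hμ
      rcases g3 with g3 | g3
      · exact fix_commutator hS hd1 (Or.inl rfl) g1 g2 g3 t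
      · exact fix_commutator hS hd1 (Or.inr rfl) g1 g2 g3 t)
    hc (hB.word hw) hconj (count7 _ hq)
  rw [chk_top_roots.2.2] at ht₁
  obtain ⟨D, hD, hT⟩ := level6 (hB.child hS T7.root_lt.1) chk7 ⟨t₁, ht₁⟩
  rw [hS.fam.tr_pp] at hD
  obtain rfl : dd ρ P T7.dat.R 0 = D := by exact_mod_cast hD
  unfold T7b
  omega

end Cfsg.Agent.E8Deg
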