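import Cfsg.Agent.E8Deg.Orbit

/-!
Levels given by tables.
-/

set_option autoImplicit false

namespace Cfsg.Agent.E8Deg

/-- A number below a bound. -/
def toFin (n : ℕ) [NeZero n] (x : ℕ) : Fin n := ⟨x % n, Nat.mod_lt _ (Nat.pos_of_ne_zero (NeZero.ne n))⟩

/-- A pair from its code. -/
def toPair (n nY : ℕ) [NeZero n] [NeZero nY] (x : ℕ) : Fin n × Fin nY :=
  (toFin n (x / 1000), toFin nY (x % 1000))

/-- The entry of a packed table with given width and row length. -/
def entry (T w m i j : ℕ) : ℕ := Nat.shiftRight T (w * (i * m + j)) % 2 ^ w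

/-- The level of the given tables. -/
def mkData {n n1 nY : ℕ} [NeZero n] [NeZero nY] (rT yT tgT nbT maskT secT jumpT : ℕ) :
    LData n n1 nY where
  R i := entry rT 8 n 0 i.1
  yr δ := entry yT 8 nY 0 δ.1
  tg δ j :=
    let z := entry tgT 8 n δ.1 j.1
    if z = 0 then none else some (toFin n (z / 2 - 1), if z % 2 = 0 then 1 else -1)
  nb μ k := toPair n nY (entry nbT 20 n1 μ.1 k.1)
  mask μ := entry maskT 64 n 0 μ.1
  sec μ w :=
    let z := entry secT 40 n μ.1 w.1
    (toPair n nY (z / 1000000), toPair n nY (z % 1000000))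
  jump μ w :=
    let z := entry jumpT 20 n μ.1 w.1
    if z = 0 then none else some (toPair n nY (z - 1))

/-- A commutator pair from its code. -/
def gamPair (nY : ℕ) [NeZero nY] (T : List ℕ) (μ : ℕ) : Fin nY × Fin nY :=
  let z := T.getD μ 0 - 1
  (toFin nY (z / 1000), toFin nY (z % 1000))

end Cfsg.Agent.E8Deg
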