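import Mathlib.Algebra.Field.Defs
import Mathlib.Tactic

/-!
The small orbit on the characters of an abelian radical, and a bound for every other invariant set.
-/

set_option autoImplicit false

namespace Cfsg.Agent.E8Deg

universe u

/-- Bounded quantifiers over an option are decided on the option. -/
instance (priority := 10000) decForallOpt {α : Type*} (o : Option α) (p : α → Prop)
    [DecidablePred p] : Decidable (∀ a ∈ o, p a) :=
  match o with
  | none => .isTrue (by simp)
  | some a => decidable_of_iff (p a) (by simp)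

/-- Bounded existence over an option is decided on the option. -/
instance (priority := 10000) decExistsOpt {α : Type*} (o : Option α) (p : α → Prop)
    [DecidablePred p] : Decidable (∃ a ∈ o, p a) :=
  match o with
  | none => .isFalse (by simp)
  | some a => decidable_of_iff (p a) (by simp)

/-- The combinatorial data of a level. -/
structure LData (n n1 nY : ℕ) where
  /-- The roots of the radical. -/
  R : Fin n → ℕ
  /-- The roots of the Levi subgroup. -/
  yr : Fin nY → ℕ
  /-- The effect of a root of the Levi subgroup on a coordinate. -/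
  tg : Fin nY → Fin n → Option (Fin n × ℤ)
  /-- The neighbours of a coordinate, with their translations. -/
  nb : Fin n → Fin n1 → Fin n × Fin nY
  /-- The set of neighbours of a coordinate, as a bit mask. -/
  mask : Fin n → ℕ
  /-- Two second translations. -/
  sec : Fin n → Fin n → (Fin n × Fin nY) × (Fin n × Fin nY)
  /-- A preliminary translation. -/
  jump : Fin n → Fin n → Option (Fin n × Fin nY)

namespace LData

variable {n n1 nY : ℕ} (L : LData n n1 nY)

/-- The coordinate met by a translation. -/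
def dst (δ : Fin nY) (x : Fin n) : Option (Fin n) := (L.tg δ x).map Prod.fst

/-- Neighbours. -/
def IsNb (μ x : Fin n) : Prop := (L.mask μ).testBit x.1 = true

instance (μ x : Fin n) : Decidable (L.IsNb μ x) := by unfold IsNb; infer_instance

/-- Coordinates away from a given one. -/
def Far (μ x : Fin n) : Prop := x ≠ μ ∧ ¬ L.IsNb μ x

instance (μ x : Fin n) : Decidable (L.Far μ x) := by unfold Far; infer_instance

/-- A translation keeping the normal form. -/
def Keep (μ : Fin n) (δ : Fin nY) : Prop :=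
  (∀ m ∈ L.dst δ μ, L.IsNb μ m) ∧ ∀ k, ∀ m ∈ L.dst δ (L.nb μ k).1, L.IsNb μ m

instance (μ : Fin n) (δ : Fin nY) : Decidable (L.Keep μ δ) := by unfold Keep; infer_instance

/-- The second translations are independent. -/
def SecOK (μ w : Fin n) : Prop :=
  L.Keep μ (L.sec μ w).1.2 ∧ L.Keep μ (L.sec μ w).2.2 ∧ (L.sec μ w).1.1 ≠ (L.sec μ w).2.1 ∧
  L.dst (L.sec μ w).1.2 (L.sec μ w).1.1 = some w ∧ L.dst (L.sec μ w).2.2 (L.sec μ w).2.1 = some w ∧
  L.dst (L.sec μ w).1.2 (L.sec μ w).2.1 = none ∧ L.dst (L.sec μ w).2.2 (L.sec μ w).1.1 = none ∧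
  L.dst (L.sec μ w).2.2 w = none

instance (μ w : Fin n) : Decidable (L.SecOK μ w) := by unfold SecOK; infer_instance

/-- A coordinate known to vanish in the remaining case. -/
def Null (μ m : Fin n) : Prop := L.IsNb μ m ∨ (L.Far μ m ∧ L.SecOK μ m)

instance (μ m : Fin n) : Decidable (L.Null μ m) := by unfold Null; infer_instance

/-- A translation out of the remaining case. -/
def Jumps (μ : Fin n) (δ : Fin nY) : Prop :=
  (∀ m ∈ L.dst δ μ, L.Null μ m) ∧ ∀ k, ∀ m ∈ L.dst δ (L.nb μ k).1, L.Null μ m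

instance (μ : Fin n) (δ : Fin nY) : Decidable (L.Jumps μ δ) := by unfold Jumps; infer_instance

/-- The conditions on the translations. -/
structure Good : Prop where
  pos : 0 < n1
  nb_mask : ∀ μ k, L.IsNb μ (L.nb μ k).1
  mask_nb : ∀ μ x, L.IsNb μ x → ∃ k, (L.nb μ k).1 = x
  sign : ∀ δ x, ∀ p ∈ L.tg δ x, p.2 = 1 ∨ p.2 = -1
  twice : ∀ δ x, ∀ m ∈ L.dst δ x, L.dst δ m = none
  nb_tgt : ∀ μ k, L.dst (L.nb μ k).2 (L.nb μ k).1 = some μ ∧ L.dst (L.nb μ k).2 μ = none
  nb_ind : ∀ μ k k', k ≠ k' → L.dst (L.nb μ k).2 (L.nb μ k').1 = none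
  nb_zero : ∀ μ k, μ < (L.nb μ k).1 → ∀ x, x < μ → ∀ m ∈ L.dst (L.nb μ k).2 x, m < μ
  nb_src : ∀ μ k x, L.dst (L.nb μ k).2 x ≠ some (L.nb μ k).1
  nb_uni : ∀ μ k x, L.dst (L.nb μ k).2 x = some μ → x = (L.nb μ k).1
  rev : ∀ μ k, ∃ k', (L.nb (L.nb μ k).1 k').1 = μ
  down : ∀ μ : Fin n, μ.1 ≠ 0 → ∃ k, (L.nb μ k).1 < μ
  second : ∀ μ w, L.Far μ w → L.SecOK μ w ∨
    ∃ p ∈ L.jump μ w, L.Far μ p.1 ∧ L.Jumps μ p.2 ∧ L.dst p.2 p.1 = some w ∧ L.SecOK μ p.1

variable {F : Type u} [Field F]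

/-- The transformed coordinates. -/
def op (δ : Fin nY) (t : F) (B : Fin n → F) (x : Fin n) : F :=
  B x + match L.tg δ x with
    | none => 0
    | some (m, s) => t * (s : F) * B m

/-- The sign of a translation. -/
def sg (δ : Fin nY) (x : Fin n) : F := ((((L.tg δ x).map Prod.snd).getD 1 : ℤ) : F)

theorem op_none {δ : Fin nY} {x : Fin n} (h : L.dst δ x = none) (t : F) (B : Fin n → F) :
    L.op δ t B x = B x := by
  simp only [dst, Option.map_eq_none_iff] at h
  simp [op, h]

theorem op_some {δ : Fin nY} {x m : Fin n} (h : L.dst δ x = some m) (t : F) (B : Fin n → F) :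
    L.op δ t B x = B x + t * L.sg δ x * B m := by
  simp only [dst, Option.map_eq_some_iff] at h
  obtain ⟨⟨m', s⟩, h1, rfl⟩ := h
  simp [op, sg, h1]

theorem op_of_zero {δ : Fin nY} {x : Fin n} {t : F} {B : Fin n → F}
    (h : ∀ m ∈ L.dst δ x, B m = 0) : L.op δ t B x = B x := by
  cases e : L.dst δ x with
  | none => exact L.op_none e t B
  | some m => rw [L.op_some e, h m e, mul_zero, add_zero]

variable {L}

theorem Good.sg_ne (hL : L.Good) (δ : Fin nY) (x : Fin n) : (L.sg δ x : F) ≠ 0 := by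
  unfold sg
  cases e : L.tg δ x with
  | none => simp
  | some p => rcases hL.sign δ x p e with h | h <;> simp [h]

theorem Good.op_neg (hL : L.Good) (δ : Fin nY) (t : F) (B : Fin n → F) :
    L.op δ (-t) (L.op δ t B) = B := by
  funext x
  cases e : L.dst δ x with
  | none => rw [L.op_none e, L.op_none e]
  | some m => rw [L.op_some e, L.op_some e, L.op_none (hL.twice δ x m e)]; ring

theorem Good.op_inj (hL : L.Good) (δ : Fin nY) (t : F) : Function.Injective (L.op δ t) :=
  fun a b h => by rw [← hL.op_neg δ t a, h, hL.op_neg]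

theorem op_zero_vec (δ : Fin nY) (t : F) : L.op δ t (0 : Fin n → F) = 0 :=
  funext fun x => L.op_of_zero fun _ _ => rfl

/-- The composite of translations at a coordinate. -/
def trv (L : LData n n1 nY) (μ : Fin n) (t : Fin n1 → F) (l : List (Fin n1)) (B : Fin n → F) :
    Fin n → F :=
  l.foldr (fun k B => L.op (L.nb μ k).2 (t k) B) B

theorem trv_cons (μ : Fin n) (t : Fin n1 → F) (k : Fin n1) (l : List (Fin n1)) (B : Fin n → F) :
    L.trv μ t (k :: l) B = L.op (L.nb μ k).2 (t k) (L.trv μ t l B) := rfl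

theorem Good.trv_neg (hL : L.Good) (μ : Fin n) (t : Fin n1 → F) :
    ∀ (l : List (Fin n1)) (B : Fin n → F), L.trv μ (-t) l.reverse (L.trv μ t l B) = B
  | [], _ => rfl
  | k :: l, B => by
    rw [List.reverse_cons, trv, List.foldr_append, List.foldr_cons, List.foldr_nil, ← trv, trv_cons,
      Pi.neg_apply, hL.op_neg]
    exact hL.trv_neg μ t l B

theorem Good.trv_inj (hL : L.Good) (μ : Fin n) (t : Fin n1 → F) (l : List (Fin n1)) :
    Function.Injective (L.trv μ t l) :=
  fun a b h => by rw [← hL.trv_neg μ t l a, h, hL.trv_neg]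

theorem Good.trv_mu (hL : L.Good) (μ : Fin n) (t : Fin n1 → F) (B : Fin n → F) :
    ∀ l : List (Fin n1), L.trv μ t l B μ = B μ
  | [] => rfl
  | k :: l => by rw [trv_cons, L.op_none (hL.nb_tgt μ k).2, hL.trv_mu μ t B l]

theorem Good.trv_nb (hL : L.Good) (μ : Fin n) (t : Fin n1 → F) (B : Fin n → F) (k' : Fin n1) :
    ∀ l : List (Fin n1), l.Nodup → L.trv μ t l B (L.nb μ k').1 = B (L.nb μ k').1 +
      if k' ∈ l then t k' * L.sg (L.nb μ k').2 (L.nb μ k').1 * B μ else 0
  | [], _ => by simp [trv]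
  | k :: l, h => by
    rw [List.nodup_cons] at h
    rw [trv_cons]
    by_cases hk : k = k'
    · subst hk
      rw [L.op_some (hL.nb_tgt μ k).1, hL.trv_nb μ t B k l h.2, if_neg h.1,
        if_pos List.mem_cons_self, hL.trv_mu, add_zero]
    · rw [L.op_none (hL.nb_ind μ k k' hk), hL.trv_nb μ t B k' l h.2]
      simp [List.mem_cons, Ne.symm hk]

theorem Good.trv_low (hL : L.Good) (μ : Fin n) (t : Fin n1 → F) (B : Fin n → F)
    (hB : ∀ x, x < μ → B x = 0) :
    ∀ l : List (Fin n1), (∀ k ∈ l, μ < (L.nb μ k).1) → ∀ x, x < μ → L.trv μ t l B x = 0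
  | [], _, x, hx => hB x hx
  | k :: l, h, x, hx => by
    rw [trv_cons, L.op_of_zero fun m hm => hL.trv_low μ t B hB l
        (fun j hj => h j (List.mem_cons_of_mem _ hj)) m (hL.nb_zero μ k (h k List.mem_cons_self) x hx m hm),
      hL.trv_low μ t B hB l (fun j hj => h j (List.mem_cons_of_mem _ hj)) x hx]

/-- The later neighbours. -/
def late (L : LData n n1 nY) (μ : Fin n) : Finset (Fin n1) :=
  Finset.univ.filter fun k => μ < (L.nb μ k).1

/-- Their number. -/
def lat (L : LData n n1 nY) (μ : Fin n) : ℕ := (L.late μ).card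

/-- The parameters of the small orbit. -/
abbrev Par (L : LData n n1 nY) (F : Type u) [Field F] :=
  Σ μ : Fin n, {a : F // a ≠ 0} × (↥(L.late μ) → F)

/-- The extension of a parameter by zero. -/
def ext (L : LData n n1 nY) (μ : Fin n) (t : ↥(L.late μ) → F) (k : Fin n1) : F :=
  if h : k ∈ L.late μ then t ⟨k, h⟩ else 0

/-- The point of a parameter. -/
noncomputable def pt (L : LData n n1 nY) (p : L.Par F) : Fin n → F :=
  L.trv p.1 (L.ext p.1 p.2.2) (L.late p.1).toList (Pi.single p.1 p.2.1.1)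

theorem mem_late {μ : Fin n} {k : Fin n1} : k ∈ L.late μ ↔ μ < (L.nb μ k).1 := by simp [late]

theorem Good.nb_ne (hL : L.Good) (μ : Fin n) (k : Fin n1) : (L.nb μ k).1 ≠ μ := fun h => by
  have h1 := (hL.nb_tgt μ k).1
  rw [h, (hL.nb_tgt μ k).2] at h1
  cases h1

theorem Good.pt_mu (hL : L.Good) (p : L.Par F) : L.pt p p.1 = p.2.1.1 := by
  rw [pt, hL.trv_mu, Pi.single_eq_same]

theorem Good.pt_low (hL : L.Good) (p : L.Par F) {x : Fin n} (hx : x < p.1) : L.pt p x = 0 :=
  hL.trv_low p.1 _ _ (fun y hy => Pi.single_eq_of_ne hy.ne _) _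
    (fun k hk => mem_late.1 (Finset.mem_toList.1 hk)) x hx

theorem Good.pt_ne (hL : L.Good) (p : L.Par F) : L.pt p ≠ 0 := fun h =>
  p.2.1.2 (by rw [← hL.pt_mu p, h]; rfl)

theorem Good.pt_inj (hL : L.Good) : Function.Injective (L.pt : L.Par F → Fin n → F) := by
  rintro ⟨μ, a, t⟩ ⟨ν, b, u⟩ h
  have hμν : μ = ν := by
    rcases lt_trichotomy μ ν with hlt | heq | hgt
    · have := hL.pt_low (F := F) ⟨ν, b, u⟩ hlt
      rw [← h, hL.pt_mu] at this
      exact absurd this a.2
    · exact heq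
    · have := hL.pt_low (F := F) ⟨μ, a, t⟩ hgt
      rw [h, hL.pt_mu] at this
      exact absurd this b.2
  subst hμν
  have hab : a = b := Subtype.ext (by
    have := congrFun h μ
    rwa [hL.pt_mu ⟨μ, a, t⟩, hL.pt_mu ⟨μ, b, u⟩] at this)
  subst hab
  have htu : t = u := funext fun k => by
    have := congrFun h (L.nb μ k.1).1
    simp only [pt, hL.trv_nb μ _ _ k.1 _ (Finset.nodup_toList _), if_pos (Finset.mem_toList.2 k.2),
      Pi.single_eq_same, add_right_inj] at this
    have h2 := mul_right_cancel₀ (hL.sg_ne _ _) (mul_right_cancel₀ a.2 this)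
    simpa [ext, k.2] using h2
  rw [htu]

/-- Closed under the translations. -/
def Closed (L : LData n n1 nY) (S : Set (Fin n → F)) : Prop :=
  ∀ δ t, ∀ B ∈ S, L.op δ t B ∈ S

theorem Closed.trv {S : Set (Fin n → F)} (hS : L.Closed S) (μ : Fin n) (t : Fin n1 → F) :
    ∀ l : List (Fin n1), ∀ B ∈ S, L.trv μ t l B ∈ S
  | [], _, h => h
  | k :: l, B, h => hS _ _ _ (Closed.trv hS μ t l B h)

/-- From one coordinate vector to a neighbouring one. -/
theorem Good.move (hL : L.Good) {S : Set (Fin n → F)} (hS : L.Closed S) {μ : Fin n} {k : Fin n1}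
    {a b : F} (ha : a ≠ 0) (hb : b ≠ 0) (h : Pi.single μ a ∈ S) :
    Pi.single (L.nb μ k).1 b ∈ S := by
  classical
  set i := (L.nb μ k).1 with hi
  set δ := (L.nb μ k).2 with hδ
  obtain ⟨k', hk'⟩ := hL.rev μ k
  set δ' := (L.nb i k').2 with hδ'
  set t : F := b / (L.sg δ i * a) with ht
  have hd : L.sg δ i * a ≠ 0 := mul_ne_zero (hL.sg_ne _ _) ha
  have h1 : L.op δ t (Pi.single μ a) = Pi.single μ a + Pi.single i b := by
    funext x
    by_cases hx : x = i
    · subst hx
      rw [L.op_some (hL.nb_tgt μ k).1, Pi.add_apply, Pi.single_eq_same, Pi.single_eq_same,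
        Pi.single_eq_of_ne (hL.nb_ne μ k), ht, mul_assoc, div_mul_cancel₀ _ hd]
    · rw [L.op_of_zero fun m hm => Pi.single_eq_of_ne
          (fun hm' => hx (hL.nb_uni μ k x (by subst hm'; exact hm))) _,
        Pi.add_apply, Pi.single_eq_of_ne hx, add_zero]
  have hd2 : L.sg δ' μ * b ≠ 0 := mul_ne_zero (hL.sg_ne _ _) hb
  have h2 : L.op δ' (-a / (L.sg δ' μ * b)) (Pi.single μ a + Pi.single i b) = Pi.single i b := by
    have hμ : (L.nb i k').1 = μ := hk'
    funext x
    by_cases hx : x = μ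
    · rw [hx]
      have := (hL.nb_tgt i k').1
      rw [hk'] at this
      rw [L.op_some this, Pi.add_apply, Pi.add_apply, Pi.single_eq_same,
        Pi.single_eq_of_ne (hL.nb_ne μ k).symm, Pi.single_eq_same,
        Pi.single_eq_of_ne (hL.nb_ne μ k), zero_add, add_zero, mul_assoc, div_mul_cancel₀ _ hd2,
        add_neg_cancel]
    · rw [L.op_of_zero fun m hm => ?_, Pi.add_apply, Pi.single_eq_of_ne hx, zero_add]
      rw [Pi.add_apply, Pi.single_eq_of_ne, Pi.single_eq_of_ne, add_zero]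
      · intro hm'
        subst hm'
        exact hx ((hL.nb_uni i k' x hm).trans hμ)
      · intro hm'
        subst hm'
        exact hL.nb_src i k' x (by rw [hμ]; exact hm)
  rw [← h2, ← h1]
  exact hS _ _ _ (hS _ _ _ h)

theorem Good.descend (hL : L.Good) {S : Set (Fin n → F)} (hS : L.Closed S) :
    ∀ μ : Fin n, μ.1 ≠ 0 → ∀ a : F, a ≠ 0 → Pi.single μ a ∈ S →
      ∀ z : Fin n, z.1 = 0 → ∀ b : F, b ≠ 0 → Pi.single z b ∈ S := by
  intro μ
  induction μ using WellFoundedLT.induction with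
  | _ μ ih =>
    intro hμ a ha h z hz b hb
    obtain ⟨k, hk⟩ := hL.down μ hμ
    by_cases h0 : (L.nb μ k).1.1 = 0
    · obtain rfl : z = (L.nb μ k).1 := Fin.ext (hz.trans h0.symm)
      exact hL.move hS ha hb h
    · exact ih _ hk h0 1 one_ne_zero (hL.move hS ha one_ne_zero h) z hz b hb

theorem Good.ascend (hL : L.Good) {S : Set (Fin n → F)} (hS : L.Closed S)
    (h : ∀ z : Fin n, z.1 = 0 → ∀ b : F, b ≠ 0 → Pi.single z b ∈ S) :
    ∀ μ : Fin n, ∀ b : F, b ≠ 0 → Pi.single μ b ∈ S := by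
  intro μ
  induction μ using WellFoundedLT.induction with
  | _ μ ih =>
    intro b hb
    by_cases h0 : μ.1 = 0
    · exact h μ h0 b hb
    · obtain ⟨k, hk⟩ := hL.down μ h0
      obtain ⟨k', hk'⟩ := hL.rev μ k
      have := hL.move hS (k := k') one_ne_zero hb (ih _ hk 1 one_ne_zero)
      rwa [hk'] at this

theorem Good.connected (hL : L.Good) {S : Set (Fin n → F)} (hS : L.Closed S) {μ : Fin n} {a : F}
    (ha : a ≠ 0) (h : Pi.single μ a ∈ S) (ν : Fin n) {b : F} (hb : b ≠ 0) :
    Pi.single ν b ∈ S := by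
  refine hL.ascend hS (fun z hz c hc => ?_) ν b hb
  by_cases h0 : μ.1 = 0
  · -- pass through a neighbour
    obtain rfl : z = μ := Fin.ext (hz.trans h0.symm)
    obtain ⟨k', hk'⟩ := hL.rev z ⟨0, hL.pos⟩
    have := hL.move hS (k := k') one_ne_zero hc (hL.move hS (k := ⟨0, hL.pos⟩) ha one_ne_zero h)
    rwa [hk'] at this
  · exact hL.descend hS μ h0 a ha h z hz c hc

variable [Fintype F]

theorem Good.large (hL : L.Good) {S : Set (Fin n → F)} (hS : L.Closed S) {μ w : Fin n}
    {C : Fin n → F} (hC : C ∈ S) (hμ : C μ ≠ 0) (hnb : ∀ k, C (L.nb μ k).1 = 0)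
    (hw : C w ≠ 0) (hsec : L.SecOK μ w) :
    Fintype.card F ^ (n1 + 2) ≤ Nat.card S := by
  classical
  obtain ⟨k1, k2, hne, e1, e2, e12, e21, e2w⟩ := hsec
  set s1 := (L.sec μ w).1 with hs1
  set s2 := (L.sec μ w).2 with hs2
  let D : F → F → (Fin n → F) := fun a b => L.op s1.2 a (L.op s2.2 b C)
  have hkeep : ∀ (δ : Fin nY), L.Keep μ δ → ∀ (t : F) (X : Fin n → F),
      (∀ k, X (L.nb μ k).1 = 0) →
      L.op δ t X μ = X μ ∧ ∀ k, L.op δ t X (L.nb μ k).1 = 0 := by
    intro δ hδ t X hX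
    refine ⟨L.op_of_zero fun m hm => ?_, fun k => ?_⟩
    · obtain ⟨k', hk'⟩ := hL.mask_nb μ m (hδ.1 m hm)
      rw [← hk', hX]
    rw [L.op_of_zero fun m hm => ?_, hX k]
    obtain ⟨k', hk'⟩ := hL.mask_nb μ m (hδ.2 k m hm)
    rw [← hk', hX]
  have hD : ∀ a b, D a b μ = C μ ∧ ∀ k, D a b (L.nb μ k).1 = 0 := fun a b => by
    obtain ⟨p1, p2⟩ := hkeep _ k2 b C hnb
    obtain ⟨q1, q2⟩ := hkeep _ k1 a _ p2
    exact ⟨q1.trans p1, q2⟩
  let g : (Fin n1 → F) × F × F → S := fun x =>
    ⟨L.trv μ x.1 (List.finRange n1) (D x.2.1 x.2.2), hS.trv μ _ _ _ (hS _ _ _ (hS _ _ _ hC))⟩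
  have hg : Function.Injective g := by
    rintro ⟨t, a, b⟩ ⟨t', a', b'⟩ h
    have h' : L.trv μ t (List.finRange n1) (D a b) = L.trv μ t' (List.finRange n1) (D a' b') :=
      congrArg Subtype.val h
    have ht : t = t' := funext fun k => by
      have := congrFun h' (L.nb μ k).1
      simp only [hL.trv_nb μ _ _ k _ (List.nodup_finRange n1), if_pos (List.mem_finRange k),
        (hD a b).1, (hD a' b').1, (hD a b).2, (hD a' b').2, zero_add] at this
      exact mul_right_cancel₀ (hL.sg_ne _ _) (mul_right_cancel₀ hμ this)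
    subst ht
    have hd := hL.trv_inj μ t _ h'
    have h1 : ∀ a b, D a b s1.1 = C s1.1 + a * L.sg s1.2 s1.1 * C w := fun a b => by
      simp only [D]
      rw [L.op_some e1, L.op_none e21, L.op_none e2w]
    have ha : a = a' := by
      have := congrFun hd s1.1
      simp only [h1, add_right_inj] at this
      exact mul_right_cancel₀ (hL.sg_ne _ _) (mul_right_cancel₀ hw this)
    subst ha
    have h2 := congrFun (hL.op_inj _ _ hd) s2.1
    rw [L.op_some e2, L.op_some e2, add_right_inj] at h2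
    rw [mul_right_cancel₀ (hL.sg_ne _ _) (mul_right_cancel₀ hw h2)]
  have h := Nat.card_le_card_of_injective g hg
  simp only [Nat.card_prod, Nat.card_fun, Nat.card_eq_fintype_card (α := F), Nat.card_fin] at h
  calc Fintype.card F ^ (n1 + 2) = Fintype.card F ^ n1 * (Fintype.card F * Fintype.card F) := by
        ring
    _ ≤ Nat.card S := h

/-- A closed set is large or is the small orbit, apart from zero. -/
theorem Good.dichotomy (hL : L.Good) {S : Set (Fin n → F)} (hS : L.Closed S) {B : Fin n → F}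
    (hB : B ∈ S) (hB0 : B ≠ 0) :
    Fintype.card F ^ (n1 + 2) ≤ Nat.card S ∨
      ((∀ C ∈ S, C ≠ 0 → ∃ p, L.pt p = C) ∧ ∀ p, L.pt p ∈ S) := by
  classical
  by_cases hlarge : Fintype.card F ^ (n1 + 2) ≤ Nat.card S
  · exact Or.inl hlarge
  refine Or.inr ?_
  -- every member lies in the orbit
  have key : ∀ C ∈ S, C ≠ 0 → ∃ p, L.pt p = C ∧ Pi.single p.1 p.2.1.1 ∈ S := by
    intro C hC hC0
    obtain ⟨x, hx⟩ := Function.ne_iff.1 hC0
    obtain ⟨μ, hμ, hmin⟩ : ∃ μ, C μ ≠ 0 ∧ ∀ y, y < μ → C y = 0 := by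
      have hne : (Finset.univ.filter fun y => C y ≠ 0).Nonempty := ⟨x, by simpa using hx⟩
      refine ⟨_, (Finset.mem_filter.1 (Finset.min'_mem _ hne)).2, fun y hy => ?_⟩
      by_contra hy0
      exact absurd (Finset.min'_le _ y (by simpa using hy0)) (not_le.2 hy)
    set l := (L.late μ).toList with hl
    set t : ↥(L.late μ) → F :=
      fun k => C (L.nb μ k.1).1 / (L.sg (L.nb μ k.1).2 (L.nb μ k.1).1 * C μ) with ht
    set te := L.ext μ t with hte
    set C' := L.trv μ (-te) l.reverse C with hC'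
    have hnod : l.reverse.Nodup := List.nodup_reverse.2 (Finset.nodup_toList _)
    have hμ' : C' μ = C μ := hL.trv_mu μ _ _ _
    have hnb : ∀ k, C' (L.nb μ k).1 = 0 := fun k => by
      rw [hC', hL.trv_nb μ _ _ k _ hnod]
      by_cases hk : k ∈ L.late μ
      · rw [if_pos (by simpa [hl] using hk), Pi.neg_apply, hte, ext, dif_pos hk, ht]
        simp only [neg_mul, mul_assoc]
        rw [div_mul_cancel₀ _ (mul_ne_zero (hL.sg_ne _ _) hμ), add_neg_cancel]
      · rw [if_neg (by simpa [hl] using hk), add_zero]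
        refine hmin _ (lt_of_le_of_ne (not_lt.1 fun h => hk (mem_late.2 h)) (hL.nb_ne μ k))
    have hmem : C' ∈ S := hS.trv μ _ _ _ hC
    have hnull : ∀ m, L.Null μ m → C' m = 0 := by
      rintro m (hn | ⟨-, hs⟩)
      · obtain ⟨k, rfl⟩ := hL.mask_nb μ m hn
        exact hnb k
      · by_contra hm
        exact hlarge (hL.large hS hmem (hμ'.symm ▸ hμ) hnb hm hs)
    by_cases hfar : ∃ w, L.Far μ w ∧ C' w ≠ 0
    · exfalso
      obtain ⟨w, hw, hw0⟩ := hfar
      rcases hL.second μ w hw with hs | ⟨⟨i0, d0⟩, -, hi0, hk0, he0, hs⟩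
      · exact hlarge (hL.large hS hmem (hμ'.symm ▸ hμ) hnb hw0 hs)
      · refine hlarge (hL.large hS (hS d0 1 _ hmem) ?_ (fun k => ?_) (w := i0) ?_ hs)
        · rw [L.op_of_zero fun m hm => hnull m (hk0.1 m hm), hμ']; exact hμ
        · rw [L.op_of_zero fun m hm => hnull m (hk0.2 k m hm), hnb k]
        · rw [L.op_some he0, hnull i0 (Or.inr ⟨hi0, hs⟩), zero_add, one_mul]
          exact mul_ne_zero (hL.sg_ne _ _) hw0
    · push Not at hfar
      have hsingle : C' = Pi.single μ (C μ) := funext fun y => by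
        by_cases hy : y = μ
        · subst hy; rw [hμ', Pi.single_eq_same]
        · rw [Pi.single_eq_of_ne hy]
          by_cases hn : L.IsNb μ y
          · obtain ⟨k, rfl⟩ := hL.mask_nb μ y hn
            exact hnb k
          · exact hfar y ⟨hy, hn⟩
      refine ⟨⟨μ, ⟨C μ, hμ⟩, t⟩, ?_, hsingle ▸ hmem⟩
      show L.trv μ te l (Pi.single μ (C μ)) = C
      rw [← hsingle, hC']
      have := hL.trv_neg μ (-te) l.reverse C
      rwa [neg_neg, List.reverse_reverse] at this
  refine ⟨fun C hC h0 => (key C hC h0).imp fun _ h => h.1, fun p => ?_⟩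
  obtain ⟨p₀, -, hp₀⟩ := key B hB hB0
  exact hS.trv _ _ _ _ (hL.connected hS p₀.2.1.2 hp₀ p.1 p.2.1.2)

end LData

end Cfsg.Agent.E8Deg
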