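import Cfsg.Agent.E8Deg.Data

/-!
Tables for the level `D5`.
-/

set_option autoImplicit false
set_option maxRecDepth 100000

namespace Cfsg.Agent.E8Deg.T5

/-- The roots of the radical. -/
def rTab : ℕ := 0x878889938a949598999c

/-- The roots of the Levi subgroup. -/
def yTab : ℕ := 0x908f8e8d8483827f7e7b7471706d6c6b6261605f

/-- The effect of the translations. -/
def tgTab : ℕ := 0x90503000000000000000b0700000200000000000f000600040000000000000e0a000800000000000c0000050003000000001000000700000200000012000000000604000000000c00080000000300000010000a00000000020000000c000008000400000000000010000a00060000001200000e000000040000000012000e000007001400000000000a0800000014000000000f000800000000140000000f0b0000001200100c00000000000015000000100c000000000000150013000c00000000000015001311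

/-- The neighbours. -/
def nbTab : ℕ := 0x1f4601b5d017720138c00fa100bb80233501b60017730138f007d1003e80233601f4b0139100fa3007d2000000233901f5000fa800bbf007d5003ec0233701f4c01b6200bbb003ea000010233a01b680177b00bc1007d6000040233b0177c0139800faa003ee0000501f5201b690177e00fad003f10000701f530177f0139900bc5007da0000801b6b0139a00faf00bc6007dc003f3

/-- The sets of neighbours. -/
def maskTab : ℕ := 0x1f800000000000002e60000000000000335000000000000031e000000000000038b00000000000002cd000000000000027300000000000001d3000000000000016d00000000000000be

/-- The second translations. -/
def secTab : ℕ := 0x6ad3b100007a19da003c42aa9c0000000000000000000000000000000000000000000000000000003d14c100004c5aea0000000000000000000000b3a60d2f000000000000000000000000000000003bd7debf00000000000000000000003bf66efc000000000000b396d2bf0000000000000000000000000000000000001391000000000000000f5da20000000000000000000000000000000000000000012b18b5eb000000000000000000000000000000007781eee8000000000000779138fb000000000000ef319cbe000000000000000000000000000000003b9add8f00000000000000000000003bb96dcc000000000000000000000000000000012b09779300000000000000000000007744f1a000775437cb000000000000000000000000000000000000000001a23f0b920000000000000000000000b2d0718c00000000000000000000000000000000b2fe47f70000000000012afa393b00000000000000000000000000000000ee7a859d000000000000ee9911f60000000000000000000001a22fcd3a00000000000000000000000000000000000000000165bf5fc60165cea5f5000000000001ddca9739000000000000000000000000000000000000000000000000000000000000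

/-- The preliminary translations. -/
def jumpTab : ℕ := 0x0

/-- Commutators for the next highest root. -/
def gamTab : List ℕ := [0, 0, 15017, 0, 12018, 0, 10019, 10019, 10019, 10019]

/-- The data. -/
def dat : LData 10 6 20 := mkData rTab yTab tgTab nbTab maskTab secTab jumpTab

/-- The next highest root. -/
def al : Fin 20 := 19

/-- The conjugating word. -/
def word : List (Fin 8) := [4, 3, 2]

end Cfsg.Agent.E8Deg.T5
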