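import Cfsg.Agent.E8Deg.C8
import Cfsg.Agent.E8Deg.Block
import Cfsg.Agent.E8Deg.Chain
import Cfsg.Agent.Chev.SimpleAll
import Cfsg.Agent.Char.Basic

/-!
The Heisenberg radical of the highest root.
-/

set_option autoImplicit false
set_option maxRecDepth 100000

open scoped Classical

namespace Cfsg.Agent.E8Deg

open Cfsg.Lie Cfsg.Agent.Chev

universe u

/-- The bound. -/
def B8 (q : ℕ) : ℕ := q * (q ^ 12 + 1) * (q ^ 10 + 1) * (q ^ 6 + 1)

theorem chk_top8 : (∀ i, cFast 239 (T8.dat.R i) = true) ∧ (∀ δ, cFast 239 (T8.dat.yr δ) = true) ∧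
    ((∀ δ, Has T8.dat.yr (T7.dat.yr δ)) ∧ (∀ i, Has T8.dat.yr (T7.dat.R i)) ∧
      ∀ i ∈ T7.word, Has T8.dat.yr (chevE8.simple i) ∧
        Has T8.dat.yr (chevE8.neg (chevE8.simple i))) := by
  decide +kernel

theorem chk_top8' : T8.dat.R 0 = rA 1 ∧ T8.dat.yr T8.al = 226 ∧ T7.dat.R 0 = 226 ∧
    chevE8.cartan 7 239 = 1 ∧
    (([7] : List (Fin 8)).map Fin.val).foldr chevE8.reflectRoot 239 = rA 1 ∧
    (([7, 6, 5, 4, 3, 2, 1, 3, 4, 5, 6, 7] : List (Fin 8)).map Fin.val).foldr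
      chevE8.reflectRoot 239 = 226 := by
  decide +kernel

theorem lat8 : List.ofFn T8.dat.lat =
    [27, 26, 25, 24, 23, 22, 22, 21, 21, 20, 20, 19, 19, 18, 18, 18, 17, 17, 17, 16, 16, 16, 15,
      15, 15, 14, 14, 14, 13, 13, 13, 12, 12, 12, 11, 11, 11, 10, 10, 10, 9, 9, 9, 8, 8, 7, 7, 6,
      6, 5, 5, 4, 3, 2, 1, 0] ∧
    ((List.finRange 56).filter (fun μ => decide (Src T8.dat T8.al μ))).map T8.dat.lat =
      [27, 26, 25, 24, 23, 22, 22, 21, 20, 19, 18, 17] := by
  decide +kernel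

theorem orb8 (q : ℕ) : orbN T8.dat q = (q - 1) *
    (q ^ 27 + q ^ 26 + q ^ 25 + q ^ 24 + q ^ 23 + 2 * q ^ 22 + 2 * q ^ 21 + 2 * q ^ 20 +
      2 * q ^ 19 + 3 * q ^ 18 + 3 * q ^ 17 + 3 * q ^ 16 + 3 * q ^ 15 + 3 * q ^ 14 + 3 * q ^ 13 +
      3 * q ^ 12 + 3 * q ^ 11 + 3 * q ^ 10 + 3 * q ^ 9 + 2 * q ^ 8 + 2 * q ^ 7 + 2 * q ^ 6 +
      2 * q ^ 5 + q ^ 4 + q ^ 3 + q ^ 2 + q + 1) := by
  rw [orbN_list _ q lat8.1]
  simp only [List.map_cons, List.map_nil, List.sum_cons, List.sum_nil, pow_zero, pow_one]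
  ring

theorem src8 (q : ℕ) : ∃ r, ∑ μ, (if Src T8.dat T8.al μ then q ^ T8.dat.lat μ else 0) =
    q ^ 17 * (1 + q * r) := by
  refine ⟨q ^ 9 + q ^ 8 + q ^ 7 + q ^ 6 + q ^ 5 + 2 * q ^ 4 + q ^ 3 + q ^ 2 + q + 1, ?_⟩
  rw [srcN_list (L := T8.dat) (δ := T8.al) (q := q) rfl]
  have e : ((List.finRange 56).filter (fun μ => decide (Src T8.dat T8.al μ))).map
      (fun μ => q ^ T8.dat.lat μ) =
      (((List.finRange 56).filter (fun μ => decide (Src T8.dat T8.al μ))).map T8.dat.lat).map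
        (q ^ ·) := by
    rw [List.map_map]; rfl
  rw [e, lat8.2]
  simp only [List.map_cons, List.map_nil, List.sum_cons, List.sum_nil]
  ring

variable {F : Type u} [Field F] [Fintype F] {k : ℕ}
  (ρ : Representation ℂ (Gp F) (Fin k → ℂ))

theorem torus_pc (c : Fin chevE8.rank → Fˣ) : Commute (ρ (hh c)) (pc ρ 0) :=
  torus_zero fam_z (fun _ => show (239 : ℕ) < 240 by norm_num) (Commute.one_right _)

theorem setup8 : Setup ρ (pc ρ 0) T8.dat where
  good := T8.good
  ops := T8.ops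
  fam :=
    { idem := fam_z.pp_sq 0
      comm := fun i a => pc_commute (cOK_of_fast (chk_top8.1 i)) 0 a
      swap := fun i j a b => by
        rcases T8.swap j i with h | h | h
        · rw [← map_mul, ← map_mul, (xx_commute h b a).eq]
        all_goals
          rw [← map_mul, xx_one_term h b a, map_mul, map_mul,
            mul_assoc (ρ (xx (T8.dat.R j) b) * ρ (xx (T8.dat.R i) a)), zz_pc, Pi.zero_apply,
            zero_mul, AddChar.map_zero_eq_one, one_smul] }
  stab δ t := pc_commute (cOK_of_fast (chk_top8.2.1 δ)) 0 t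

theorem dd_z_eq {c : Fin 1 → F} (hc : c 0 ≠ 0) : dd ρ 1 rZ c = dd ρ 1 rZ (fun _ => (1 : F)) := by
  set w : Fin chevE8.rank → Fˣ := Pi.mulSingle ⟨7, by decide +kernel⟩ (Units.mk0 _ hc) with hw
  have h := fam_z.dd_conj (torus_shift (ρ := ρ) fam_z (fun _ => show (239 : ℕ) < 240 by norm_num)
    (c := w) (Commute.one_right _) (fun _ => (1 : F)))
  have e : (fun i : Fin 1 => (1 : F) * (chiU w (rZ i) : F)) = c := by
    funext i
    rw [one_mul, hw, chiU_single, show chevE8.cartan 7 (rZ i) = 1 from chk_top8'.2.2.2.1, zpow_one,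
      Units.val_mk0]
    exact congrArg c (Subsingleton.elim _ _)
  rwa [e] at h

/-- Splitting along the central characters. -/
theorem split_center (X : EndV k) :
    tr X = tr (X * pc ρ 0) +
      ∑ c ∈ (Finset.univ : Finset (Fin 1 → F)).erase 0, tr (X * pc ρ c) := by
  conv_lhs => rw [← mul_one X, ← Fam.sum_pp (ρ := ρ) (P := (1 : EndV k)) (R := rZ), Finset.mul_sum,
    tr, map_sum]
  exact (Finset.add_sum_erase _ _ (Finset.mem_univ _)).symm

theorem ne_zero_of_mem {c : Fin 1 → F}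
    (h : c ∈ (Finset.univ : Finset (Fin 1 → F)).erase 0) : c 0 ≠ 0 := fun h0 =>
  Finset.ne_of_mem_erase h (funext fun i => by rw [Subsingleton.elim i 0]; exact h0)

theorem card_center : ((Finset.univ : Finset (Fin 1 → F)).erase 0).card = Fintype.card F - 1 := by
  rw [Finset.card_erase_of_mem (Finset.mem_univ _), Finset.card_univ, Fintype.card_fun,
    Fintype.card_fin, pow_one]

/-- The conjugate root groups have the same total trace. -/
theorem sum_conj {r : ℕ} (w : List (Fin 8))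
    (h : (w.map Fin.val).foldr chevE8.reflectRoot 239 = r) :
    ∑ t : F, tr (ρ (xx r t)) = ∑ t : F, tr (ρ (xx 239 t)) := by
  obtain ⟨c, hc, hconj⟩ := nn_conj (F := F) w (show 239 < chevE8.nroots by decide +kernel) h
  refine (Fintype.sum_equiv (Equiv.mulLeft₀ c hc) _ _ fun t => ?_).symm
  rw [Equiv.mulLeft₀_apply]
  refine Fam.tr_conj (ρ := ρ) (g := nn w) ?_
  rw [← map_mul, hconj t, map_mul]

theorem sum_zz : ∑ t : F, tr (ρ (xx 239 t)) = (Fintype.card F : ℂ) * tr (pc ρ 0) := by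
  have h := (fam_z (F := F) (ρ := ρ)).sum_root 0
  simp only [mul_one] at h
  rw [show rZ 0 = 239 from rfl] at h
  rw [h, pc, fam_z.tr_pp, Finset.sum_eq_single (0 : Fin 1 → F)]
  · intro b hb hne
    exact absurd (funext fun i => by
      rw [Subsingleton.elim i 0]; exact (Finset.mem_filter.1 hb).2) hne
  · simp

theorem center_pos (hρ : ρ.IsIrreducible) (hk : 2 ≤ k) : 0 < dd ρ 1 rZ (fun _ => (1 : F)) := by
  haveI := (Chev.e8_simple (F := F)).1
  by_contra h0
  have h : ∀ c : Fin 1 → F, c ≠ 0 → dd ρ 1 rZ c = 0 := fun c hc => by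
    rw [dd_z_eq ρ fun h => hc (funext fun i => by rw [Subsingleton.elim i 0]; exact h)]
    omega
  have hz := Fam.triv_of_support fam_z h 0 (1 : F)
  rw [mul_one, show rZ 0 = 239 from rfl] at hz
  have hker : ρ.ker = ⊤ := by
    rcases (MonoidHom.normal_ker ρ).eq_bot_or_eq_top with hb | hb
    · exfalso
      have hm : xx 239 (1 : F) ∈ ρ.ker := MonoidHom.mem_ker.2 hz
      rw [hb, Subgroup.mem_bot, xx_eq_one_iff (by decide +kernel)] at hm
      exact one_ne_zero hm
    · exact hb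
  obtain ⟨-, hsub⟩ := Char.isIrreducible_iff.1 hρ
  haveI : Nonempty (Fin k) := ⟨⟨0, by omega⟩⟩
  obtain ⟨x, hx⟩ := exists_ne (0 : Fin k → ℂ)
  have hinv := hsub (Submodule.span ℂ {x}) fun g v hv => by
    rw [show ρ g = 1 from MonoidHom.mem_ker.1 (hker ▸ Subgroup.mem_top g)]
    exact hv
  rcases hinv with h | h
  · exact hx (Submodule.span_singleton_eq_bot.1 h)
  · have := finrank_span_singleton (K := ℂ) hx
    rw [h, finrank_top, Module.finrank_pi, Fintype.card_fin] at this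
    omega

theorem numeric8 (q : ℕ) (hq : 2 ≤ q) : B8 q ≤ q ^ 29 + (q - 1) * q ^ 28 ∧
    B8 q ≤ 2 * orbN T8.dat q + 2 * ((q - 1) * q ^ 28) := by
  obtain ⟨r, rfl⟩ : ∃ r, q = r + 2 := ⟨q - 2, by omega⟩
  rw [orb8, B8, show r + 2 - 1 = r + 1 from rfl]
  have h : ∀ e, 0 ≤ r ^ e := fun e => Nat.zero_le _
  constructor <;>
  · ring_nf
    linarith [h 1, h 2, h 3, h 4, h 5, h 6, h 7, h 8, h 9, h 10, h 11, h 12, h 13, h 14, h 15,
      h 16, h 17, h 18, h 19, h 20, h 21, h 22, h 23, h 24, h 25, h 26, h 27, h 28, h 29]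

/-- The bound from the radical. -/
theorem top_bound (hρ : ρ.IsIrreducible) (hk : 2 ≤ k) :
    B8 (Fintype.card F) ≤ k ∨
      orbN T8.dat (Fintype.card F) + (Fintype.card F - 1) * Fintype.card F ^ 28 +
        T7b (Fintype.card F) ≤ k := by
  set q := Fintype.card F with hqdef
  have hq2 : 2 ≤ q := Fintype.one_lt_card
  have hqC : (q : ℂ) ≠ 0 := Nat.cast_ne_zero.2 (by omega)
  obtain ⟨hbig, hdbl⟩ := numeric8 q hq2
  set one : Fin 1 → F := fun _ => 1 with honedef
  set m := dd ρ (pc ρ one) rA 0 with hmdef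
  have hone : one 0 ≠ 0 := one_ne_zero
  have hdc : ∀ c : Fin 1 → F, c 0 ≠ 0 → dd ρ (pc ρ c) rA 0 = m := fun c hc => by
    have h1 := dd_c_eq (ρ := ρ) hc
    rw [dd_z_eq ρ hc, ← honedef, dd_c_eq (ρ := ρ) hone] at h1
    exact (Nat.eq_of_mul_eq_mul_left (pow_pos Fintype.card_pos _) h1).symm
  have hm : 1 ≤ m := by
    have h := center_pos ρ hρ hk
    rw [← honedef, dd_c_eq (ρ := ρ) hone] at h
    exact Nat.pos_of_ne_zero fun h0 => by
      rw [← hmdef, h0, mul_zero] at h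
      omega
  have hS := setup8 ρ
  set s := ∑ B : Fin 56 → F, dd ρ (pc ρ 0) T8.dat.R B with hsdef
  have htr : tr (pc ρ 0) = (s : ℂ) := hS.fam.sum_dd
  have hks : k = s + (q - 1) * (q ^ 28 * m) := by
    have h := split_center ρ (1 : EndV k)
    simp only [one_mul] at h
    rw [tr, LinearMap.trace_one, Module.finrank_pi, Fintype.card_fin, htr,
      Finset.sum_congr rfl fun c hc => by
        rw [pc, fam_z.tr_pp, dd_c_eq (ne_zero_of_mem hc), hdc c (ne_zero_of_mem hc)],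
      Finset.sum_const, card_center, nsmul_eq_mul, ← Nat.cast_mul, ← Nat.cast_add] at h
    exact_mod_cast h
  -- the first root group
  have hxs : (q : ℂ) * s = (∑ t : F, tr (ρ (xx (T8.dat.R 0) t) * pc ρ 0)) +
      ((q - 1 : ℕ) : ℂ) * ((q : ℂ) * ((q : ℂ) ^ 27 * m)) := by
    rw [← htr, ← sum_zz, ← sum_conj ρ _ chk_top8'.2.2.2.2.1, chk_top8'.1,
      Finset.sum_congr rfl fun t _ => split_center ρ (ρ (xx (rA 1) t)), Finset.sum_add_distrib,
      Finset.sum_comm]
    congr 1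
    rw [Finset.sum_congr rfl fun c hc =>
        show ∑ t : F, tr (ρ (xx (rA 1) t) * pc ρ c) = (q : ℂ) * ((q : ℂ) ^ 27 * m) by
          rw [sum_xs (ne_zero_of_mem hc), hdc c (ne_zero_of_mem hc)],
      Finset.sum_const, card_center, nsmul_eq_mul]
  rcases support hS with h | h | ⟨d, hd1, hd⟩
  · exfalso
    rw [Finset.sum_congr rfl fun t _ => by rw [Fam.triv_of_support hS.fam h 0 t, htr],
      Finset.sum_const, Finset.card_univ, nsmul_eq_mul, ← hqdef, left_eq_add] at hxs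
    have hq1 : ((q - 1 : ℕ) : ℂ) ≠ 0 := Nat.cast_ne_zero.2 (by omega)
    simp [hq1, hqC, show m ≠ 0 by omega] at hxs
  · left
    refine hbig.trans ?_
    rw [hks]
    refine Nat.add_le_add h (Nat.mul_le_mul_left _ ?_)
    exact Nat.le_mul_of_pos_right _ hm
  · have hfirst := sum_first hS hd (o := 0) rfl
    rw [htr, ← hqdef] at hfirst
    have hdm : d = m := by
      have e : (q : ℂ) * ((cell T8.dat q 0 : ℂ) * d) =
          ((q - 1 : ℕ) : ℂ) * ((q : ℂ) * ((q : ℂ) ^ 27 * m)) := by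
        linear_combination hfirst + hxs
      have e' : q * (cell T8.dat q 0 * d) = (q - 1) * (q * (q ^ 27 * m)) := by exact_mod_cast e
      rw [cell, show T8.dat.lat 0 = 27 by decide +kernel] at e'
      refine Nat.eq_of_mul_eq_mul_left
        (show 0 < q * ((q - 1) * q ^ 27) from
          Nat.mul_pos (by omega) (Nat.mul_pos (by omega) (pow_pos (by omega) _))) ?_
      linarith
    have hs : s = dd ρ (pc ρ 0) T8.dat.R 0 + orbN T8.dat q * d := by
      have := trace_split hS hd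
      rw [htr] at this
      exact_mod_cast this
    rcases Nat.lt_or_ge d 2 with h2 | h2
    swap
    · left
      refine hdbl.trans ?_
      rw [hks, hs, ← hdm]
      have h1 := Nat.mul_le_mul_left (orbN T8.dat q) h2
      have h3 := Nat.mul_le_mul_left ((q - 1) * q ^ 28) h2
      rw [mul_assoc (q - 1) (q ^ 28) d] at h3
      omega
    right
    obtain rfl : d = 1 := by omega
    -- the next radical
    have hfix : ∀ μ, ¬ Src T8.dat T8.al μ → ∀ a : F, a ≠ 0 → ∀ t : F,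
        ρ (xx (T8.dat.yr T8.al) t) * pp ρ (pc ρ 0) T8.dat.R (Pi.single μ a) =
          pp ρ (pc ρ 0) T8.dat.R (Pi.single μ a) := fun μ hμ a ha t => by
      have hd1 : dd ρ (pc ρ 0) T8.dat.R (Pi.single μ a) = 1 := by
        rw [← pt_zero (L := T8.dat) μ a ha]
        exact hd.1 _
      obtain ⟨g1, g2, g3⟩ := T8.gam μ hμ
      rcases g3 with g3 | g3
      · exact fix_commutator hS hd1 (Or.inl rfl) g1 g2 g3 t
      · exact fix_commutator hS hd1 (Or.inr rfl) g1 g2 g3 t
    have hne : ∃ t : F, ρ (xx (T7.dat.R 0) t) * pp ρ (pc ρ 0) T8.dat.R 0 ≠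
        pp ρ (pc ρ 0) T8.dat.R 0 := by
      rw [chk_top8'.2.2.1, ← chk_top8'.2.1]
      by_contra hcon
      push Not at hcon
      choose! w hw1 hw2 using fun (c : Fin 1 → F) (hc : c 0 ≠ 0) => sum_al (ρ := ρ) hc
      have h := sum_levi hS hd (δ := T8.al) T8.com hfix
      have e0 : ∑ t : F, tr (ρ (xx (T8.dat.yr T8.al) t) * pp ρ (pc ρ 0) T8.dat.R 0) =
          (q : ℂ) * (dd ρ (pc ρ 0) T8.dat.R 0 : ℂ) := by
        rw [Finset.sum_congr rfl fun t _ => by rw [hcon t, hS.fam.tr_pp], Finset.sum_const,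
          Finset.card_univ, nsmul_eq_mul]
      rw [e0, chk_top8'.2.1, ← hqdef] at h
      have h2 : (q : ℂ) * s = (∑ t : F, tr (ρ (xx 226 t) * pc ρ 0)) +
          ∑ c ∈ (Finset.univ : Finset (Fin 1 → F)).erase 0, (w c : ℂ) := by
        rw [← htr, ← sum_zz, ← sum_conj ρ _ chk_top8'.2.2.2.2.2,
          Finset.sum_congr rfl fun t _ => split_center ρ (ρ (xx 226 t)), Finset.sum_add_distrib,
          Finset.sum_comm]
        congr 1
        exact Finset.sum_congr rfl fun c hc => hw2 c (ne_zero_of_mem hc)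
      set W := ∑ c ∈ (Finset.univ : Finset (Fin 1 → F)).erase 0, w c with hWdef
      have hW : q ^ 18 ∣ W := Finset.dvd_sum fun c hc => hw1 c (ne_zero_of_mem hc)
      set A := ∑ μ, (if Src T8.dat T8.al μ then cell T8.dat q μ else 0) with hA
      set A' := ∑ μ, (if Src T8.dat T8.al μ then 0 else cell T8.dat q μ) with hA'
      have eO : orbN T8.dat q = A + A' := by
        rw [hA, hA', ← Finset.sum_add_distrib, orbN]
        exact Finset.sum_congr rfl fun μ _ => by split_ifs <;> simp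
      have e2 : ∑ μ, (cell T8.dat q μ : ℂ) * (if Src T8.dat T8.al μ then 1 else (q : ℂ)) =
          (A : ℂ) + (q : ℂ) * A' := by
        rw [hA, hA', Nat.cast_sum, Nat.cast_sum, Finset.mul_sum, ← Finset.sum_add_distrib]
        exact Finset.sum_congr rfl fun μ _ => by split_ifs <;> simp [mul_comm]
      rw [e2] at h
      rw [h, ← Nat.cast_sum, ← hWdef, hs, eO, mul_one] at h2
      push_cast at h2
      have h3 : A + W = q * A := by
        have : (A : ℂ) + (W : ℂ) = (q : ℂ) * A := by linear_combination -h2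
        exact_mod_cast this
      have h4 : A = (q - 1) * ∑ μ, (if Src T8.dat T8.al μ then q ^ T8.dat.lat μ else 0) := by
        rw [hA, Finset.mul_sum]
        exact Finset.sum_congr rfl fun μ _ => by split_ifs <;> simp [cell]
      obtain ⟨r, hr⟩ := src8 q
      rw [hr] at h4
      obtain ⟨j, hj⟩ := hW
      obtain ⟨p, hp⟩ : ∃ p, q = p + 1 := ⟨q - 1, by omega⟩
      have h5 : (p : ℤ) * p * (1 + (q : ℤ) * r) = (q : ℤ) * j := by
        have e3 : (W : ℤ) = (q : ℤ) ^ 18 * j := by exact_mod_cast hj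
        have e4 : (A : ℤ) = (p : ℤ) * ((q : ℤ) ^ 17 * (1 + (q : ℤ) * r)) := by
          rw [h4, hp, Nat.add_sub_cancel]; push_cast; ring
        have e5 : (A : ℤ) + W = (q : ℤ) * A := by exact_mod_cast h3
        have hqp : (q : ℤ) = p + 1 := by exact_mod_cast hp
        refine mul_left_cancel₀ (pow_ne_zero 17 (show (q : ℤ) ≠ 0 by omega)) ?_
        linear_combination -e5 + e3 + (1 - (q : ℤ)) * e4 -
          (p : ℤ) * (q : ℤ) ^ 17 * (1 + (q : ℤ) * r) * hqp
      have h6 : (q : ℤ) ∣ 1 := by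
        have hqp : (p : ℤ) = q - 1 := by rw [hp]; push_cast; ring
        rw [hqp] at h5
        exact ⟨(j : ℤ) - ((q : ℤ) - 1) * ((q : ℤ) - 1) * r - (q : ℤ) + 2, by linear_combination h5⟩
      have := Int.le_of_dvd one_pos h6
      omega
    have hB : Base ρ (pc ρ 0) T8.dat.yr :=
      ⟨fam_z.pp_sq 0, hS.stab, torus_pc ρ⟩
    obtain ⟨D, hD, hT⟩ := level7 (hB.child hS T8.root_lt.1) chk_top8.2.2 hne
    rw [hS.fam.tr_pp] at hD
    obtain rfl : dd ρ (pc ρ 0) T8.dat.R 0 = D := by exact_mod_cast hD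
    rw [← hqdef] at hT
    rw [hks, hs, ← hdm, mul_one, mul_one]
    omega

end Cfsg.Agent.E8Deg
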